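import Cfsg.Agent.SymBlocks.Defect
import Cfsg.Agent.Blocks.Covering.Basic
import Cfsg.Agent.Blocks.HeightZero.RegularPair
import Mathlib.GroupTheory.SpecificGroups.Alternating

/-!
# Defect groups of blocks of alternating groups

If a block of `S_n` covers a block `b` of `A_n`, an element of order `p` with `w` cycles where a
character of the covering block does not vanish gives `w ≤ s` (`w - 1 ≤ s` for an odd permutation),
`s` bounding the sectional rank of the defect groups of `b`.
-/

set_option autoImplicit false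
set_option linter.style.haveILetI false

open Cfsg

namespace CfsgLib.SymBlocks

open Equiv

variable {α : Type*} [Fintype α] [DecidableEq α]

/-- The even elements of the orbitwise group of a subgroup of the alternating group lie in it. -/
theorem orbitwiseGroup_inf_alt_le {p : ℕ} [Fact p.Prime] {D : Subgroup (alternatingGroup α)}
    (hD : IsPGroup p D)
    (hcore : (Cfsg.pCore p (Subgroup.normalizer (D : Set (alternatingGroup α)))).map
      (Subgroup.normalizer (D : Set (alternatingGroup α))).subtype = D)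
    {z : alternatingGroup α}
    (hz : (z : Perm α) ∈ orbitwiseGroup (D.map (alternatingGroup α).subtype)) : z ∈ D := by
  set DS := D.map (alternatingGroup α).subtype with hDS
  set N := Subgroup.normalizer (D : Set (alternatingGroup α)) with hN
  have hO : IsPGroup p ((orbitwiseGroup DS).comap (alternatingGroup α).subtype) :=
    (isPGroup_orbitwiseGroup (hD.map _)).comap_of_injective _ (alternatingGroup α).subtype_injective
  have hle : (orbitwiseGroup DS).comap (alternatingGroup α).subtype ≤ N := fun y hy => by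
    have hc : ∀ d ∈ D, y * d = d * y := fun d hd => Subtype.ext (hy.1 _ ⟨d, hd, rfl⟩)
    rw [hN, Subgroup.mem_normalizer_iff]
    intro d
    refine ⟨fun hd => by rwa [hc d hd, mul_inv_cancel_right], fun hd => ?_⟩
    have h := hc _ hd
    have heq : y * (y * d * y⁻¹) * y⁻¹ = y * d * y⁻¹ := by rw [h, mul_inv_cancel_right]
    have h2 : y * d * y⁻¹ = d := mul_left_cancel (mul_right_cancel heq)
    rwa [h2] at hd
  have hnormal : (((orbitwiseGroup DS).comap (alternatingGroup α).subtype).subgroupOf N).Normal := ⟨fun w hw g => by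
    rw [Subgroup.mem_subgroupOf] at hw ⊢
    refine conj_mem_orbitwiseGroup ?_ hw
    rw [Subgroup.mem_normalizer_iff]
    intro d
    constructor
    · rintro ⟨e, he, rfl⟩
      exact ⟨_, (Subgroup.mem_normalizer_iff.1 g.2 e).1 he, rfl⟩
    · rintro ⟨e, he, hed⟩
      refine ⟨(g : (alternatingGroup α))⁻¹ * e * g, (Subgroup.mem_normalizer_iff''.1 g.2 e).1 he, ?_⟩
      rw [map_mul, map_mul, map_inv, hed]
      simp only [Subgroup.coe_subtype]
      group⟩
  rw [← hcore]
  exact ⟨⟨z, hle hz⟩, CfsgLib.LocalP.le_pCore hnormal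
    (hO.of_equiv (Subgroup.subgroupOfEquivOfLe hle).symm) hz, rfl⟩

theorem mem_alt_of_pow_odd {z : Perm α} {k : ℕ} (hk : Odd k) (hz : z ^ k = 1) :
    z ∈ alternatingGroup α := by
  rw [Perm.mem_alternatingGroup]
  have h : Perm.sign z ^ k = 1 := by rw [← map_pow, hz, map_one]
  rcases Int.units_eq_one_or (Perm.sign z) with h1 | h1
  · exact h1
  · rw [h1, hk.neg_one_pow] at h
    exact absurd h (by decide)

/-- An element of order prime to `p` of the alternating group centralising a `p`-subgroup `D` with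
`O_p(N(D)) = D` fixes the points moved by `D`. -/
theorem fix_of_mem_centralizer_alt {p : ℕ} [Fact p.Prime] {D : Subgroup (alternatingGroup α)}
    (hD : IsPGroup p D)
    (hcore : (Cfsg.pCore p (Subgroup.normalizer (D : Set (alternatingGroup α)))).map
      (Subgroup.normalizer (D : Set (alternatingGroup α))).subtype = D)
    {y : alternatingGroup α} (hy : ∀ d ∈ D, d * y = y * d) (hyr : ¬ p ∣ orderOf y)
    {a : α} (ha : ∃ d ∈ D, (d : Perm α) a ≠ a) : (y : Perm α) a = a := by
  classical
  set DS := D.map (alternatingGroup α).subtype with hDS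
  have hDS' : IsPGroup p DS := hD.map _
  set x : Perm α := (y : Perm α) with hxdef
  have hx : ∀ d ∈ DS, d * x = x * d := by
    rintro _ ⟨d, hd, rfl⟩
    exact congrArg Subtype.val (hy d hd)
  have hxr : ¬ p ∣ orderOf x := by rwa [hxdef, Subgroup.orderOf_coe]
  let O : Set α := {b | ∃ d ∈ DS, d a = b}
  have hOa : a ∈ O := ⟨1, DS.one_mem, rfl⟩
  have hstab : ∀ e ∈ DS, ∀ b, b ∈ O ↔ e b ∈ O := fun e he b => by
    constructor
    · rintro ⟨d, hd, rfl⟩
      exact ⟨e * d, DS.mul_mem he hd, rfl⟩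
    · rintro ⟨d, hd, hdb⟩
      exact ⟨e⁻¹ * d, DS.mul_mem (DS.inv_mem he) hd, by
        rw [Perm.mul_apply, hdb]; exact Equiv.symm_apply_apply e b⟩
  -- the action on the orbit of `a`, and a non-trivial central element of its image
  let f : DS →* Perm O :=
    { toFun := fun e => (e : Perm α).subtypePerm fun b => (hstab e e.2 b).symm
      map_one' := Equiv.ext fun b => Subtype.ext rfl
      map_mul' := fun e e' => Equiv.ext fun b => Subtype.ext rfl }
  obtain ⟨d₁, hd₁, hd₁a⟩ := ha
  haveI : Nontrivial f.range := by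
    refine ⟨f.rangeRestrict ⟨_, ⟨d₁, hd₁, rfl⟩⟩, 1, fun h => hd₁a ?_⟩
    exact congrArg Subtype.val (DFunLike.congr_fun (congrArg Subtype.val h) ⟨a, hOa⟩)
  haveI : Nontrivial (Subgroup.center f.range) :=
    (hDS'.of_surjective f.rangeRestrict f.rangeRestrict_surjective).center_nontrivial
  obtain ⟨⟨⟨c, hc⟩, hcz⟩, hc1⟩ := exists_ne (1 : Subgroup.center f.range)
  obtain ⟨d, rfl⟩ := hc
  let z : Perm α := Perm.ofSubtype (f d)
  have hzO : ∀ b ∈ O, z b = (d : Perm α) b := fun b hb => by
    rw [show z b = f d ⟨b, hb⟩ from Perm.ofSubtype_apply_of_mem _ hb]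
    rfl
  have hzn : ∀ b, b ∉ O → z b = b := fun b hb => Perm.ofSubtype_apply_of_not_mem _ hb
  have hzmem : z ∈ orbitwiseGroup DS := by
    refine ⟨fun e he => Equiv.ext fun b => ?_, fun b => ?_⟩
    · rw [Perm.mul_apply, Perm.mul_apply]
      by_cases hb : b ∈ O
      · rw [hzO b hb, hzO _ ((hstab e he b).1 hb)]
        have h := congrArg Subtype.val (Subgroup.mem_center_iff.1 hcz (f.rangeRestrict ⟨e, he⟩))
        exact (congrArg Subtype.val (DFunLike.congr_fun h ⟨b, hb⟩)).symm
      · rw [hzn b hb, hzn _ fun h => hb ((hstab e he b).2 h)]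
    · by_cases hb : b ∈ O
      · exact ⟨d, d.2, fun e he => hzO _ ((hstab e he b).1 hb)⟩
      · exact ⟨1, DS.one_mem, fun e he => hzn _ fun h => hb ((hstab e he b).2 h)⟩
  obtain ⟨b, hbO, hbne⟩ : ∃ b ∈ O, z b ≠ b := by
    by_contra! hall
    exact hc1 (Subtype.ext (Subtype.ext (Equiv.ext fun b => Subtype.ext (by
      change (d : Perm α) b = b
      rw [← hzO b b.2]
      exact hall b b.2))))
  -- `z` is central in the orbitwise group
  have hzc : ∀ w ∈ orbitwiseGroup DS, z * w = w * z := fun w hw => Equiv.ext fun c => by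
    rw [Perm.mul_apply, Perm.mul_apply]
    obtain ⟨e, he, hew⟩ := hw.2 c
    have hwc : w c = e c := by simpa using hew 1 DS.one_mem
    by_cases hcO : c ∈ O
    · rw [hzO c hcO, hzO _ (hwc ▸ (hstab e he c).1 hcO)]
      exact (DFunLike.congr_fun (hw.1 d d.2) c).symm
    · rw [hzn c hcO, hzn _ fun h => hcO ((hstab e he c).2 (hwc ▸ h))]
  -- `x` commutes with `z`
  have hxA : x ∈ (alternatingGroup α) := y.2
  have hzx : z * x = x * z := by
    obtain ⟨k, hk⟩ := (IsPGroup.iff_orderOf.1 (isPGroup_orbitwiseGroup hDS')) ⟨z, hzmem⟩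
    rw [Subgroup.orderOf_mk] at hk
    rcases Nat.Prime.eq_two_or_odd' (Fact.out : p.Prime) with h2 | hodd
    · have hxN : x ∈ Subgroup.normalizer (DS : Set (Perm α)) := by
        rw [Subgroup.mem_normalizer_iff]
        intro e
        refine ⟨fun he => by rwa [← hx e he, mul_inv_cancel_right], fun he => ?_⟩
        have h := hx _ he
        rw [inv_mul_cancel_right] at h
        rwa [← mul_left_cancel h] at he
      set z₁ : Perm α := x * z * x⁻¹ with hz₁
      have hz₁mem : z₁ ∈ orbitwiseGroup DS := conj_mem_orbitwiseGroup hxN hzmem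
      have hA : z * z₁ ∈ (alternatingGroup α) := by
        rw [Perm.mem_alternatingGroup, hz₁]
        rcases Int.units_eq_one_or (Perm.sign z) with h1 | h1 <;>
          rcases Int.units_eq_one_or (Perm.sign x) with h3 | h3 <;> simp [h1, h3]
      have hD' : (⟨z * z₁, hA⟩ : (alternatingGroup α)) ∈ D :=
        orbitwiseGroup_inf_alt_le hD hcore (mul_mem hzmem hz₁mem)
      have h := hx _ (Subgroup.mem_map_of_mem (alternatingGroup α).subtype hD')
      change z * z₁ * x = x * (z * z₁) at h
      have h' : z * z₁ = z₁ * (x * z₁ * x⁻¹) := by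
        rw [show z₁ * (x * z₁ * x⁻¹) = x * (z * z₁) * x⁻¹ by rw [hz₁]; group, ← h,
          mul_inv_cancel_right]
      rw [hzc z₁ hz₁mem] at h'
      have hxx : Commute (x * x) z := by
        have h'' := mul_left_cancel h'
        rw [hz₁, ← mul_assoc x, ← mul_assoc x, mul_assoc _ x⁻¹ x⁻¹, ← mul_inv_rev] at h''
        show x * x * z = z * (x * x)
        conv_rhs => rw [h'', inv_mul_cancel_right]
      obtain ⟨j, hj⟩ : Odd (orderOf x) := by
        rw [← Nat.not_even_iff_odd]
        exact fun he => hxr (h2 ▸ he.two_dvd)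
      have hx2 : x = (x * x) ^ (j + 1) := by
        rw [← pow_two, ← pow_mul, show 2 * (j + 1) = orderOf x + 1 by omega, pow_succ,
          pow_orderOf_eq_one, one_mul]
      rw [hx2]
      exact (hxx.pow_left _).symm.eq
    · have hzA : z ∈ (alternatingGroup α) := mem_alt_of_pow_odd (hodd.pow (n := k))
        (by rw [← hk, pow_orderOf_eq_one])
      exact hx z ⟨⟨z, hzA⟩, orbitwiseGroup_inf_alt_le hD hcore hzmem, rfl⟩
  -- `x` maps the orbit to itself
  have hxb : x b ∈ O := by
    by_contra hn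
    apply hbne
    have h := DFunLike.congr_fun hzx b
    rw [Perm.mul_apply, Perm.mul_apply, hzn _ hn] at h
    exact (x.injective h).symm
  obtain ⟨e, he, rfl⟩ := hbO
  rw [← Perm.mul_apply x e, ← hx e he, Perm.mul_apply] at hxb
  obtain ⟨t, ht, hta⟩ := (hstab e he (x a)).2 hxb
  -- so it agrees at `a` with an element of `D`, which must fix `a`
  have hpow : ∀ m : ℕ, (x ^ m) a = (t ^ m) a := fun m => by
    induction m with
    | zero => rfl
    | succ m ih =>
      rw [pow_succ', Perm.mul_apply, ih, ← Perm.mul_apply x, ← hx _ (DS.pow_mem ht m),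
        Perm.mul_apply, ← hta, ← Perm.mul_apply, ← pow_succ]
  have hfix : Function.IsFixedPt (t ^ orderOf x : Perm α) a := by
    rw [Function.IsFixedPt, ← hpow, pow_orderOf_eq_one, Perm.one_apply]
  obtain ⟨k, hk⟩ := IsPGroup.iff_orderOf.1 hDS' ⟨t, ht⟩
  rw [Subgroup.orderOf_mk] at hk
  have hco : Nat.Coprime (orderOf x) (orderOf t) :=
    hk ▸ Nat.Coprime.pow_right _ (((Fact.out : p.Prime).coprime_iff_not_dvd.2 hxr).symm)
  obtain ⟨m, hm⟩ := exists_pow_eq_self_of_coprime hco
  rw [← hta]
  have h2 : Function.IsFixedPt ((t ^ orderOf x) ^ m : Perm α) a := hfix.perm_pow m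
  rwa [hm] at h2

/-- A permutation of order `p` with `w` cycles is even unless `p = 2` and `w` is odd. -/
theorem mem_alt_of_cycles {p : ℕ} [hp : Fact p.Prime] {u : Perm α} (hu : u ^ p = 1) {w : ℕ}
    (hw : u.support.card = p * w) (hpar : p ≠ 2 ∨ Even w) : u ∈ alternatingGroup α := by
  rcases Nat.Prime.eq_two_or_odd' hp.out with h2 | hodd
  · subst h2
    rw [Perm.mem_alternatingGroup, Perm.sign_of_cycleType, Perm.sum_cycleType, hw]
    have hc : Multiset.card u.cycleType = w := by
      have h1 : u.cycleType.sum = Multiset.card u.cycleType * 2 := by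
        conv_lhs => rw [Perm.cycleType_of_pow_prime_eq_one hu, Multiset.sum_replicate, smul_eq_mul]
      rw [Perm.sum_cycleType, hw] at h1
      omega
    have hev : Even w := hpar.resolve_left (fun h => h rfl)
    rw [hc]
    exact (((even_two.mul_right w).add hev)).neg_one_pow
  · exact mem_alt_of_pow_odd hodd hu

theorem two_nsmul_klein : ∀ v : ZMod 2 × ZMod 2, 2 • v = 0 := by decide

/-- Translations of a Klein four group are even. -/
theorem sign_addLeft_klein : ∀ v : ZMod 2 × ZMod 2, Perm.sign (Equiv.addLeft v) = 1 := by decide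

/-- An elementary abelian group of even permutations of order `p ^ w` fixing what a permutation of
order `p` with `w` cycles fixes. -/
theorem exists_even_group {p : ℕ} [Fact p.Prime] {u : Perm α} (hu : u ^ p = 1) {w : ℕ}
    (hw : u.support.card = p * w) (hpar : p ≠ 2 ∨ Even w) :
    ∃ E : Subgroup (Perm α), Nat.card E = p ^ w ∧ E ≤ alternatingGroup α ∧
      (∀ a ∈ E, ∀ b ∈ E, a * b = b * a) ∧
      (∀ a ∈ E, a ^ p = 1) ∧ ∀ z ∈ E, ∀ i, u i = i → z i = i := by
  classical
  rcases Nat.Prime.eq_two_or_odd' (Fact.out : p.Prime) with h2 | hodd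
  · subst h2
    obtain ⟨m, rfl⟩ : 2 ∣ w := (hpar.resolve_left fun h => h rfl).two_dvd
    have hcard : Fintype.card (Fin m × (ZMod 2 × ZMod 2)) =
        Fintype.card {i // i ∈ u.support} := by
      rw [Fintype.card_coe, hw, Fintype.card_prod, Fintype.card_prod, Fintype.card_fin, ZMod.card]
      ring
    let e : Fin m × (ZMod 2 × ZMod 2) ≃ {i // i ∈ u.support} := Fintype.equivOfCardEq hcard
    let φ : Multiplicative (Fin m → ZMod 2 × ZMod 2) →* Perm α :=
      { toFun := fun f => Perm.ofSubtype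
          (e.permCongr (Equiv.prodCongrRight fun i => Equiv.addLeft (Multiplicative.toAdd f i)))
        map_one' := by
          convert map_one (Perm.ofSubtype (p := fun i => i ∈ u.support))
          ext1 i
          obtain ⟨⟨j, v⟩, rfl⟩ := e.surjective i
          simp [Equiv.permCongr_apply, Equiv.prodCongrRight]
        map_mul' := fun f g => by
          rw [← map_mul]
          congr 1
          ext1 i
          obtain ⟨⟨j, v⟩, rfl⟩ := e.surjective i
          simp [Perm.mul_apply, Equiv.permCongr_apply, Equiv.prodCongrRight] }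
    have hinj : Function.Injective φ := fun f g h => by
      have h1 := Perm.ofSubtype_injective h
      refine Multiplicative.toAdd.injective (funext fun i => ?_)
      have h2 := congrArg Prod.snd (DFunLike.congr_fun (e.permCongr.injective h1) (i, 0))
      simpa using h2
    refine ⟨φ.range, ?_, ?_, ?_, ?_, ?_⟩
    · rw [← Nat.card_congr (MonoidHom.ofInjective hinj).toEquiv, Nat.card_eq_fintype_card,
        Fintype.card_multiplicative, Fintype.card_fun, Fintype.card_prod, ZMod.card,
        Fintype.card_fin, pow_mul]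
      norm_num
    · rintro _ ⟨f, rfl⟩
      rw [Perm.mem_alternatingGroup]
      show Perm.sign (Perm.ofSubtype _) = 1
      rw [Perm.sign_ofSubtype, Perm.sign_permCongr, Perm.sign_prodCongrRight]
      refine Finset.prod_eq_one fun i _ => ?_
      exact sign_addLeft_klein _
    · rintro _ ⟨f, rfl⟩ _ ⟨g, rfl⟩
      rw [← map_mul, ← map_mul, mul_comm]
    · rintro _ ⟨f, rfl⟩
      rw [← map_pow, show f ^ 2 = 1 from Multiplicative.toAdd.injective (funext fun i => ?_),
        map_one]
      simpa using two_nsmul_klein (Multiplicative.toAdd f i)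
    · rintro _ ⟨f, rfl⟩ i hi
      exact Perm.ofSubtype_apply_of_not_mem _ (by simpa using hi)
  · obtain ⟨E, h1, h2, h3, h4⟩ := exists_cycle_group hu hw
    exact ⟨E, h1, fun z hz => mem_alt_of_pow_odd hodd (h3 z hz), h2, h3, h4⟩

universe v

/-- An elementary abelian `p`-group centralising a defect class element has order at most `p ^ s`. -/
theorem card_le_of_le_centralizer {G : Type v} [Group G] [Fintype G] {p : ℕ} [Fact p.Prime]
    {M : Ideal AlgInt} (hM : IsPModular p M) {B : Set (IrrCharacter G)} (hB : IsPBlock M B)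
    {D : Subgroup G} (hD : IsDefectGroup p M B D) {s : ℕ} (hs : SectionalPRankLE p s D) {x : G}
    (hx : IsDefectClass M B x) {E : Subgroup G} (hEC : E ≤ Subgroup.centralizer ({x} : Set G))
    {w : ℕ} (hE : Nat.card E = p ^ w) (hEc : ∀ a ∈ E, ∀ b ∈ E, a * b = b * a)
    (hEexp : ∀ a ∈ E, a ^ p = 1) : w ≤ s := by
  classical
  have hp : p.Prime := Fact.out
  have hpE : IsPGroup p E := IsPGroup.of_card hE
  obtain ⟨Q, hQ⟩ := (hpE.of_equiv (Subgroup.subgroupOfEquivOfLe hEC).symm).exists_le_sylow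
  have hD' : IsDefectGroup p M B
      ((Q : Subgroup (Subgroup.centralizer ({x} : Set G))).map
        (Subgroup.centralizer ({x} : Set G)).subtype) := ⟨x, hx, Q, rfl⟩
  obtain ⟨g, hg⟩ := CfsgLib.Blocks.HeightZero.defectGroup_conj_eq hM hB hD' hD
  have hED : E.map (MulAut.conj g).toMonoidHom ≤ D := by
    rintro _ ⟨z, hz, rfl⟩
    rw [← hg]
    exact ⟨z, ⟨⟨z, hEC hz⟩, hQ hz, rfl⟩, rfl⟩
  have hcard : Nat.card (E.map (MulAut.conj g).toMonoidHom) = p ^ w := by
    rw [← hE, Nat.card_congr (E.equivMapOfInjective _ (MulAut.conj g).injective).symm.toEquiv]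
  have h := card_le_of_sectionalPRankLE hs hED
    (by
      rintro _ ⟨a, ha, rfl⟩ _ ⟨b, hb, rfl⟩
      rw [← map_mul, ← map_mul, hEc a ha b hb])
    (by
      rintro _ ⟨a, ha, rfl⟩
      rw [← map_pow, hEexp a ha, map_one])
  rw [hcard] at h
  exact (Nat.pow_le_pow_iff_right hp.one_lt).1 h

/-- An element of order `p` with `w` cycles inside a defect group of a block of `A_n`. -/
theorem rank_le_of_mem_defect {n p : ℕ} [Fact p.Prime] {M : Ideal AlgInt} (hM : IsPModular p M)
    {b : Set (IrrCharacter (alternatingGroup (Fin n)))} (hb : IsPBlock M b)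
    {D : Subgroup (alternatingGroup (Fin n))} (hD : IsDefectGroup p M b D) {s : ℕ}
    (hs : SectionalPRankLE p s D) {D' : Subgroup (alternatingGroup (Fin n))}
    (hD' : IsDefectGroup p M b D') {v : alternatingGroup (Fin n)} (hv : v ∈ D') {w : ℕ}
    (hvp : (v : Perm (Fin n)) ^ p = 1) (hw : (v : Perm (Fin n)).support.card = p * w)
    (hpar : p ≠ 2 ∨ Even w) : w ≤ s := by
  classical
  have := CfsgLib.Blocks.isMaximal_of_isPModular hM
  have hcore := Cfsg.Agent.S0955.result p M hM b hb D' hD'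
  obtain ⟨x, hxcl, P, hP⟩ := id hD'
  have hpD' : IsPGroup p D' := by rw [hP]; exact P.2.map _
  have hxr : ¬ p ∣ orderOf x := CfsgLib.Blocks.not_dvd_orderOf_of_isDefectClass hM hb hxcl
  have hcomm : ∀ d ∈ D', d * x = x * d := fun d hd => by
    rw [hP] at hd
    obtain ⟨c, -, rfl⟩ := hd
    exact Subgroup.mem_centralizer_singleton_iff.1 c.2
  obtain ⟨E, hEcard, hEA, hEc, hEexp, hEfix⟩ := exists_even_group hvp hw hpar
  refine card_le_of_le_centralizer hM hb hD hs hxcl
    (E := E.subgroupOf (alternatingGroup (Fin n))) (fun z hz => ?_) ?_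
    (fun a ha c hc => Subtype.ext (hEc _ ha _ hc)) (fun a ha => Subtype.ext (by
      simpa using hEexp _ ha))
  · rw [Subgroup.mem_centralizer_singleton_iff]
    refine Subtype.ext (Perm.Disjoint.commute fun i => ?_).eq
    by_cases hi : (v : Perm (Fin n)) i = i
    · exact Or.inl (hEfix _ hz i hi)
    · exact Or.inr (fix_of_mem_centralizer_alt hpD' hcore hcomm hxr ⟨v, hv, hi⟩)
  · rw [Nat.card_congr (Subgroup.subgroupOfEquivOfLe hEA).toEquiv, hEcard]

/-- **Defect groups of blocks of alternating groups**: an element of order `p` at which a character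
of a covering block of `S_n` does not vanish has at most `s` cycles (`s + 1` if it is odd). -/
theorem rank_bound_of_alt_defect {n p : ℕ} [Fact p.Prime] {M : Ideal AlgInt} (hM : IsPModular p M)
    {b : Set (IrrCharacter (alternatingGroup (Fin n)))} (hb : IsPBlock M b)
    {D : Subgroup (alternatingGroup (Fin n))} (hD : IsDefectGroup p M b D) {s : ℕ}
    (hs : SectionalPRankLE p s D) {B : Set (IrrCharacter (Equiv.Perm (Fin n)))}
    (hB : IsPBlock M B)
    (hcov : ∀ θ ∈ b, ∃ χ ∈ B, classInner (fun g : alternatingGroup (Fin n) =>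
      (χ : Equiv.Perm (Fin n) → ℂ) g) (θ : alternatingGroup (Fin n) → ℂ) ≠ 0) :
    (D ≠ ⊥ → 1 ≤ s) ∧ ∀ χ ∈ B, ∀ (u : Equiv.Perm (Fin n)) (w : ℕ), u ^ p = 1 →
      u.support.card = p * w → (χ : Equiv.Perm (Fin n) → ℂ) u ≠ 0 →
      (p ≠ 2 ∨ Even w → w ≤ s) ∧ w - 1 ≤ s := by
  classical
  have hp : p.Prime := Fact.out
  have := CfsgLib.Blocks.isMaximal_of_isPModular hM
  refine ⟨fun hne => ?_, fun χ hχ u w hup hw hu => ?_⟩
  · have hpD : IsPGroup p D := by
      obtain ⟨x, -, P, rfl⟩ := hD
      exact P.2.map _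
    haveI : Nontrivial D := (Subgroup.nontrivial_iff_ne_bot D).2 hne
    obtain ⟨k, hk0, hk⟩ := hpD.nontrivial_iff_card.1 inferInstance
    obtain ⟨g, hg⟩ := exists_prime_orderOf_dvd_card' p (hk ▸ dvd_pow_self p hk0.ne')
    have hgp : (g : alternatingGroup (Fin n)) ^ p = 1 := by
      rw [← hg, ← Subgroup.orderOf_coe, pow_orderOf_eq_one]
    have h := card_le_of_sectionalPRankLE hs
      (E := Subgroup.zpowers (g : alternatingGroup (Fin n)))
      (Subgroup.zpowers_le.2 g.2)
      (fun a ⟨i, hi⟩ c ⟨j, hj⟩ => hi ▸ hj ▸ zpow_mul_comm _ i j)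
      (fun a ⟨i, hi⟩ => by
        rw [← hi]
        show ((g : alternatingGroup (Fin n)) ^ i) ^ p = 1
        rw [← zpow_natCast, ← zpow_mul, mul_comm, zpow_mul, zpow_natCast, hgp, one_zpow])
    rw [Nat.card_zpowers, Subgroup.orderOf_coe, hg] at h
    by_contra hs0
    rw [show s = 0 by omega, pow_zero] at h
    exact absurd hp.one_lt (by omega)
  -- a member of `b` not vanishing at a conjugate
  have hmove : ∀ ψ ∈ B, ∀ (g : alternatingGroup (Fin n)),
      (ψ : Perm (Fin n) → ℂ) g ≠ 0 → ∃ θ ∈ b, ∃ y : Perm (Fin n),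
        (θ : alternatingGroup (Fin n) → ℂ) ((MulAut.conjNormal y)⁻¹ g) ≠ 0 := by
    intro ψ hψ g hg
    obtain ⟨θb, hθb⟩ := CfsgLib.Blocks.HeightZero.exists_height_zero (p := p) hb
    obtain ⟨χb, hχb, hover⟩ := hcov θb hθb.1
    obtain ⟨θ₀, hθ₀⟩ := CfsgLib.BlocksCover.exists_constituent ψ (alternatingGroup (Fin n))
    have hsame : SameBlock M (χb : Perm (Fin n) → ℂ) (ψ : Perm (Fin n) → ℂ) := by
      have h1 := CfsgLib.Blocks.eq_blockOf_of_mem hB hχb
      rw [h1] at hψ
      exact hψ
    obtain ⟨x, hx⟩ := CfsgLib.BlocksCover.exists_sameBlock_conj (θ := θb) (ψ := θ₀) fun k => by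
      rw [← (CfsgLib.BlocksCover.constituent_iff_centralChar χb θb).1 hover k,
        ← (CfsgLib.BlocksCover.constituent_iff_centralChar ψ θ₀).1 hθ₀ k]
      exact hsame _
    set θ₁ := CfsgLib.Chars.Induced.conjIrr x θ₀ with hθ₁
    have hθ₁b : θ₁ ∈ b := by
      rw [CfsgLib.Blocks.eq_blockOf_of_mem hb hθb.1]
      exact hx
    have hcl := congrFun (CfsgLib.Chars.Induced.clifford ψ θ₀
      ((CfsgLib.BlocksCover.mult_ne_zero_iff ψ θ₀).1 hθ₀)) g
    rw [hcl, Pi.smul_apply, Finset.sum_apply, smul_eq_mul] at hg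
    obtain ⟨η, hη, hη0⟩ := Finset.exists_ne_zero_of_sum_ne_zero (right_ne_zero_of_mul hg)
    obtain ⟨z, rfl⟩ := (Set.finite_range _).mem_toFinset.1 hη
    refine ⟨θ₁, hθ₁b, z * x⁻¹, ?_⟩
    have he : CfsgLib.Chars.Induced.conjIrr z θ₀ =
        CfsgLib.Chars.Induced.conjIrr (z * x⁻¹) θ₁ := by
      rw [hθ₁, ← CfsgLib.Chars.Induced.conjIrr_mul, inv_mul_cancel_right]
    simp only at hη0
    rw [he] at hη0
    exact hη0
  have hpord : ∀ {G : Type} [Group G] {v : G}, v ^ p = 1 → ∃ k : ℕ, orderOf v = p ^ k := by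
    intro G _ v hv
    rcases (Nat.dvd_prime hp).1 (orderOf_dvd_of_pow_eq_one hv) with h | h
    · exact ⟨0, by rw [h, pow_zero]⟩
    · exact ⟨1, by rw [h, pow_one]⟩
  -- even elements lie in defect groups
  have heven : ∀ (v : alternatingGroup (Fin n)) (r : alternatingGroup (Fin n)) (c : ℕ), ∀ ψ ∈ B,
      (ψ : Perm (Fin n) → ℂ) ((v * r : alternatingGroup (Fin n)) : Perm (Fin n)) ≠ 0 →
      Commute v r → v ^ p = 1 → ¬ p ∣ orderOf r →
      (v : Perm (Fin n)).support.card = p * c → (p ≠ 2 ∨ Even c) → c ≤ s := by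
    intro v r c ψ hψ hne hc hv hr hsupp hpar
    obtain ⟨θ, hθ, y, hθy⟩ := hmove ψ hψ _ hne
    set φ : MulAut (alternatingGroup (Fin n)) := (MulAut.conjNormal y)⁻¹ with hφ
    obtain ⟨D', hD', hvD'⟩ : ∃ D', IsDefectGroup p M b D' ∧ φ v ∈ D' := by
      by_contra! hall
      refine hθy (CfsgLib.Blocks.HeightZero.apply_eq_zero_of_pPart hM θ (g := φ (v * r)) (x := φ v)
        ⟨φ r, (map_mul φ v r).symm, hc.map φ, hpord (by rw [← map_pow, hv, map_one]),
          by rwa [show orderOf (φ r) = orderOf r from φ.orderOf_eq r]⟩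
        fun D' hD' => hall D' ((CfsgLib.Blocks.eq_blockOf_of_mem hb hθ).symm ▸ hD'))
    have hval : ((φ v : alternatingGroup (Fin n)) : Perm (Fin n)) = y⁻¹ * v * y := by
      rw [hφ]
      exact MulAut.conjNormal_inv_apply y v
    refine rank_le_of_mem_defect hM hb hD hs hD' hvD' ?_ ?_ hpar
    · rw [← Subgroup.coe_pow, ← map_pow, hv, map_one, Subgroup.coe_one]
    · rw [hval, show y⁻¹ * (v : Perm (Fin n)) * y = y⁻¹ * v * (y⁻¹)⁻¹ by rw [inv_inv],
        Perm.card_support_conj, hsupp]
  by_cases hpar : p ≠ 2 ∨ Even w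
  · have hle : w ≤ s := heven ⟨u, mem_alt_of_cycles hup hw hpar⟩ 1 w χ hχ (by simpa using hu)
      (Commute.one_right _) (Subtype.ext (by simpa using hup))
      (by rw [orderOf_one]; exact hp.not_dvd_one) hw hpar
    exact ⟨fun _ => hle, by omega⟩
  refine ⟨fun h => absurd h hpar, ?_⟩
  push Not at hpar
  obtain ⟨rfl, hwodd⟩ := hpar
  rw [Nat.not_even_iff_odd] at hwodd
  obtain ⟨a, ha⟩ : u.support.Nonempty := by
    rw [← Finset.card_pos, hw]
    exact Nat.mul_pos two_pos hwodd.pos
  rw [Perm.mem_support] at ha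
  have huu : ∀ i, u (u i) = i := fun i => by
    rw [← Perm.mul_apply, ← pow_two, hup, Perm.one_apply]
  -- `v` is `u` without one transposition
  set v : Perm (Fin n) := Equiv.swap a (u a) * u with hv
  have hva : v a = a := by rw [hv, Perm.mul_apply, Equiv.swap_apply_right]
  have hvua : v (u a) = u a := by rw [hv, Perm.mul_apply, huu, Equiv.swap_apply_left]
  have hvi : ∀ i, i ≠ a → i ≠ u a → v i = u i := fun i h1 h2 => by
    rw [hv, Perm.mul_apply]
    exact Equiv.swap_apply_of_ne_of_ne (fun h => h2 (by rw [← h, huu]))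
      (fun h => h1 (u.injective h))
  have hvfix : ∀ i, u i = i → v i = i := fun i hi => by
    rw [hvi i (fun h => ha (h ▸ hi)) (fun h => ha (by rw [h, huu] at hi; exact hi.symm)), hi]
  have hv2 : v ^ 2 = 1 := by
    refine Equiv.ext fun i => ?_
    rw [pow_two, Perm.mul_apply, Perm.one_apply]
    by_cases h1 : i = a
    · rw [h1, hva, hva]
    by_cases h2 : i = u a
    · rw [h2, hvua, hvua]
    rw [hvi i h1 h2, hvi (u i) (fun h => h2 (by rw [← h, huu])) (fun h => h1 (u.injective h)), huu]
  have hsupp : v.support.card = 2 * (w - 1) := by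
    have : v.support = (u.support.erase a).erase (u a) := by
      ext i
      simp only [Perm.mem_support, Finset.mem_erase]
      by_cases h1 : i = a
      · simp [h1, hva]
      by_cases h2 : i = u a
      · simp [h2, hvua]
      simp [h1, h2, hvi i h1 h2]
    rw [this, Finset.card_erase_of_mem (Finset.mem_erase.2 ⟨ha, by
      rw [Perm.mem_support, huu]; exact ha.symm⟩), Finset.card_erase_of_mem (Perm.mem_support.2 ha),
      hw]
    omega
  have hevw : Even (w - 1) := Nat.Odd.sub_odd hwodd odd_one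
  have hvA : v ∈ alternatingGroup (Fin n) := mem_alt_of_cycles hv2 hsupp (Or.inr hevw)
  -- a defect class element of `B` commuting with `v`
  have hBχ : B = blockOf M (χ : Perm (Fin n) → ℂ) := CfsgLib.Blocks.eq_blockOf_of_mem hB hχ
  obtain ⟨D', hD', huD'⟩ : ∃ D', IsDefectGroup 2 M B D' ∧ u ∈ D' := by
    by_contra! hall
    exact hu (CfsgLib.Blocks.HeightZero.apply_eq_zero_of_pPart hM χ (g := u) (x := u)
      ⟨1, mul_one u, Commute.one_right u, hpord hup, by rw [orderOf_one]; exact hp.not_dvd_one⟩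
      fun D' hD' => hall D' (hBχ ▸ hD'))
  have hcore := Cfsg.Agent.S0955.result 2 M hM B hB D' hD'
  obtain ⟨r, hrcl, P, hP⟩ := id hD'
  have hrr : ¬ 2 ∣ orderOf r := CfsgLib.Blocks.not_dvd_orderOf_of_isDefectClass hM hB hrcl
  have hcomm : ∀ d ∈ D', d * r = r * d := fun d hd => by
    rw [hP] at hd
    obtain ⟨c, -, rfl⟩ := hd
    exact Subgroup.mem_centralizer_singleton_iff.1 c.2
  have hpD' : IsPGroup 2 D' := by rw [hP]; exact P.2.map _
  have hvr : Commute v r := Perm.Disjoint.commute fun i => by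
    by_cases hi : u i = i
    · exact Or.inl (hvfix i hi)
    · exact Or.inr (fix_of_mem_centralizer hpD' hcore hcomm hrr ⟨u, huD', hi⟩)
  have hrA : r ∈ alternatingGroup (Fin n) :=
    mem_alt_of_pow_odd (Nat.not_even_iff_odd.1 fun he => hrr he.two_dvd) (pow_orderOf_eq_one r)
  obtain ⟨ψ, hψ, h0⟩ := CfsgLib.Blocks.HeightZero.exists_height_zero (p := 2) hB
  obtain ⟨k, hk⟩ := hpord hv2
  refine heven ⟨v, hvA⟩ ⟨r, hrA⟩ (w - 1) ψ hψ (fun h => ?_) (Subtype.ext hvr.eq)
    (Subtype.ext (by simpa using hv2)) (by rwa [← Subgroup.orderOf_coe]) hsupp (Or.inr hevw)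
  refine CfsgLib.Blocks.not_memLocalIdeal_apply_of_height_zero hM hB hrcl hψ h0 ?_
  rw [← (CfsgLib.Blocks.HeightZero.congr_apply_mul hM (CfsgLib.Chars.isCharacter_coe ψ) hvr hk
    hrr).mem_iff]
  rw [show (ψ : Perm (Fin n) → ℂ) (v * r) = 0 from h]
  exact CfsgLib.Blocks.memLocalIdeal_zero

end CfsgLib.SymBlocks
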