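import Cfsg.Agent.SymBlocks.Count

/-!
# Conjugation of abacus configurations inside `[0, 2N)`
-/

set_option autoImplicit false

open scoped Classical

namespace CfsgLib.SymBlocks.Abacus

open Finset

/-- The conjugate configuration: the reflected complement in `[0, 2N)`. -/
def mirror (N : ℕ) (s : Finset ℕ) : Finset ℕ :=
  (range (2 * N) \ s).image fun x => 2 * N - 1 - x

/-- The self-conjugate configurations of weight `w`. -/
noncomputable def symConfs (p N : ℕ) (K : ℕ → ℕ) (w : ℕ) : Finset (Finset ℕ) :=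
  (range (2 * N)).powerset.filter fun s =>
    HasKey p K s ∧ mirror N s = s ∧ ∑ x ∈ s, x = coreSum p K + p * w

theorem mem_symConfs {p N : ℕ} {K : ℕ → ℕ} {w : ℕ} {s : Finset ℕ} :
    s ∈ symConfs p N K w ↔ s ⊆ range (2 * N) ∧ HasKey p K s ∧ mirror N s = s ∧
      ∑ x ∈ s, x = coreSum p K + p * w := by
  simp [symConfs]

end CfsgLib.SymBlocks.Abacus
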