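import Cfsg.Agent.SymBlocks.Sort
import Cfsg.Agent.SymBlocks.ConjDef
import Mathlib.LinearAlgebra.Vandermonde

/-!
# The sign twist is the conjugation of configurations
-/

set_option autoImplicit false
set_option linter.style.haveILetI false
set_option linter.unusedSectionVars false

open scoped Classical

namespace CfsgLib.SymBlocks

open Finset Cfsg

universe u

variable {N : ℕ}

/-- The sign of the Vandermonde product. -/
def vsign (δ : Fin N → ℤ) : ℤ := ∏ i, ∏ j ∈ Ioi i, (δ j - δ i).sign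

theorem vsign_eq_det (δ : Fin N → ℤ) : vsign δ = (Matrix.vandermonde δ).det.sign := by
  rw [Matrix.det_vandermonde, vsign]
  have h : ∀ (ι : Type) (s : Finset ι) (f : ι → ℤ), (∏ a ∈ s, f a).sign = ∏ a ∈ s, (f a).sign := by
    intro ι s f
    induction s using Finset.induction_on with
    | empty => simp
    | insert a s ha ih => rw [prod_insert ha, prod_insert ha, Int.sign_mul, ih]
  rw [h]
  exact prod_congr rfl fun i _ => (h _ _ _).symm

theorem vsign_comp (δ : Fin N → ℤ) (σ : Equiv.Perm (Fin N)) :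
    vsign (δ ∘ σ) = (Equiv.Perm.sign σ : ℤ) * vsign δ := by
  rw [vsign_eq_det, vsign_eq_det,
    show Matrix.vandermonde (δ ∘ σ) = (Matrix.vandermonde δ).submatrix σ id by
      ext i j; simp [Matrix.vandermonde_apply],
    Matrix.det_permute, Int.sign_mul]
  rcases Int.units_eq_one_or (Equiv.Perm.sign σ) with h | h <;> simp [h]

theorem vsign_of_strictMono {δ : Fin N → ℤ} (h : StrictMono δ) : vsign δ = 1 :=
  prod_eq_one fun i _ => prod_eq_one fun j hj => by
    rw [Int.sign_eq_one_iff_pos]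
    have := h (mem_Ioi.1 hj)
    omega

/-- The increasing enumeration of a configuration with `N` entries. -/
noncomputable def tupleOf (N : ℕ) (s : Finset ℕ) : Fin N → ℤ :=
  if h : s.card = N then fun i => (s.orderEmbOfFin h i : ℤ) else fun _ => -1

theorem tupleOf_strictMono {s : Finset ℕ} (h : s.card = N) : StrictMono (tupleOf N s) := by
  intro a b hab
  simp only [tupleOf, dif_pos h]
  exact_mod_cast (s.orderEmbOfFin h).strictMono hab

theorem tupleOf_nonneg {s : Finset ℕ} (h : s.card = N) (i : Fin N) : 0 ≤ tupleOf N s i := by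
  simp [tupleOf, dif_pos h]

theorem toSet_tupleOf {s : Finset ℕ} (h : s.card = N) : toSet (tupleOf N s) = s := by
  simp only [toSet, tupleOf, dif_pos h, Int.toNat_natCast]
  exact Finset.image_orderEmbOfFin_univ s h

theorem card_toSet {δ : Fin N → ℤ} (h0 : ∀ i, 0 ≤ δ i) (hi : Function.Injective δ) :
    (toSet δ).card = N := by
  rw [toSet, card_image_of_injective _ fun a b e => hi (by have := h0 a; have := h0 b; omega),
    card_univ, Fintype.card_fin]

theorem tupleOf_toSet {δ : Fin N → ℤ} (h0 : ∀ i, 0 ≤ δ i) (h : StrictMono δ) :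
    tupleOf N (toSet δ) = δ :=
  ((tupleOf_strictMono (card_toSet h0 h.injective)).range_inj h).1
    (eq_of_toSet_eq (tupleOf_nonneg (card_toSet h0 h.injective)) h0
      (toSet_tupleOf (card_toSet h0 h.injective)))

variable {X : Type u} [Fintype X]

/-- `chiB` of a configuration. -/
noncomputable def chiS (g : Equiv.Perm X) (N : ℕ) (s : Finset ℕ) : ℤ := chiB g (tupleOf N s)

theorem chiB_eq_vsign_mul (g : Equiv.Perm X) {δ : Fin N → ℤ} (h0 : ∀ i, 0 ≤ δ i)
    (hi : Function.Injective δ) : chiB g δ = vsign δ * chiS g N (toSet δ) := by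
  have hmono := (Tuple.monotone_sort δ).strictMono_of_injective (hi.comp (Tuple.sort δ).injective)
  have hset : toSet (δ ∘ Tuple.sort δ) = toSet δ := by
    ext x
    rw [mem_toSet (δ := δ ∘ Tuple.sort δ) (fun i => h0 _), mem_toSet h0]
    exact (Tuple.sort δ).exists_congr_left.trans (by simp)
  have h1 := vsign_of_strictMono hmono
  rw [vsign_comp] at h1
  have h2 : chiS g N (toSet δ) = (Equiv.Perm.sign (Tuple.sort δ) : ℤ) * chiB g δ := by
    rw [← chiB_comp, ← hset, chiS, tupleOf_toSet (δ := δ ∘ Tuple.sort δ) (fun i => h0 _) hmono]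
  rw [h2, ← mul_assoc, mul_comm (vsign δ), h1, one_mul]

theorem natCast_mem_toSet {δ : Fin N → ℤ} (h0 : ∀ i, 0 ≤ δ i) (i : Fin N) :
    (δ i).toNat ∈ toSet δ :=
  mem_image_of_mem _ (mem_univ i)

/-- The sign of lowering one entry of an increasing tuple. -/
theorem vsign_sub_single {s : Finset ℕ} (hs : s.card = N) {m : ℕ} (i : Fin N) {x : ℕ}
    (hx : tupleOf N s i = (x : ℤ)) (hmx : m ≤ x) (hne : x - m ∉ s) :
    vsign (tupleOf N s - Pi.single i (m : ℤ)) = (-1) ^ (s.filter fun z => x - m < z ∧ z < x).card := by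
  set β := tupleOf N s with hβ
  have hmono : StrictMono β := tupleOf_strictMono hs
  have h0 : ∀ a, 0 ≤ β a := tupleOf_nonneg hs
  have hsign : ∀ a : Fin N, ∀ b ∈ Ioi a, ((β - Pi.single i (m : ℤ) : Fin N → ℤ) b -
      (β - Pi.single i (m : ℤ) : Fin N → ℤ) a).sign =
        if b = i ∧ (x : ℤ) - m < β a then -1 else 1 := by
    intro a b hb
    have hab := mem_Ioi.1 hb
    have h1 := hmono hab
    have hnea : β a ≠ (x : ℤ) - m := fun e => hne (by
      have h3 := natCast_mem_toSet h0 a
      rw [hβ, toSet_tupleOf hs] at h3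
      rwa [show (tupleOf N s a).toNat = x - m by rw [← hβ, e]; omega] at h3)
    by_cases hbi : b = i
    · subst hbi
      simp only [Pi.sub_apply, Pi.single_eq_same, Pi.single_eq_of_ne hab.ne, sub_zero, hx, true_and]
      split_ifs with h2
      · rw [Int.sign_eq_neg_one_iff_neg]; omega
      · rw [Int.sign_eq_one_iff_pos]; omega
    · rw [if_neg fun c => hbi c.1, Int.sign_eq_one_iff_pos]
      by_cases hai : a = i
      · subst hai; simp only [Pi.sub_apply, Pi.single_eq_same, Pi.single_eq_of_ne hbi]; omega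
      · simp only [Pi.sub_apply, Pi.single_eq_of_ne hai, Pi.single_eq_of_ne hbi]; omega
  rw [vsign, prod_congr rfl fun a _ => prod_congr rfl (hsign a)]
  have hin : ∀ a : Fin N, (∏ b ∈ Ioi a, if b = i ∧ (x : ℤ) - m < β a then (-1 : ℤ) else 1) =
      if a < i ∧ (x : ℤ) - m < β a then -1 else 1 := by
    intro a
    by_cases h : (x : ℤ) - m < β a
    · simp [h, prod_ite_eq']
    · simp [h]
  rw [prod_congr rfl fun a _ => hin a, prod_ite, prod_const, prod_const_one, mul_one]
  congr 1
  refine card_bij (fun a _ => (β a).toNat) (fun a ha => ?_) (fun a _ b _ e => hmono.injective (by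
    have := h0 a; have := h0 b; omega)) (fun z hz => ?_)
  · obtain ⟨-, hai, hlt⟩ := mem_filter.1 ha
    have h1 := hmono hai
    have h3 := natCast_mem_toSet h0 a
    rw [hβ, toSet_tupleOf hs, ← hβ] at h3
    exact mem_filter.2 ⟨h3, by omega⟩
  · obtain ⟨hzs, h1, h2⟩ := mem_filter.1 hz
    rw [← toSet_tupleOf hs, ← hβ] at hzs
    obtain ⟨a, ha⟩ := (mem_toSet h0).1 hzs
    exact ⟨a, mem_filter.2 ⟨mem_univ _, hmono.lt_iff_lt.1 (by omega), by omega⟩, by rw [ha]; simp⟩

/-- Murnaghan–Nakayama on configurations. -/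
theorem chiS_orbit {T : Finset X} {g : Equiv.Perm X} (hne : T.Nonempty)
    (hT : ∀ x, x ∉ T ↔ g x ∉ T) (horb : ∀ x ∈ T, ∀ y ∈ T, g.SameCycle x y)
    {s : Finset ℕ} (hs : s.card = N) :
    chiS g N s = ∑ x ∈ s.filter (fun x => T.card ≤ x ∧ x - T.card ∉ s),
      (-1) ^ (s.filter fun z => x - T.card < z ∧ z < x).card *
        chiS (g.subtypePerm (p := fun a => a ∉ T) (fun a => (hT a).symm)) N
          (insert (x - T.card) (s.erase x)) := by
  rw [chiS, chiB_orbit hne hT horb]
  generalize g.subtypePerm (p := fun a => a ∉ T) (fun a => (hT a).symm) = g'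
  generalize hm : T.card = m
  have hm0 : 0 < m := by rw [← hm]; exact hne.card_pos
  set β := tupleOf N s with hβ
  have hmono : StrictMono β := tupleOf_strictMono hs
  have h0 : ∀ a, 0 ≤ β a := tupleOf_nonneg hs
  have hset : toSet β = s := toSet_tupleOf hs
  have hsum : (s.filter fun x => m ≤ x ∧ x - m ∉ s) =
      ((univ : Finset (Fin N)).filter fun i => (m : ℤ) ≤ β i ∧ (β i).toNat - m ∉ s).image
        fun i => (β i).toNat := by
    ext x
    simp only [mem_filter, mem_image, mem_univ, true_and]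
    constructor
    · rintro ⟨hx, h1, h2⟩
      rw [← hset] at hx
      obtain ⟨i, hi⟩ := (mem_toSet h0).1 hx
      exact ⟨i, ⟨by omega, by rwa [hi, Int.toNat_natCast]⟩, by omega⟩
    · rintro ⟨i, ⟨h1, h2⟩, rfl⟩
      exact ⟨hset ▸ natCast_mem_toSet h0 i, by omega, h2⟩
  rw [hsum, sum_image fun a _ b _ e => hmono.injective (by have := h0 a; have := h0 b; omega),
    sum_filter]
  refine sum_congr rfl fun i _ => ?_
  obtain ⟨x, hx⟩ : ∃ x : ℕ, β i = x := ⟨(β i).toNat, (Int.toNat_of_nonneg (h0 i)).symm⟩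
  simp only [hx, Int.toNat_natCast]
  by_cases h1 : (m : ℤ) ≤ (x : ℤ)
  swap
  · rw [if_neg fun c => h1 c.1, chiB_eq_zero_of_neg _ _ (i := i) (by simp [hx]; omega)]
  by_cases h2 : x - m ∉ s
  swap
  · rw [if_neg fun c => h2 c.2]
    rw [not_not, ← hset] at h2
    obtain ⟨j, hj⟩ := (mem_toSet h0).1 h2
    have hji : j ≠ i := fun e => by subst e; omega
    rw [chiB_eq_zero_of_eq _ _ hji (by simp [hji, hj, hx]; omega)]
  rw [if_pos ⟨h1, h2⟩]
  have hne' : ∀ a, a ≠ i → β a ≠ (x : ℤ) - m := fun a _ e => h2 (by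
    have h3 := natCast_mem_toSet h0 a
    rw [hset] at h3
    rwa [show (β a).toNat = x - m by omega] at h3)
  have h0' : ∀ a, 0 ≤ (β - Pi.single i (m : ℤ) : Fin N → ℤ) a := fun a => by
    rcases eq_or_ne a i with rfl | h
    · simp [hx]; omega
    · simp [h, h0 a]
  have hinj : Function.Injective (β - Pi.single i (m : ℤ) : Fin N → ℤ) := by
    intro a b e
    rcases eq_or_ne a i with rfl | ha <;> rcases eq_or_ne b a with rfl | hb
    · rfl
    · simp [hb, hx] at e; exact absurd e.symm (hne' b hb)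
    · rfl
    · rcases eq_or_ne b i with rfl | hb'
      · simp [ha, hx] at e; exact absurd e (hne' a ha)
      · simp [ha, hb'] at e; exact hmono.injective e
  rw [chiB_eq_vsign_mul g' h0' hinj, hβ, vsign_sub_single hs i hx (by omega) h2, ← hβ]
  congr 2
  ext z
  rw [mem_toSet h0', mem_insert, mem_erase, ← hset, mem_toSet h0]
  constructor
  · rintro ⟨a, ha⟩
    rcases eq_or_ne a i with rfl | h
    · simp [hx] at ha; left; omega
    · simp [h] at ha
      exact Or.inr ⟨fun c => h (hmono.injective (by rw [ha, hx, c])), a, ha⟩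
  · rintro (rfl | ⟨hzx, a, ha⟩)
    · exact ⟨i, by simp [hx]; omega⟩
    · exact ⟨a, by simp [show a ≠ i from fun c => by subst c; omega, ha]⟩

open Abacus in
theorem mem_mirror {s : Finset ℕ} {z : ℕ} :
    z ∈ mirror N s ↔ z < 2 * N ∧ 2 * N - 1 - z ∉ s := by
  simp only [mirror, mem_image, mem_sdiff, mem_range]
  constructor
  · rintro ⟨x, ⟨hx, hxs⟩, rfl⟩
    exact ⟨by omega, by rwa [show 2 * N - 1 - (2 * N - 1 - x) = x by omega]⟩
  · rintro ⟨h1, h2⟩
    exact ⟨2 * N - 1 - z, ⟨by omega, h2⟩, by omega⟩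

theorem card_mirror {s : Finset ℕ} (hs : s ⊆ range (2 * N)) (hc : s.card = N) :
    (Abacus.mirror N s).card = N := by
  rw [Abacus.mirror, card_image_of_injOn fun a ha b hb e => by
    simp only [mem_coe, mem_sdiff, mem_range] at ha hb; omega, card_sdiff_of_subset hs, card_range]
  omega

theorem sum_mirror {s : Finset ℕ} (hs : s ⊆ range (2 * N)) (hc : s.card = N) :
    ∑ x ∈ Abacus.mirror N s, x = ∑ x ∈ s, x := by
  rw [Abacus.mirror, sum_image fun a ha b hb e => by
    simp only [mem_coe, mem_sdiff, mem_range] at ha hb; omega]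
  have h1 := sum_sdiff (f := fun x => x) hs
  have h2 := sum_sdiff (f := fun x => 2 * N - 1 - x) hs
  have h3 : ∑ x ∈ range (2 * N), (2 * N - 1 - x) = ∑ x ∈ range (2 * N), x :=
    sum_range_reflect (fun x => x) (2 * N)
  have h4 : ∑ x ∈ s, (2 * N - 1 - x) + ∑ x ∈ s, x = ∑ _x ∈ s, (2 * N - 1) := by
    rw [← sum_add_distrib]
    exact sum_congr rfl fun x hx => by have := mem_range.1 (hs hx); omega
  have h5 : ∑ x ∈ range (2 * N), x * 2 = 2 * N * (2 * N - 1) := by
    rw [← sum_mul]; exact sum_range_id_mul_two (2 * N)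
  rw [← sum_mul, mul_assoc 2 N] at h5
  rw [sum_const, hc, smul_eq_mul] at h4
  omega

/-- Splitting off a cycle from the sign. -/
theorem sign_orbit (g : Equiv.Perm X) (t : X) :
    ∃ (T : Finset X) (hT : ∀ x, x ∉ T ↔ g x ∉ T), t ∈ T ∧ (∀ x ∈ T, ∀ y ∈ T, g.SameCycle x y) ∧
      (Equiv.Perm.sign g : ℤ) =
        (-1) ^ (T.card + 1) * (Equiv.Perm.sign (g.subtypePerm (p := fun a => a ∉ T) (fun a => (hT a).symm)) : ℤ) := by
  refine ⟨univ.filter fun a => g.SameCycle t a, fun x => by
      simp [Equiv.Perm.sameCycle_apply_right], by simp [Equiv.Perm.SameCycle.refl],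
    fun a ha b hb => ((mem_filter.1 ha).2.symm).trans (mem_filter.1 hb).2, ?_⟩
  set T := univ.filter fun a => g.SameCycle t a with hTdef
  have hT : ∀ x, x ∉ T ↔ g x ∉ T := fun x => by simp [hTdef, Equiv.Perm.sameCycle_apply_right]
  have hdec : g = g.cycleOf t *
      Equiv.Perm.ofSubtype (g.subtypePerm (p := fun a => a ∉ T) (fun a => (hT a).symm)) := by
    refine Equiv.ext fun x => ?_
    rw [Equiv.Perm.mul_apply]
    by_cases hx : x ∈ T
    · rw [Equiv.Perm.ofSubtype_apply_of_not_mem (p := fun a => a ∉ T) _ (not_not.2 hx),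
        Equiv.Perm.SameCycle.cycleOf_apply (mem_filter.1 hx).2]
    · rw [Equiv.Perm.ofSubtype_apply_of_mem (p := fun a => a ∉ T) _ hx]
      show g x = g.cycleOf t (g x)
      rw [Equiv.Perm.cycleOf_apply_of_not_sameCycle fun c => (hT x).1 hx (mem_filter.2 ⟨mem_univ _, c⟩)]
  have hc : (Equiv.Perm.sign (g.cycleOf t) : ℤ) = (-1) ^ (T.card + 1) := by
    by_cases ht : g t = t
    · have hT1 : T = {t} := by
        ext a
        simp only [hTdef, mem_filter, mem_univ, true_and, mem_singleton]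
        exact ⟨fun h => (h.eq_of_left ht).symm, fun h => h ▸ Equiv.Perm.SameCycle.refl g t⟩
      rw [(Equiv.Perm.cycleOf_eq_one_iff g).2 ht, hT1]
      simp
    · have hcyc := Equiv.Perm.isCycle_cycleOf g ht
      have hsupp : (g.cycleOf t).support = T := by
        ext a
        rw [Equiv.Perm.mem_support_cycleOf_iff, hTdef, mem_filter,
          and_iff_left (Equiv.Perm.mem_support.2 ht)]
        simp
      rw [hcyc.sign, hsupp, pow_succ]
      push_cast
      ring
  conv_lhs => rw [hdec]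
  rw [map_mul, Units.val_mul, hc, Equiv.Perm.sign_ofSubtype]

theorem lt_two_mul (hN : Fintype.card X ≤ N) {β : Fin N → ℤ} (h : IsBeta X β) (i : Fin N) :
    β i < 2 * (N : ℤ) := by
  have h1 : β i - ((i : ℕ) : ℤ) ≤ ∑ j, (β j - ((j : ℕ) : ℤ)) :=
    single_le_sum (fun j _ => sub_nonneg.2 (natCast_le_of_strictMono h.mono h.nonneg j)) (mem_univ i)
  rw [sum_sub_distrib, h.sum_eq] at h1
  have := i.2
  omega

/-- **The sign twist is conjugation.** -/
theorem sign_mul_chiS (hN : Fintype.card X ≤ N) (g : Equiv.Perm X) {s : Finset ℕ}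
    (hc : s.card = N) (hs : s ⊆ range (2 * N))
    (hsum : ((∑ x ∈ s, x : ℕ) : ℤ) = (Fintype.card X : ℤ) + ∑ i : Fin N, ((i : ℕ) : ℤ)) :
    (Equiv.Perm.sign g : ℤ) * chiS g N s = chiS g N (Abacus.mirror N s) := by
  suffices H : ∀ n : ℕ, ∀ (X : Type u) [Fintype X], Fintype.card X = n → n ≤ N →
      ∀ (g : Equiv.Perm X) (s : Finset ℕ), s.card = N → s ⊆ range (2 * N) →
      ((∑ x ∈ s, x : ℕ) : ℤ) = (n : ℤ) + ∑ i : Fin N, ((i : ℕ) : ℤ) →
      (Equiv.Perm.sign g : ℤ) * chiS g N s = chiS g N (Abacus.mirror N s) from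
    H _ X rfl hN g s hc hs hsum
  intro n
  induction n using Nat.strong_induction_on with
  | _ n ih => ?_
  intro X _ hn hnN g s hc hs hsum
  rcases Nat.eq_zero_or_pos n with rfl | hpos
  · haveI : IsEmpty X := Fintype.card_eq_zero_iff.1 hn
    have hid : ∀ t : Finset ℕ, t.card = N → ((∑ x ∈ t, x : ℕ) : ℤ) = ∑ i : Fin N, ((i : ℕ) : ℤ) →
        ∀ i : Fin N, tupleOf N t i = ((i : ℕ) : ℤ) := by
      intro t ht hts
      have h1 : ∀ i ∈ (univ : Finset (Fin N)), ((i : ℕ) : ℤ) ≤ tupleOf N t i := fun i _ =>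
        natCast_le_of_strictMono (tupleOf_strictMono ht) (tupleOf_nonneg ht) i
      have e : ∑ i, tupleOf N t i = ((∑ x ∈ t, x : ℕ) : ℤ) := by
        conv_rhs => rw [← toSet_tupleOf ht]
        exact (sum_toSet (tupleOf_nonneg ht) (tupleOf_strictMono ht).injective).symm
      exact fun i => ((sum_eq_sum_iff_of_le h1).1 (by rw [e, hts]) i (mem_univ i)).symm
    rw [Subsingleton.elim g 1, map_one, Units.val_one, one_mul]
    simp only [Nat.cast_zero, zero_add] at hsum
    rw [chiS, chiS, funext (hid s hc hsum),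
      funext (hid _ (card_mirror hs hc) (by rw [sum_mirror hs hc]; exact hsum))]
  obtain ⟨t⟩ : Nonempty X := Fintype.card_pos_iff.1 (by omega)
  obtain ⟨T, hT, htT, horb, hsign⟩ := sign_orbit g t
  have hne : T.Nonempty := ⟨t, htT⟩
  rw [hsign, chiS_orbit hne hT horb hc, chiS_orbit hne hT horb (card_mirror hs hc)]
  set g' := g.subtypePerm (p := fun a => a ∉ T) (fun a => (hT a).symm)
  have hn' : Fintype.card {a // a ∉ T} = n - T.card := by
    rw [Fintype.card_subtype_compl, Fintype.card_coe, hn]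
  have hm0 : 0 < T.card := hne.card_pos
  have hTn : T.card ≤ n := hn ▸ card_le_univ T
  generalize T.card = m at hn' hm0 hTn ⊢
  rw [mul_sum]
  refine sum_nbij' (fun x => 2 * N - 1 - (x - m)) (fun x => 2 * N - 1 - (x - m)) ?_ ?_ ?_ ?_ ?_
  · intro x hx
    simp only [mem_coe, mem_filter, mem_mirror] at hx ⊢
    obtain ⟨hxs, hmx, hxm⟩ := hx
    have hx2 := mem_range.1 (hs hxs)
    refine ⟨⟨by omega, by rwa [show 2 * N - 1 - (2 * N - 1 - (x - m)) = x - m by omega]⟩, by omega,
      fun c => c.2 ?_⟩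
    rwa [show 2 * N - 1 - (2 * N - 1 - (x - m) - m) = x by omega]
  · intro y hy
    simp only [mem_coe, mem_filter, mem_mirror] at hy ⊢
    obtain ⟨⟨hy2, hys⟩, hmy, hym⟩ := hy
    refine ⟨?_, by omega, ?_⟩
    · exact not_not.1 fun c => hym ⟨by omega, c⟩
    · rwa [show 2 * N - 1 - (y - m) - m = 2 * N - 1 - y by omega]
  · intro x hx
    simp only [mem_coe, mem_filter] at hx
    have hx2 := mem_range.1 (hs hx.1)
    omega
  · intro y hy
    simp only [mem_coe, mem_filter, mem_mirror] at hy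
    omega
  intro x hx
  simp only [mem_coe, mem_filter] at hx
  obtain ⟨hxs, hmx, hxm⟩ := hx
  have hx2 := mem_range.1 (hs hxs)
  set y := 2 * N - 1 - (x - m) with hy
  set s' := insert (x - m) (s.erase x) with hs'
  have hc' : s'.card = N := by
    rw [hs', card_insert_of_notMem fun c => hxm (mem_of_mem_erase c), card_erase_of_mem hxs, hc]
    have := card_pos.2 ⟨x, hxs⟩
    omega
  have hsub' : s' ⊆ range (2 * N) :=
    insert_subset (mem_range.2 (by omega)) ((erase_subset _ _).trans hs)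
  have hsum' : ((∑ z ∈ s', z : ℕ) : ℤ) = ((n - m : ℕ) : ℤ) + ∑ i : Fin N, ((i : ℕ) : ℤ) := by
    have := Abacus.sum_move hxs hxm
    rw [← hs'] at this
    omega
  have hrec := ih (n - m) (by omega) {a // a ∉ T} hn' (by omega) g' s' hc' hsub' hsum'
  have hmir : Abacus.mirror N s' = insert (y - m) ((Abacus.mirror N s).erase y) := by
    ext z
    simp only [mem_mirror, hs', mem_insert, mem_erase, not_or, not_and]
    constructor
    · rintro ⟨h1, h2, h3⟩
      by_cases hz : z = y - m
      · exact Or.inl hz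
      · exact Or.inr ⟨by omega, h1, h3 (by omega)⟩
    · rintro (rfl | ⟨h1, h2, h3⟩)
      · exact ⟨by omega, by omega, fun c => absurd (by omega) c⟩
      · exact ⟨h2, by omega, fun _ => h3⟩
  rw [show (-1 : ℤ) ^ (m + 1) * (Equiv.Perm.sign g' : ℤ) *
      ((-1) ^ (s.filter fun z => x - m < z ∧ z < x).card * chiS g' N s') =
      (-1) ^ (m + 1) * (-1) ^ (s.filter fun z => x - m < z ∧ z < x).card *
        ((Equiv.Perm.sign g' : ℤ) * chiS g' N s') by ring]
  rw [show (Equiv.Perm.sign g' : ℤ) * chiS g' N s' = chiS g' N (Abacus.mirror N s') by convert hrec,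
    hmir]
  congr 1
  have hpart : ((Abacus.mirror N s).filter fun z => y - m < z ∧ z < y).card +
      (s.filter fun z => x - m < z ∧ z < x).card = m - 1 := by
    have e : ((Abacus.mirror N s).filter fun z => y - m < z ∧ z < y).card =
        ((Ioo (x - m) x).filter fun z => z ∉ s).card := by
      refine card_nbij' (fun z => 2 * N - 1 - z) (fun z => 2 * N - 1 - z) ?_ ?_ ?_ ?_
      · intro z hz
        simp only [mem_coe, mem_filter, mem_mirror, mem_Ioo] at hz ⊢
        exact ⟨by omega, hz.1.2⟩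
      · intro z hz
        simp only [mem_coe, mem_filter, mem_mirror, mem_Ioo] at hz ⊢
        exact ⟨⟨by omega, by rw [show 2 * N - 1 - (2 * N - 1 - z) = z by omega]; exact hz.2⟩,
          by omega⟩
      · intro z hz
        simp only [mem_coe, mem_filter, mem_mirror] at hz
        show 2 * N - 1 - (2 * N - 1 - z) = z
        omega
      · intro z hz
        simp only [mem_coe, mem_filter, mem_Ioo] at hz
        show 2 * N - 1 - (2 * N - 1 - z) = z
        omega
    have e2 : (s.filter fun z => x - m < z ∧ z < x) = (Ioo (x - m) x).filter fun z => z ∈ s := by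
      ext z; simp only [mem_filter, mem_Ioo]; tauto
    rw [e, e2, add_comm, card_filter_add_card_filter_not, Nat.card_Ioo]
    omega
  rw [← pow_add]
  generalize hA : ((Abacus.mirror N s).filter fun z => y - m < z ∧ z < y).card = A at hpart
  generalize hB : (s.filter fun z => x - m < z ∧ z < x).card = B at hpart
  rw [show m + 1 + B = A + 2 * (B + 1) by omega, pow_add, pow_mul]
  simp

/-- The conjugate beta numbers. -/
noncomputable def conjBeta (β : Fin N → ℤ) : Fin N → ℤ := tupleOf N (Abacus.mirror N (toSet β))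

theorem toSet_subset_range (hN : Fintype.card X ≤ N) {β : Fin N → ℤ} (h : IsBeta X β) :
    toSet β ⊆ range (2 * N) := by
  intro x hx
  obtain ⟨i, hi⟩ := (mem_toSet h.nonneg).1 hx
  have := lt_two_mul hN h i
  rw [mem_range]
  omega

theorem toSet_conjBeta (hN : Fintype.card X ≤ N) {β : Fin N → ℤ} (h : IsBeta X β) :
    toSet (conjBeta β) = Abacus.mirror N (toSet β) :=
  toSet_tupleOf (card_mirror (toSet_subset_range hN h) (card_toSet h.nonneg h.mono.injective))

theorem isBeta_conjBeta (hN : Fintype.card X ≤ N) {β : Fin N → ℤ} (h : IsBeta X β) :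
    IsBeta X (conjBeta β) := by
  have hc := card_mirror (toSet_subset_range hN h) (card_toSet h.nonneg h.mono.injective)
  refine ⟨tupleOf_strictMono hc, tupleOf_nonneg hc, ?_⟩
  rw [← sum_toSet (δ := conjBeta β) (tupleOf_nonneg hc) (tupleOf_strictMono hc).injective,
    toSet_conjBeta hN h, sum_mirror (toSet_subset_range hN h) (card_toSet h.nonneg h.mono.injective),
    sum_toSet h.nonneg h.mono.injective, h.sum_eq]

theorem sign_mul_chiB (hN : Fintype.card X ≤ N) {β : Fin N → ℤ} (h : IsBeta X β)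
    (g : Equiv.Perm X) : (Equiv.Perm.sign g : ℤ) * chiB g β = chiB g (conjBeta β) := by
  have := sign_mul_chiS hN g (card_toSet h.nonneg h.mono.injective) (toSet_subset_range hN h)
    (by rw [sum_toSet h.nonneg h.mono.injective, h.sum_eq])
  rwa [chiS, chiS, tupleOf_toSet h.nonneg h.mono] at this

/-- The sign in `irrOf` is positive. -/
theorem irrOf_eq_chiB (β : {β : Fin N → ℤ // IsBeta X β}) (g : Equiv.Perm X) :
    (irrOf β : Equiv.Perm X → ℂ) g = (chiB g β.1 : ℂ) := by
  obtain ⟨ε, hε, e⟩ := irrOf_apply β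
  obtain ⟨d, hd, hd1⟩ := CfsgLib.Chars.Exceptional.irr_degree (irrOf β).2
  rw [e] at hd1
  have h1 : ε * chiB (1 : Equiv.Perm X) β.1 = (d : ℤ) := by exact_mod_cast hd1
  have h2 := chiB_one_pos β.2
  rw [e]
  rcases hε with rfl | rfl
  · simp
  · omega

end CfsgLib.SymBlocks
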