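import Cfsg.Agent.SymBlocks.ConjDef

/-!
# Counting self-conjugate configurations, and the sharper count on two runners
-/

set_option autoImplicit false
set_option linter.style.haveILetI false
set_option linter.unusedSectionVars false

open scoped Classical

namespace CfsgLib.SymBlocks.Abacus

open Finset

variable {p N : ℕ}

/-- A first-vacancy move on runner `r` by `k` steps from position `a`. -/
def IsMove (p : ℕ) (s : Finset ℕ) (r a k : ℕ) : Prop :=
  0 < k ∧ r + p * a ∉ s ∧ r + p * (a + k) ∈ s ∧ (∀ j < a, r + p * j ∈ s) ∧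
    ∀ j, a < j → j < a + k → r + p * j ∉ s

/-- The result of a move. -/
def moved (p : ℕ) (s : Finset ℕ) (r a k : ℕ) : Finset ℕ :=
  insert (r + p * a) (s.erase (r + p * (a + k)))

/-- The place of a move is determined by the runner of the result. -/
theorem IsMove.eq_of_runner (hp : 0 < p) {s t : Finset ℕ} {r a b k : ℕ} (hs : IsMove p s r a k)
    (ht : IsMove p t r b k)
    (h : ∀ j, r + p * j ∈ moved p s r a k ↔ r + p * j ∈ moved p t r b k) : a = b := by
  have hlin : ∀ {i j}, r + p * i = r + p * j → i = j := fun e =>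
    Nat.eq_of_mul_eq_mul_left hp (Nat.add_left_cancel e)
  have key : ∀ {u v : Finset ℕ} {c d : ℕ}, IsMove p u r c k → IsMove p v r d k →
      (∀ j, r + p * j ∈ moved p u r c k ↔ r + p * j ∈ moved p v r d k) → c < d → False := by
    intro u v c d hu hv heq hcd
    obtain ⟨hk, -, -, -, humid⟩ := hu
    have hin : r + p * (c + 1) ∈ moved p v r d k := by
      rcases Nat.lt_or_eq_of_le hcd with h1 | h1
      · exact mem_insert_of_mem (mem_erase.2 ⟨fun e => by have := hlin e; omega, hv.2.2.2.1 _ h1⟩)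
      · rw [← h1]; exact mem_insert_self _ _
    rw [← heq, moved, mem_insert, mem_erase] at hin
    rcases hin with e | ⟨hne, hmem⟩
    · have := hlin e; omega
    · rcases Nat.lt_or_eq_of_le hk with h1 | h1
      · exact humid (c + 1) (by omega) (by omega) hmem
      · exact hne (by rw [← h1])
  rcases lt_trichotomy a b with h1 | h1 | h1
  · exact (key hs ht h h1).elim
  · exact h1
  · exact (key ht hs (fun j => (h j).symm) h1).elim

theorem IsMove.eq_insert {s : Finset ℕ} {r a k : ℕ} (h : IsMove p s r a k) :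
    s = insert (r + p * (a + k)) ((moved p s r a k).erase (r + p * a)) := by
  rw [moved, erase_insert fun c => h.2.1 (mem_of_mem_erase c), insert_erase h.2.2.1]

theorem IsMove.mod_eq {r : ℕ} (hr : r < p) (a : ℕ) : (r + p * a) % p = r := by
  rw [Nat.add_mul_mod_self_left, Nat.mod_eq_of_lt hr]

theorem IsMove.hasKey {K : ℕ → ℕ} {s : Finset ℕ} {r a k : ℕ} (h : IsMove p s r a k)
    (hs : HasKey p K s) : HasKey p K (moved p s r a k) := fun r' hr' => by
  rw [moved, card_runner_move h.2.2.1 h.2.1 (by simp), hs r' hr']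

theorem IsMove.sum_eq {s : Finset ℕ} {r a k : ℕ} (h : IsMove p s r a k) :
    ∑ y ∈ moved p s r a k, y + p * k = ∑ y ∈ s, y := by
  have := sum_move h.2.2.1 h.2.1
  rw [← moved] at this
  rw [Nat.mul_add] at this
  omega

section Mirror

theorem mem_iff_of_sym {s : Finset ℕ} (hs : mirror N s = s) {z : ℕ} :
    z ∈ s ↔ z < 2 * N ∧ 2 * N - 1 - z ∉ s := by
  conv_lhs => rw [← hs]
  simp only [mirror, mem_image, mem_sdiff, mem_range]
  constructor
  · rintro ⟨x, ⟨hx, hxs⟩, rfl⟩
    exact ⟨by omega, by rwa [show 2 * N - 1 - (2 * N - 1 - x) = x by omega]⟩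
  · rintro ⟨h1, h2⟩
    exact ⟨2 * N - 1 - z, ⟨by omega, h2⟩, by omega⟩

theorem sym_of_forall {s : Finset ℕ} (h : ∀ z, z ∈ s ↔ z < 2 * N ∧ 2 * N - 1 - z ∉ s) :
    mirror N s = s := by
  ext z
  rw [h z]
  simp only [mirror, mem_image, mem_sdiff, mem_range]
  constructor
  · rintro ⟨x, ⟨hx, hxs⟩, rfl⟩
    exact ⟨by omega, by rwa [show 2 * N - 1 - (2 * N - 1 - x) = x by omega]⟩
  · rintro ⟨h1, h2⟩
    exact ⟨2 * N - 1 - z, ⟨by omega, h2⟩, by omega⟩

theorem not_runnerCore_mirror {s : Finset ℕ} (hs : mirror N s = s) {r r' : ℕ}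
    (hrr : ∀ x y, x + y + 1 = 2 * N → x % p = r → y % p = r') (h : ¬ RunnerCore p s r) :
    ¬ RunnerCore p s r' := by
  simp only [RunnerCore, runner, mem_filter, not_forall] at h
  obtain ⟨y, ⟨hys, hyr⟩, hpy, hne⟩ := h
  obtain ⟨hy2, hym⟩ := (mem_iff_of_sym hs).1 hys
  have hz : 2 * N - 1 - (y - p) ∈ s :=
    (mem_iff_of_sym hs).2 ⟨by omega, by rwa [show 2 * N - 1 - (2 * N - 1 - (y - p)) = y - p by omega]⟩
  intro hc
  have h1 := hc (2 * N - 1 - (y - p)) (mem_filter.2 ⟨hz, hrr (y - p) _ (by omega)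
    (by rw [← Nat.mod_eq_sub_mod hpy, hyr])⟩) (by omega)
  exact hym (by rwa [show 2 * N - 1 - (y - p) - p = 2 * N - 1 - y by omega] at h1)

end Mirror

/-- A move on runner `r` together with its mirror. -/
def moved2 (p N : ℕ) (s : Finset ℕ) (r a k : ℕ) : Finset ℕ :=
  insert (2 * N - 1 - (r + p * (a + k))) ((moved p s r a k).erase (2 * N - 1 - (r + p * a)))

theorem exists_pair_data (hp : 0 < p) {K : ℕ → ℕ} {w r : ℕ} (hr : r < p)
    (hsep : ∀ x y, x + y + 1 = 2 * N → x % p = r → y % p ≠ r) {s : Finset ℕ}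
    (hs : s ∈ symConfs p N K w) (hc : ¬ RunnerCore p s r) :
    ∃ a k, IsMove p s r a k ∧ 2 * k ≤ w ∧ moved2 p N s r a k ∈ symConfs p N K (w - 2 * k) ∧
      2 * N - 1 - (r + p * a) ∈ moved p s r a k ∧
      2 * N - 1 - (r + p * (a + k)) ∉ (moved p s r a k).erase (2 * N - 1 - (r + p * a)) ∧
      ∀ j, r + p * j ∈ moved2 p N s r a k ↔ r + p * j ∈ moved p s r a k := by
  obtain ⟨hsub, hkey, hsym, hsum⟩ := mem_symConfs.1 hs
  obtain ⟨a, k, hk, hh, hx, hlow, hmid⟩ := exists_move hp hr hc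
  have hmv : IsMove p s r a k := ⟨hk, hh, hx, hlow, hmid⟩
  obtain ⟨hx2, hxm⟩ := (mem_iff_of_sym hsym).1 hx
  have hxr := IsMove.mod_eq (p := p) hr (a + k)
  have hhr := IsMove.mod_eq (p := p) hr a
  have hhx : r + p * a + p * k = r + p * (a + k) := by rw [Nat.mul_add]; omega
  have hh2 : r + p * a < 2 * N := by omega
  have hhm : 2 * N - 1 - (r + p * a) ∈ s :=
    (mem_iff_of_sym hsym).2 ⟨by omega, by
      rwa [show 2 * N - 1 - (2 * N - 1 - (r + p * a)) = r + p * a by omega]⟩
  have hxm' := hsep (r + p * (a + k)) (2 * N - 1 - (r + p * (a + k))) (by omega) hxr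
  have hhm' := hsep (r + p * a) (2 * N - 1 - (r + p * a)) (by omega) hhr
  have n1 : 2 * N - 1 - (r + p * a) ≠ r + p * a := fun e => hhm' (by rw [e, hhr])
  have n2 : 2 * N - 1 - (r + p * a) ≠ r + p * (a + k) := fun e => hhm' (by rw [e, hxr])
  have n3 : 2 * N - 1 - (r + p * (a + k)) ≠ r + p * a := fun e => hxm' (by rw [e, hhr])
  have n4 : 2 * N - 1 - (r + p * (a + k)) ≠ r + p * (a + k) := fun e => hxm' (by rw [e, hxr])
  have hm1 : 2 * N - 1 - (r + p * a) ∈ moved p s r a k :=
    mem_insert_of_mem (mem_erase.2 ⟨n2, hhm⟩)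
  have hm2 : 2 * N - 1 - (r + p * (a + k)) ∉
      (moved p s r a k).erase (2 * N - 1 - (r + p * a)) := fun c => by
    rcases mem_insert.1 (mem_of_mem_erase c) with e | e
    · exact n3 e
    · exact hxm (mem_of_mem_erase e)
  have hpk : 0 < p * k := Nat.mul_pos hp hk
  -- the shape of the result
  have hmem : ∀ z, z ∈ moved2 p N s r a k ↔
      z = 2 * N - 1 - (r + p * (a + k)) ∨ z = r + p * a ∨
        (z ≠ 2 * N - 1 - (r + p * a) ∧ z ≠ r + p * (a + k) ∧ z ∈ s) := by
    intro z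
    simp only [moved2, moved, mem_insert, mem_erase]
    constructor
    · rintro (h | ⟨h1, h2 | ⟨h2, h3⟩⟩)
      · exact Or.inl h
      · exact Or.inr (Or.inl h2)
      · exact Or.inr (Or.inr ⟨h1, h2, h3⟩)
    · rintro (h | h | ⟨h1, h2, h3⟩)
      · exact Or.inl h
      · exact Or.inr ⟨fun e => n1 (e.symm.trans h), Or.inl h⟩
      · exact Or.inr ⟨h1, Or.inr ⟨h2, h3⟩⟩
  have hkey1 := hmv.hasKey hkey
  have hkey2 : HasKey p K (moved2 p N s r a k) := by
    intro r' hr'
    rw [moved2, card_runner_move hm1 (fun c => hm2 (mem_erase.2 ⟨by omega, c⟩)) ?_, hkey1 r' hr']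
    rw [show 2 * N - 1 - (r + p * a) = 2 * N - 1 - (r + p * (a + k)) + p * k by omega,
      Nat.add_mul_mod_self_left]
  have hsum1 := hmv.sum_eq
  have hsum2 := sum_move hm1 (fun c => hm2 (mem_erase.2 ⟨by omega, c⟩) :
    2 * N - 1 - (r + p * (a + k)) ∉ moved p s r a k)
  rw [← moved2] at hsum2
  obtain ⟨v, hv⟩ := exists_weight hp hkey2
  have hw : v + 2 * k = w := by
    refine Nat.eq_of_mul_eq_mul_left hp ?_
    rw [Nat.mul_add, Nat.mul_left_comm]
    omega
  refine ⟨a, k, hmv, by omega, mem_symConfs.2 ⟨?_, hkey2, sym_of_forall fun z => ?_, ?_⟩, hm1, hm2,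
    fun j => ?_⟩
  · intro z hz
    rw [mem_range]
    rcases (hmem z).1 hz with h | h | ⟨-, -, h⟩
    · omega
    · omega
    · exact mem_range.1 (hsub h)
  · rw [hmem, hmem]
    constructor
    · rintro (rfl | rfl | ⟨h1, h2, h3⟩)
      · refine ⟨by omega, ?_⟩
        rintro (e | e | ⟨-, e, -⟩)
        · omega
        · omega
        · omega
      · refine ⟨by omega, ?_⟩
        rintro (e | e | ⟨e, -, -⟩)
        · omega
        · omega
        · omega
      · obtain ⟨hz2, hzm⟩ := (mem_iff_of_sym hsym).1 h3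
        refine ⟨hz2, ?_⟩
        rintro (e | e | ⟨-, -, e⟩)
        · omega
        · omega
        · exact hzm e
    · rintro ⟨hz2, hn⟩
      by_cases h : z = 2 * N - 1 - (r + p * (a + k)) ∨ z = r + p * a
      · tauto
      push Not at h
      refine Or.inr (Or.inr ⟨fun e => hn (Or.inr (Or.inl (by omega))),
        fun e => hn (Or.inl (by omega)), ?_⟩)
      exact (mem_iff_of_sym hsym).2 ⟨hz2, fun c => hn (Or.inr (Or.inr ⟨by omega, by omega, c⟩))⟩
  · rw [show w - 2 * k = v by omega]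
    exact hv
  · have hj := IsMove.mod_eq (p := p) hr j
    simp only [moved2, mem_insert, mem_erase]
    constructor
    · rintro (e | ⟨-, h⟩)
      · exact absurd (by rw [← e, hj]) hxm'
      · exact h
    · exact fun h => Or.inr ⟨fun e => hhm' (by rw [← e, hj]), h⟩

theorem exists_self_data (hp : 0 < p) (hodd : Odd p) (hN : p ∣ 2 * N - 1) {K : ℕ → ℕ} {w : ℕ}
    {s : Finset ℕ} (hs : s ∈ symConfs p N K w) (hc : ¬ RunnerCore p s 0) :
    ∃ x k, x ∈ s ∧ 2 * x + 1 = 2 * N + p * k ∧ Odd k ∧ k ≤ w ∧ 2 * N - 1 - x ∉ s ∧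
      insert (2 * N - 1 - x) (s.erase x) ∈ symConfs p N K (w - k) := by
  obtain ⟨hsub, hkey, hsym, hsum⟩ := mem_symConfs.1 hs
  obtain ⟨x, hxs, hx0, hxN⟩ : ∃ x ∈ s, x % p = 0 ∧ N ≤ x := by
    by_contra! hno
    refine hc fun y hy hpy => ?_
    obtain ⟨hys, hy0⟩ := mem_filter.1 hy
    have := hno y hys hy0
    refine (mem_iff_of_sym hsym).2 ⟨by omega, fun c => ?_⟩
    have hd : (2 * N - 1 - (y - p)) % p = 0 :=
      Nat.mod_eq_zero_of_dvd (Nat.dvd_sub hN
        (Nat.dvd_of_mod_eq_zero (by rw [← Nat.mod_eq_sub_mod hpy, hy0])))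
    have := hno _ c hd
    omega
  obtain ⟨hx2, hxm⟩ := (mem_iff_of_sym hsym).1 hxs
  obtain ⟨k, hk⟩ : p ∣ 2 * x + 1 - 2 * N := by
    have := Nat.dvd_sub (dvd_mul_of_dvd_right (Nat.dvd_of_mod_eq_zero hx0) 2) hN
    rwa [show 2 * x - (2 * N - 1) = 2 * x + 1 - 2 * N by omega] at this
  have hkodd : Odd k := by
    by_contra he
    obtain ⟨c, rfl⟩ := Nat.not_odd_iff_even.1 he
    rw [Nat.mul_add] at hk
    omega
  have hkey' : HasKey p K (insert (2 * N - 1 - x) (s.erase x)) := fun r' hr' => by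
    rw [card_runner_move hxs hxm ?_, hkey r' hr']
    rw [hx0]
    exact Nat.mod_eq_zero_of_dvd (Nat.dvd_sub hN (Nat.dvd_of_mod_eq_zero hx0))
  have hsum' := sum_move hxs hxm
  obtain ⟨v, hv⟩ := exists_weight hp hkey'
  have hw : v + k = w := by
    refine Nat.eq_of_mul_eq_mul_left hp ?_
    rw [Nat.mul_add]
    omega
  refine ⟨x, k, hxs, by omega, hkodd, by omega, hxm,
    mem_symConfs.2 ⟨?_, hkey', sym_of_forall fun z => ?_, ?_⟩⟩
  · exact insert_subset (mem_range.2 (by omega)) ((erase_subset _ _).trans hsub)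
  · simp only [mem_insert, mem_erase]
    constructor
    · rintro (rfl | ⟨h1, h2⟩)
      · exact ⟨by omega, by rintro (e | ⟨e, -⟩) <;> omega⟩
      · obtain ⟨hz2, hzm⟩ := (mem_iff_of_sym hsym).1 h2
        refine ⟨hz2, ?_⟩
        rintro (e | ⟨-, e⟩)
        · omega
        · exact hzm e
    · rintro ⟨hz2, hn⟩
      by_cases h : z = 2 * N - 1 - x
      · exact Or.inl h
      · exact Or.inr ⟨fun e => hn (Or.inl (by omega)),
          (mem_iff_of_sym hsym).2 ⟨hz2, fun c => hn (Or.inr ⟨by omega, c⟩)⟩⟩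
  · rw [show w - k = v by omega]
    exact hv

theorem mod_mirror_eq (hp : 0 < p) (hN : p ∣ 2 * N - 1) {x y : ℕ} (h : x + y + 1 = 2 * N) :
    y % p = (p - x % p) % p := by
  obtain ⟨a, ha⟩ := hN
  have h1 := Nat.mod_add_div x p
  have h2 := Nat.mod_lt x hp
  have h4 : x / p ≤ a := Nat.le_of_mul_le_mul_left (by omega : p * (x / p) ≤ p * a) hp
  rcases Nat.eq_zero_or_pos (x % p) with h0 | h0
  · rw [h0, Nat.sub_zero, Nat.mod_self, show y = p * (a - x / p) by rw [Nat.mul_sub]; omega,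
      Nat.mul_mod_right]
  · have h5 : x / p < a := lt_of_le_of_ne h4 fun e => by rw [e] at h1; omega
    have h7 : p * (x / p + 1) ≤ p * a := Nat.mul_le_mul_left p h5
    rw [Nat.mul_add] at h7
    rw [show y = p - x % p + p * (a - x / p - 1) by rw [Nat.mul_sub, Nat.mul_sub]; omega,
      Nat.add_mul_mod_self_left]

/-- The recursion for self-conjugate configurations: one self-paired runner, runners `R` for the
pairs. -/
theorem card_symConfs_rec (hp : 0 < p) {K : ℕ → ℕ} {w : ℕ} (R : Finset ℕ) (self : Bool)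
    (hRp : ∀ r ∈ R, 0 < r ∧ r < p)
    (hsep : ∀ r ∈ R, ∀ x y, x + y + 1 = 2 * N → x % p = r → y % p ≠ r)
    (hcases : ∀ s ∈ symConfs p N K w, (∃ r ∈ R, ¬ RunnerCore p s r) ∨
      (self = true ∧ ¬ RunnerCore p s 0) ∨ ∀ r < p, RunnerCore p s r)
    (hself : self = true → Odd p ∧ p ∣ 2 * N - 1) (hw : 0 < w) :
    (symConfs p N K w).card ≤
      (if self then ∑ j ∈ (range w).filter (fun j => Odd (w - j)), (symConfs p N K j).card else 0) +
        R.card * ∑ j ∈ (range w).filter (fun j => Even (w - j)), (symConfs p N K j).card := by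
  let tA := if self then ((range w).filter fun j => Odd (w - j)).sigma fun j => symConfs p N K j
    else ∅
  let tB := R.sigma fun _ => ((range w).filter fun j => Even (w - j)).sigma fun j => symConfs p N K j
  let Good : Finset ℕ → ((Σ _ : ℕ, Finset ℕ) ⊕ (Σ _ : ℕ, Σ _ : ℕ, Finset ℕ)) → Prop := fun s q =>
    match q with
    | .inl ⟨j, t⟩ => ∃ x, x ∈ s ∧ 2 * x + 1 = 2 * N + p * (w - j) ∧ 2 * N - 1 - x ∉ s ∧
        t = insert (2 * N - 1 - x) (s.erase x)
    | .inr ⟨r, j, t⟩ => ∃ a k, w = j + 2 * k ∧ IsMove p s r a k ∧ t = moved2 p N s r a k ∧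
        2 * N - 1 - (r + p * a) ∈ moved p s r a k ∧
        2 * N - 1 - (r + p * (a + k)) ∉ (moved p s r a k).erase (2 * N - 1 - (r + p * a)) ∧
        ∀ j, r + p * j ∈ moved2 p N s r a k ↔ r + p * j ∈ moved p s r a k
  have hex : ∀ s : Finset ℕ, ∃ q, s ∈ symConfs p N K w → q ∈ tA.disjSum tB ∧ Good s q := by
    intro s
    by_cases hs : s ∈ symConfs p N K w
    swap
    · exact ⟨.inl ⟨0, ∅⟩, fun h => absurd h hs⟩
    rcases hcases s hs with ⟨r, hr, hc⟩ | ⟨hse, hc⟩ | hall
    · obtain ⟨a, k, hmv, hk, hmem, h1, h2, h3⟩ := exists_pair_data hp (hRp r hr).2 (hsep r hr) hs hc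
      refine ⟨.inr ⟨r, w - 2 * k, moved2 p N s r a k⟩, fun _ => ⟨inr_mem_disjSum.2 ?_,
        a, k, by omega, hmv, rfl, h1, h2, h3⟩⟩
      have hk0 := hmv.1
      simp only [tB, mem_sigma, mem_filter, mem_range]
      exact ⟨hr, ⟨by omega, by rw [show w - (w - 2 * k) = 2 * k by omega]; exact even_two_mul k⟩, hmem⟩
    · obtain ⟨x, k, hx, hxk, hko, hkw, hxm, hmem⟩ :=
        exists_self_data hp (hself hse).1 (hself hse).2 hs hc
      refine ⟨.inl ⟨w - k, insert (2 * N - 1 - x) (s.erase x)⟩, fun _ => ⟨inl_mem_disjSum.2 ?_,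
        x, hx, by rw [show w - (w - k) = k by omega]; exact hxk, hxm, rfl⟩⟩
      simp only [tA, hse, if_true, mem_sigma, mem_filter, mem_range]
      exact ⟨⟨by have := hko.pos; omega, by rwa [show w - (w - k) = k by omega]⟩, hmem⟩
    · exfalso
      obtain ⟨-, hkey, -, hsum⟩ := mem_symConfs.1 hs
      rw [sum_eq_coreSum hp hkey hall] at hsum
      have : 0 < p * w := Nat.mul_pos hp hw
      omega
  choose f hf using hex
  refine le_trans (card_le_card_of_injOn f (fun s hs => (hf s hs).1) fun s hs t ht e => ?_) ?_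
  · have hs' := (hf s hs).2
    have ht' := (hf t ht).2
    rw [e] at hs'
    generalize f t = q at hs' ht'
    rcases q with ⟨j, u⟩ | ⟨r, j, u⟩
    · obtain ⟨x, hx, hxk, hxm, rfl⟩ := hs'
      obtain ⟨y, hy, hyk, hym, he⟩ := ht'
      obtain rfl : x = y := by omega
      rw [← insert_erase hx, ← insert_erase hy,
        ← erase_insert (fun c => hxm (mem_of_mem_erase c) : 2 * N - 1 - x ∉ s.erase x), he,
        erase_insert fun c => hym (mem_of_mem_erase c)]
    · obtain ⟨a, k, hjk, hmv, rfl, h1, h2, h3⟩ := hs'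
      obtain ⟨b, l, hjl, hmv', he, h1', h2', h3'⟩ := ht'
      obtain rfl : k = l := by omega
      obtain rfl : a = b := hmv.eq_of_runner hp hmv' fun i => by rw [← h3, he, h3']
      have he1 : moved p s r a k = moved p t r a k := by
        rw [← insert_erase h1, ← insert_erase h1', ← erase_insert h2, ← moved2, he, moved2,
          erase_insert h2']
      rw [hmv.eq_insert, hmv'.eq_insert, he1]
  · rw [card_disjSum]
    refine Nat.add_le_add (le_of_eq ?_) (le_of_eq ?_)
    · simp only [tA]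
      split_ifs <;> simp [card_sigma]
    · simp only [tB, card_sigma, sum_const, smul_eq_mul]

theorem card_symConfs_zero (hp : 0 < p) {K : ℕ → ℕ} (R : Finset ℕ) (self : Bool)
    (hRp : ∀ r ∈ R, 0 < r ∧ r < p)
    (hsep : ∀ r ∈ R, ∀ x y, x + y + 1 = 2 * N → x % p = r → y % p ≠ r)
    (hcases : ∀ s ∈ symConfs p N K 0, (∃ r ∈ R, ¬ RunnerCore p s r) ∨
      (self = true ∧ ¬ RunnerCore p s 0) ∨ ∀ r < p, RunnerCore p s r)
    (hself : self = true → Odd p ∧ p ∣ 2 * N - 1) : (symConfs p N K 0).card ≤ 1 := by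
  have hall : ∀ s ∈ symConfs p N K 0, ∀ r < p, RunnerCore p s r := by
    intro s hs
    rcases hcases s hs with ⟨r, hr, hc⟩ | ⟨hse, hc⟩ | h
    · obtain ⟨a, k, hmv, hk, -⟩ := exists_pair_data hp (hRp r hr).2 (hsep r hr) hs hc
      have := hmv.1
      omega
    · obtain ⟨x, k, -, -, hko, hk, -⟩ := exists_self_data hp (hself hse).1 (hself hse).2 hs hc
      have := hko.pos
      omega
    · exact h
  exact card_le_one.2 fun s hs t ht => eq_of_core hp (mem_symConfs.1 hs).2.1
    (mem_symConfs.1 ht).2.1 (hall s hs) (hall t ht)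

/-- Odd `p`: there are at most `p ^ (w - 1)` self-conjugate configurations of weight `w`. -/
theorem card_symConfs_le {p N : ℕ} (hp : p.Prime) (hp2 : p ≠ 2) (hN : p ∣ 2 * N - 1) (hN0 : 0 < N)
    (K : ℕ → ℕ) {w : ℕ} (hw : 0 < w) : (symConfs p N K w).card ≤ p ^ (w - 1) := by
  obtain ⟨h, hh⟩ := hp.odd_of_ne_two hp2
  have hp3 : 3 ≤ p := by have := hp.two_le; omega
  have hRp : ∀ r ∈ Icc 1 h, 0 < r ∧ r < p := fun r hr => by rw [mem_Icc] at hr; omega
  have hsep : ∀ r ∈ Icc 1 h, ∀ x y, x + y + 1 = 2 * N → x % p = r → y % p ≠ r := by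
    intro r hr x y hxy hx
    rw [mem_Icc] at hr
    rw [mod_mirror_eq hp.pos hN hxy, hx, Nat.mod_eq_of_lt (by omega)]
    omega
  have hcases : ∀ v, ∀ s ∈ symConfs p N K v, (∃ r ∈ Icc 1 h, ¬ RunnerCore p s r) ∨
      ((true : Bool) = true ∧ ¬ RunnerCore p s 0) ∨ ∀ r < p, RunnerCore p s r := by
    intro v s hs
    by_cases hall : ∀ r < p, RunnerCore p s r
    · exact Or.inr (Or.inr hall)
    push Not at hall
    obtain ⟨r, hr, hc⟩ := hall
    rcases Nat.eq_zero_or_pos r with rfl | hr0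
    · exact Or.inr (Or.inl ⟨rfl, hc⟩)
    by_cases hrh : r ≤ h
    · exact Or.inl ⟨r, mem_Icc.2 ⟨hr0, hrh⟩, hc⟩
    refine Or.inl ⟨p - r, mem_Icc.2 ⟨by omega, by omega⟩, not_runnerCore_mirror
      (mem_symConfs.1 hs).2.2.1 (fun x y hxy hx => ?_) hc⟩
    rw [mod_mirror_eq hp.pos hN hxy, hx, Nat.mod_eq_of_lt (by omega)]
  have hself : (true : Bool) = true → Odd p ∧ p ∣ 2 * N - 1 := fun _ => ⟨⟨h, hh⟩, hN⟩
  set S : ℕ → ℕ := fun j => (symConfs p N K j).card with hS
  have h0 : S 0 ≤ 1 := card_symConfs_zero hp.pos _ true hRp hsep (hcases 0) hself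
  have hrec : ∀ v, S (v + 1) ≤ S v + h * ∑ j ∈ range v, S j := by
    intro v
    refine (card_symConfs_rec hp.pos _ true hRp hsep (hcases (v + 1)) hself v.succ_pos).trans ?_
    rw [if_pos rfl, Nat.card_Icc, Nat.add_sub_cancel,
      sum_filter, sum_filter, sum_range_succ, sum_range_succ]
    simp only [Nat.add_sub_cancel_left, odd_one, if_true, Nat.not_even_one, if_false, add_zero]
    have e : ∀ j, (if Odd (v + 1 - j) then S j else 0) + h * (if Even (v + 1 - j) then S j else 0) ≤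
        h * S j := by
      intro j
      rcases Nat.even_or_odd (v + 1 - j) with he | ho
      · simp [he, Nat.not_odd_iff_even.2 he]
      · simp only [if_pos ho, if_neg (Nat.not_even_iff_odd.2 ho), mul_zero, add_zero]
        exact Nat.le_mul_of_pos_left _ (by omega)
    have := Finset.sum_le_sum (s := range v) fun j _ => e j
    rw [sum_add_distrib, ← mul_sum, ← mul_sum] at this
    simp only [hS] at this ⊢
    omega
  have H : ∀ v, S (v + 1) ≤ p ^ v ∧ ∑ j ∈ range (v + 1), S j ≤ p ^ v := by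
    intro v
    induction v with
    | zero =>
      have := hrec 0
      simp at this ⊢
      omega
    | succ v ih =>
      have h1 := hrec (v + 1)
      have h2 : h * ∑ j ∈ range (v + 1), S j ≤ h * p ^ v := Nat.mul_le_mul_left _ ih.2
      have h3 : (h + 1) * p ^ v ≤ p * p ^ v := Nat.mul_le_mul_right _ (by omega)
      have h4 : 2 * p ^ v ≤ p * p ^ v := Nat.mul_le_mul_right _ (by omega)
      rw [Nat.add_mul, one_mul] at h3
      rw [pow_succ', sum_range_succ]
      omega
  obtain ⟨v, rfl⟩ : ∃ v, w = v + 1 := ⟨w - 1, by omega⟩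
  exact (H v).1

theorem symConfs_two_rec {N : ℕ} (K : ℕ → ℕ) :
    (symConfs 2 N K 0).card ≤ 1 ∧ ∀ w, 0 < w → (symConfs 2 N K w).card ≤
      ∑ j ∈ (range w).filter (fun j => Even (w - j)), (symConfs 2 N K j).card := by
  have hRp : ∀ r ∈ ({1} : Finset ℕ), 0 < r ∧ r < 2 := by simp
  have hsep : ∀ r ∈ ({1} : Finset ℕ), ∀ x y, x + y + 1 = 2 * N → x % 2 = r → y % 2 ≠ r := by
    intro r hr x y hxy hx
    rw [mem_singleton] at hr
    omega
  have hcases : ∀ v, ∀ s ∈ symConfs 2 N K v, (∃ r ∈ ({1} : Finset ℕ), ¬ RunnerCore 2 s r) ∨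
      ((false : Bool) = true ∧ ¬ RunnerCore 2 s 0) ∨ ∀ r < 2, RunnerCore 2 s r := by
    intro v s hs
    by_cases hall : ∀ r < 2, RunnerCore 2 s r
    · exact Or.inr (Or.inr hall)
    push Not at hall
    obtain ⟨r, hr, hc⟩ := hall
    refine Or.inl ⟨1, mem_singleton_self 1, ?_⟩
    rcases Nat.eq_zero_or_pos r with rfl | hr0
    · exact not_runnerCore_mirror (mem_symConfs.1 hs).2.2.1 (fun x y hxy hx => by omega) hc
    · obtain rfl : r = 1 := by omega
      exact hc
  refine ⟨card_symConfs_zero two_pos _ false hRp hsep (hcases 0) (by simp), fun w hw => ?_⟩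
  refine (card_symConfs_rec two_pos _ false hRp hsep (hcases w) (by simp) hw).trans ?_
  simp

theorem symConfs_two_eq_empty {N : ℕ} (K : ℕ → ℕ) {w : ℕ} (hw : Odd w) : symConfs 2 N K w = ∅ := by
  induction w using Nat.strong_induction_on with
  | _ w ih => ?_
  rw [← card_eq_zero, ← Nat.le_zero]
  refine ((symConfs_two_rec K).2 w hw.pos).trans (le_of_eq (sum_eq_zero fun j hj => ?_))
  obtain ⟨hj1, ⟨c, hc⟩⟩ := mem_filter.1 hj
  rw [mem_range] at hj1
  obtain ⟨d, hd⟩ := hw
  rw [ih j hj1 ⟨d - c, by omega⟩, card_empty]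

theorem card_symConfs_two_lt {N : ℕ} (K : ℕ → ℕ) {w : ℕ} (hw : 2 ≤ w) :
    (symConfs 2 N K w).card < 2 ^ (w - 1) := by
  obtain ⟨h0, hrec⟩ := symConfs_two_rec (N := N) K
  set S : ℕ → ℕ := fun j => (symConfs 2 N K j).card with hS
  have hle : ∀ v, S (v + 1) ≤ ∑ j ∈ range v, S j := by
    intro v
    refine (hrec (v + 1) v.succ_pos).trans ?_
    rw [sum_filter, sum_range_succ, Nat.add_sub_cancel_left, if_neg Nat.not_even_one, add_zero]
    exact sum_le_sum fun j _ => by split_ifs <;> simp [hS]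
  have H : ∀ v, ∑ j ∈ range (v + 1), S j ≤ 2 ^ v := by
    intro v
    induction v with
    | zero => simpa using h0
    | succ v ih =>
      have h1 := hle v
      have h2 : ∑ j ∈ range v, S j ≤ 2 ^ v :=
        le_trans (sum_le_sum_of_subset (range_mono v.le_succ)) ih
      rw [sum_range_succ, pow_succ]
      omega
  obtain ⟨v, rfl⟩ : ∃ v, w = v + 2 := ⟨w - 2, by omega⟩
  have := (hle (v + 1)).trans (H v)
  have h2 : 2 ^ v < 2 ^ (v + 1) := Nat.pow_lt_pow_right one_lt_two (Nat.lt_succ_self v)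
  exact lt_of_le_of_lt this h2

/-- On two runners, a later move is at least as long as the first one. -/
theorem card_confs_two_rec (K : ℕ → ℕ) {w : ℕ} (hw : 0 < w) :
    (confs 2 K w).card ≤
      ∑ j ∈ (range w).filter (fun j => j = 0 ∨ w ≤ 2 * j), (confs 2 K j).card := by
  let tgt := ((range w).filter fun j => j = 0 ∨ w ≤ 2 * j).sigma fun j => confs 2 K j
  let Good : Finset ℕ → (Σ _ : ℕ, Finset ℕ) → Prop := fun s q => ∃ a k,
    IsMove 2 s 1 a k ∧ q.1 + k = w ∧ q.2 = moved 2 s 1 a k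
  have hex : ∀ s : Finset ℕ, ∃ q, s ∈ confs 2 K w → q ∈ tgt ∧ Good s q := by
    intro s
    by_cases hs : s ∈ confs 2 K w
    swap
    · exact ⟨⟨0, ∅⟩, fun h => absurd h hs⟩
    have hc : ¬ ∀ r < 2, RunnerCore 2 s r := fun hc => by
      have := (mem_confs.1 hs).2.2
      rw [sum_eq_coreSum two_pos (mem_confs.1 hs).1 hc] at this
      omega
    obtain ⟨r, a, k, hr, hk, hh, hx, hlow, hmid, hmem⟩ := exists_data two_pos hs hc
    obtain rfl : r = 1 := by rw [mem_Ico] at hr; omega
    rw [mem_Icc] at hk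
    refine ⟨⟨w - k, moved 2 s 1 a k⟩, fun _ => ⟨?_, a, k, ⟨hk.1, hh, hx, hlow, hmid⟩, by
      simp only; omega, rfl⟩⟩
    simp only [tgt, mem_sigma, mem_filter, mem_range]
    refine ⟨⟨by omega, ?_⟩, hmem⟩
    by_cases hcore : ∀ r < 2, RunnerCore 2 (insert (1 + 2 * a) (s.erase (1 + 2 * (a + k)))) r
    · left
      have h1 := (mem_confs.1 hmem).2.2
      rw [sum_eq_coreSum two_pos (mem_confs.1 hmem).1 hcore] at h1
      omega
    · right
      obtain ⟨r', b, l, hr', hl, hh', hx', hlow', -, -⟩ := exists_data two_pos hmem hcore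
      obtain rfl : r' = 1 := by rw [mem_Ico] at hr'; omega
      rw [mem_Icc] at hl
      simp only [mem_insert, mem_erase, not_or, not_and] at hh' hx'
      have hba : a < b := by
        by_contra hba
        rcases Nat.lt_or_eq_of_le (not_lt.1 hba) with h1 | h1
        · exact hh'.2 (by omega) (hlow b h1)
        · exact hh'.1 (by rw [h1])
      rcases hx' with e | ⟨hne, hmem'⟩
      · omega
      · by_contra hlt
        have hbl : b + l < a + k + 1 := by
          by_contra hbl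
          have hb : b = a + 1 := by
            by_contra hb
            have h1 := hlow' (a + 1) (by omega)
            simp only [mem_insert, mem_erase] at h1
            rcases h1 with e | ⟨e1, e2⟩
            · omega
            · rcases Nat.lt_or_eq_of_le hk.1 with h2 | h2
              · exact hmid (a + 1) (by omega) (by omega) e2
              · exact e1 (by rw [← h2])
          omega
        exact hmid (b + l) (by omega) (by
          rcases Nat.lt_or_eq_of_le (Nat.le_of_lt_succ hbl) with h | h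
          · exact h
          · exact absurd (by rw [h]) hne) hmem'
  choose f hf using hex
  refine le_trans (card_le_card_of_injOn f (fun s hs => (hf s hs).1) fun s hs t ht e => ?_)
    (le_of_eq (by simp [tgt, card_sigma]))
  obtain ⟨a, k, hmv, hjk, hq⟩ := (hf s hs).2
  obtain ⟨b, l, hmv', hjl, hq'⟩ := (hf t ht).2
  rw [e, hq'] at hq
  rw [e] at hjk
  obtain rfl : k = l := by omega
  obtain rfl : a = b := hmv.eq_of_runner two_pos hmv' fun i => by rw [hq]
  rw [hmv.eq_insert, hmv'.eq_insert, hq]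

theorem card_confs_two_lt (K : ℕ → ℕ) {w : ℕ} (hw : 3 ≤ w) :
    (confs 2 K w).card < 2 ^ (w - 1) := by
  set M : ℕ → ℕ := fun j => (confs 2 K j).card with hM
  have h0 : M 0 ≤ 1 := card_confs_zero two_pos K
  have hrec : ∀ v, M (v + 1) ≤ ∑ j ∈ range (v + 1), M j := fun v =>
    (card_confs_two_rec K v.succ_pos).trans (sum_le_sum_of_subset (filter_subset _ _))
  have h1 := hrec 0
  have h2 := hrec 1
  have h3 : M 3 ≤ M 0 + M 2 := (card_confs_two_rec K (by omega : 0 < 3)).trans (le_of_eq (by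
    rw [sum_filter]; simp [sum_range_succ, hM]))
  simp only [sum_range_succ, range_zero, sum_empty, zero_add, Nat.reduceAdd] at h1 h2
  have H : ∀ v, M (v + 3) < 2 ^ (v + 2) ∧ ∑ j ∈ range (v + 4), M j < 2 ^ (v + 3) := by
    intro v
    induction v with
    | zero =>
      simp only [Nat.zero_add, sum_range_succ, range_zero, sum_empty]
      omega
    | succ v ih =>
      have h4 := hrec (v + 3)
      rw [show v + 1 + 3 = v + 3 + 1 by omega, show v + 1 + 4 = v + 4 + 1 by omega, sum_range_succ]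
      have h5 : 2 ^ (v + 3 + 1) = 2 * 2 ^ (v + 3) := pow_succ' 2 _
      have h6 : v + 1 + 2 = v + 3 := by omega
      rw [h6]
      have h7 : v + 3 + 1 = v + 4 := rfl
      rw [h7] at h4 h5 ⊢
      omega
  obtain ⟨v, rfl⟩ : ∃ v, w = v + 3 := ⟨w - 3, by omega⟩
  exact (H v).1

end CfsgLib.SymBlocks.Abacus
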