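import Cfsg.Agent.SymBlocks.Main
import Cfsg.Agent.SymBlocks.Conj
import Cfsg.Agent.SymBlocks.SymCount
import Cfsg.Agent.SymBlocks.AltDefect
import Cfsg.Agent.AltBlocks69.Cover
import Cfsg.Agent.AltBlocks69.DefectZero

/-!
# The rank of a block of an alternating group
-/

set_option autoImplicit false
set_option linter.style.haveILetI false
set_option linter.unusedSectionVars false

open scoped Classical

namespace CfsgLib.SymBlocks

open Finset Cfsg CfsgLib.AltBlocks69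

universe u

variable {X : Type u} [Fintype X] {p N : ℕ}

theorem keyOf_eq_of_natKey [Fact p.Prime] {β γ : Fin N → ℤ}
    (h : ∀ r : ℕ, r < p → natKey p β r = natKey p γ r) : keyOf p β = keyOf p γ := by
  have hp : (0 : ℤ) < p := by exact_mod_cast (Fact.out : p.Prime).pos
  funext r
  by_cases hr : 0 ≤ r ∧ r < p
  · obtain ⟨k, rfl⟩ : ∃ k : ℕ, r = k := ⟨r.toNat, (Int.toNat_of_nonneg hr.1).symm⟩
    exact h k (by omega)
  · have hz : ∀ δ : Fin N → ℤ, keyOf p δ r = 0 := fun δ => by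
      refine card_eq_zero.2 (filter_eq_empty_iff.2 fun i _ e => hr ?_)
      subst e
      exact ⟨Int.emod_nonneg _ hp.ne', Int.emod_lt_of_pos _ hp⟩
    rw [hz, hz]

theorem hasKey_of_keyOf {K : ℤ → ℕ} {β : Fin N → ℤ} (hβ : IsBeta X β) (hk : keyOf p β = K) :
    Abacus.HasKey p (fun r : ℕ => K (r : ℤ)) (toSet β) := by
  subst hk
  exact hasKey_toSet hβ.nonneg hβ.mono.injective

theorem sum_toSet_isBeta {β γ : Fin N → ℤ} (hβ : IsBeta X β) (hγ : IsBeta X γ) :
    ∑ x ∈ toSet γ, x = ∑ x ∈ toSet β, x := by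
  have h1 := sum_toSet hβ.nonneg hβ.mono.injective
  have h2 := sum_toSet hγ.nonneg hγ.mono.injective
  rw [hγ.sum_eq, ← hβ.sum_eq, ← h1] at h2
  exact_mod_cast h2

theorem toSet_injective {β γ : Fin N → ℤ} (hβ : IsBeta X β) (hγ : IsBeta X γ)
    (h : toSet β = toSet γ) : β = γ :=
  (hβ.mono.range_inj hγ.mono).1 (eq_of_toSet_eq hβ.nonneg hγ.nonneg h)

theorem sign_eq_one_of_mem {n : ℕ} {g : Equiv.Perm (Fin n)} (hg : g ∈ alternatingGroup (Fin n))
    {i : DecidableEq (Fin n)} : @Equiv.Perm.sign (Fin n) i (Fin.fintype n) g = 1 := by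
  obtain rfl : i = instDecidableEqFin n := Subsingleton.elim _ _
  exact Equiv.Perm.mem_alternatingGroup.1 hg

/-- The runner-`0` cores of a key class. -/
noncomputable def coreSet (X : Type u) [Fintype X] (p : ℕ) (K : ℤ → ℕ) (N : ℕ) :
    Finset (Fin N → ℤ) :=
  (betaSet X N).filter fun β => keyOf p β = K ∧ ZeroCore p β

theorem card_coreSet_le {K : ℤ → ℕ} {w : ℕ}
    (hw : ∀ β : Fin N → ℤ, IsBeta X β → keyOf p β = K →
      ∑ x ∈ toSet β, x = Abacus.coreSum p (fun r : ℕ => K (r : ℤ)) + p * w) :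
    (coreSet X p K N).card ≤ (Abacus.confs p (fun r : ℕ => K (r : ℤ)) w).card := by
  refine card_le_card_of_injOn toSet (fun γ hγ => ?_) fun a ha b hb e => ?_
  · obtain ⟨hmem, hk, hc⟩ := mem_filter.1 hγ
    have hb := mem_betaSet.1 hmem
    refine Abacus.mem_confs.2 ⟨hasKey_of_keyOf hb hk, fun x hx hpx => ?_, hw γ hb hk⟩
    obtain ⟨hxs, hx0⟩ := mem_filter.1 hx
    obtain ⟨i, hi⟩ := (mem_toSet hb.nonneg).1 hxs
    obtain ⟨j, hj⟩ := hc i (by rw [hi]; exact_mod_cast hx0) (by rw [hi]; exact_mod_cast hpx)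
    exact (mem_toSet hb.nonneg).2 ⟨j, by rw [hj, hi, Nat.cast_sub hpx]⟩
  · exact toSet_injective (mem_betaSet.1 (mem_filter.1 ha).1) (mem_betaSet.1 (mem_filter.1 hb).1) e

/-- The data of the key class of a block. -/
theorem exists_weight_data [Fact p.Prime] (hN : Fintype.card X ≤ N) {M : Ideal AlgInt}
    (hM : IsPModular p M) {B : Set (IrrCharacter (Equiv.Perm X))} (hB : IsPBlock M B) :
    ∃ (K : ℤ → ℕ) (w : ℕ),
      (∀ χ ∈ B, ∃ β : {β : Fin N → ℤ // IsBeta X β}, keyOf p β.1 = K ∧ irrOf β = χ) ∧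
      (∀ β : Fin N → ℤ, IsBeta X β → keyOf p β = K →
        ∑ x ∈ toSet β, x = Abacus.coreSum p (fun r : ℕ => K (r : ℤ)) + p * w) ∧
      ∃ χ ∈ B, ∃ g : Equiv.Perm X, g ^ p = 1 ∧ g.support.card = p * w ∧
        (χ : Equiv.Perm X → ℂ) g ≠ 0 := by
  haveI := CfsgLib.Blocks.isMaximal_of_isPModular hM
  have hp : 0 < p := hM.1.pos
  obtain ⟨K, hK⟩ := exists_key_of_block (N := N) hN p hM hB
  obtain ⟨χ₀, hχ₀⟩ := CfsgLib.Blocks.nonempty_of_isPBlock hB
  obtain ⟨⟨β, hβ⟩, hKβ, hirr⟩ := hK χ₀ hχ₀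
  change keyOf p β = K at hKβ
  obtain ⟨w, hwsum⟩ := Abacus.exists_weight hp (hasKey_toSet (p := p) hβ.nonneg hβ.mono.injective)
  have hnk : natKey p β = fun r : ℕ => K (r : ℤ) := by funext r; rw [← hKβ]; rfl
  obtain ⟨σ, hσ⟩ := exists_resSorted (p := p) hβ.mono.injective
  set δ := β ∘ σ with hδ
  have h0δ : ∀ i, 0 ≤ δ i := fun i => hβ.nonneg _
  have hkδ : natKey p δ = natKey p β := funext fun r => congrFun (keyOf_comp p β σ) _
  have hsumδ : ∑ i, δ i = ∑ i, β i := Equiv.sum_comp σ β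
  have hsum : ∑ i, β i = (Abacus.coreSum p (natKey p β) : ℤ) + (p : ℤ) * w := by
    rw [← sum_toSet hβ.nonneg hβ.mono.injective, hwsum]
    push_cast
    ring
  obtain ⟨δ₀, hs₀, h0₀, hc₀, hk₀⟩ := exists_tupleCore hp hσ h0δ
  have hpw : p * w ≤ Fintype.card X := by
    have h1 := sum_of_tupleCore hp h0₀ hs₀.injective hc₀
    rw [hk₀, hkδ] at h1
    have hmono₀ : StrictMono (δ₀ ∘ Tuple.sort δ₀) :=
      (Tuple.monotone_sort δ₀).strictMono_of_injective (hs₀.injective.comp (Tuple.sort δ₀).injective)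
    have h2 := Finset.sum_le_sum (s := (univ : Finset (Fin N))) fun i _ =>
      natCast_le_of_strictMono hmono₀ (fun a => h0₀ _) i
    rw [show ∑ i, (δ₀ ∘ Tuple.sort δ₀) i = ∑ i, δ₀ i from Equiv.sum_comp _ δ₀, h1] at h2
    have h3 := hβ.sum_eq
    rw [hsum] at h3
    have h4 : ((p * w : ℕ) : ℤ) ≤ (Fintype.card X : ℤ) := by push_cast; linarith
    exact_mod_cast h4
  obtain ⟨g, hg, hgc⟩ := exists_cycles hM.1.two_le hpw
  refine ⟨K, w, hK, fun γ hγ _ => ?_, χ₀, hχ₀, g, hg, hgc, ?_⟩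
  · rw [sum_toSet_isBeta hβ hγ, hwsum, hnk]
  · have h1 := sign_mul_chiB_pos hs₀ h0₀ hc₀ w X g δ hσ h0δ hk₀.symm (by rw [hsumδ, hβ.sum_eq])
      (by rw [hsumδ, hk₀, hkδ, hsum]) hg (by convert hgc)
    rw [hδ, chiB_comp] at h1
    rw [← hirr, irrOf_eq_chiB, Int.cast_ne_zero]
    intro h
    rw [h, mul_zero, mul_zero] at h1
    exact lt_irrefl _ h1

/-- At weight `0` the characters vanish on the singular elements. -/
theorem chiB_eq_zero_of_weight_zero [Fact p.Prime] {β : Fin N → ℤ} (hβ : IsBeta X β)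
    (hw : ∑ x ∈ toSet β, x = Abacus.coreSum p (natKey p β)) {y : Equiv.Perm X}
    (hy : ¬ IsPRegular p y) : chiB y β = 0 := by
  obtain ⟨m, hm, hpm⟩ : ∃ m ∈ y.cycleType, p ∣ m := by
    have h : p ∣ orderOf y := not_not.1 hy
    rw [← Equiv.Perm.lcm_cycleType] at h
    by_contra! hc
    have hdvd : y.cycleType.lcm ∣ y.cycleType.prod :=
      Multiset.lcm_dvd.2 fun a ha => Multiset.dvd_prod ha
    obtain ⟨a, ha, hpa⟩ := ((Fact.out : p.Prime).prime).exists_mem_multiset_dvd (h.trans hdvd)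
    exact hc a ha hpa
  rw [Equiv.Perm.cycleType_def, Multiset.mem_map] at hm
  obtain ⟨c, hc, rfl⟩ := hm
  simp only [Function.comp_apply] at hpm
  rw [Finset.mem_val, Equiv.Perm.mem_cycleFactorsFinset_iff] at hc
  obtain ⟨T, hT⟩ : ∃ T : Finset X, T = c.support := ⟨_, rfl⟩
  rw [← hT] at hpm
  have hy' : ∀ a, a ∉ T ↔ y a ∉ T := fun a => by
    rw [hT]
    exact not_congr (Equiv.Perm.mem_cycleFactorsFinset_support
      (Equiv.Perm.mem_cycleFactorsFinset_iff.2 hc) a).symm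
  have horb : ∀ a ∈ T, ∀ b ∈ T, y.SameCycle a b := by
    intro a ha b hb
    have hce := Equiv.Perm.eq_cycleOf_of_mem_cycleFactorsFinset_iff y c
      (Equiv.Perm.mem_cycleFactorsFinset_iff.2 hc) a |>.2 (hT ▸ ha)
    rw [hT, hce, Equiv.Perm.mem_support_cycleOf_iff] at hb
    exact hb.1
  have hne : T.Nonempty := card_pos.1 (hT ▸ lt_of_lt_of_le two_pos hc.1.two_le_card_support)
  suffices h : (chiB y β : ℂ) = 0 by exact_mod_cast h
  rw [chiB_orbit_expand hne hy' horb β]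
  refine sum_eq_zero fun γ hγ => ?_
  by_contra hne'
  have hk := keyOf_eq_of_shiftCoeff hpm (left_ne_zero_of_mul hne')
  have hγ' := mem_betaSet.1 hγ
  obtain ⟨v, hv⟩ := Abacus.exists_weight (Fact.out : p.Prime).pos
    (hasKey_toSet (p := p) hγ'.nonneg hγ'.mono.injective)
  rw [show natKey p γ = natKey p β from funext fun r => congrFun hk _] at hv
  have h1 := sum_toSet hγ'.nonneg hγ'.mono.injective
  have h2 := sum_toSet hβ.nonneg hβ.mono.injective
  rw [hγ'.sum_eq, Fintype.card_subtype_compl, Fintype.card_coe, hv] at h1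
  rw [hβ.sum_eq, hw] at h2
  have := card_pos.2 hne
  have := card_le_univ T
  omega

/-- An involution fixing `f` halves the number of values. -/
theorem two_mul_card_image_le {α β : Type*} [DecidableEq α] [DecidableEq β] (C : Finset α) (f : α → β) (σ : α → α)
    (hσ : ∀ a ∈ C, σ a ∈ C) (hf : ∀ a ∈ C, f (σ a) = f a) :
    2 * (C.image f).card ≤ C.card + (C.filter fun a => σ a = a).card := by
  rw [card_eq_sum_card_image f C, card_eq_sum_card_fiberwise (f := f)
    (t := C.image f) (fun a ha => mem_image_of_mem f (mem_filter.1 ha).1), ← sum_add_distrib,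
    mul_comm, ← smul_eq_mul, ← sum_const]
  refine sum_le_sum fun v hv => ?_
  obtain ⟨a, ha, rfl⟩ := mem_image.1 hv
  by_cases h : σ a = a
  · have h1 : 0 < (C.filter fun x => f x = f a).card := card_pos.2 ⟨a, mem_filter.2 ⟨ha, rfl⟩⟩
    have h2 : 0 < ((C.filter fun x => σ x = x).filter fun x => f x = f a).card :=
      card_pos.2 ⟨a, mem_filter.2 ⟨mem_filter.2 ⟨ha, h⟩, rfl⟩⟩
    omega
  · have h1 : 1 < (C.filter fun x => f x = f a).card :=
      one_lt_card.2 ⟨σ a, mem_filter.2 ⟨hσ a ha, hf a ha⟩, a, mem_filter.2 ⟨ha, rfl⟩, h⟩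
    omega

theorem card_confs_le (hp : 0 < p) (K : ℕ → ℕ) {w : ℕ} (hw : 0 < w) :
    (Abacus.confs p K w).card ≤ (p - 1) * p ^ (w - 1) := by
  obtain ⟨v, rfl⟩ : ∃ v, w = v + 1 := ⟨w - 1, by omega⟩
  exact (Abacus.card_confs_succ hp K v).trans
    (Nat.mul_le_mul_left _ (Abacus.sum_card_confs_le hp K v))

theorem dim_coreSpan_map_le (K : ℤ → ℕ) (N : ℕ) {V : Type*} [DecidableEq V] [AddCommGroup V] [Module ℂ V]
    (R : (Equiv.Perm X → ℂ) →ₗ[ℂ] V) :
    Module.finrank ℂ ↥((coreSpan X p K N).map R) ≤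
      ((coreSet X p K N).image (R ∘ vec X p)).card := by
  rw [coreSpan, Submodule.map_span, coe_image, ← Set.image_comp, ← coe_image]
  exact finrank_span_finset_le_card _

theorem mirror_mod (hp : 0 < p) (hNd : p ∣ 2 * N - 1) (z : ℕ) (hz : z < 2 * N) :
    (2 * N - 1 - z) % p = (p - z % p) % p := by
  obtain ⟨a, ha⟩ := hNd
  have h1 := Nat.mod_add_div z p
  have h2' := Nat.mod_lt z hp
  have h4 : z / p ≤ a := Nat.le_of_mul_le_mul_left (by omega : p * (z / p) ≤ p * a) hp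
  rcases Nat.eq_zero_or_pos (z % p) with h0 | h0
  · rw [h0, Nat.sub_zero, Nat.mod_self,
      show 2 * N - 1 - z = p * (a - z / p) by rw [Nat.mul_sub]; omega, Nat.mul_mod_right]
  · have h5 : z / p < a := lt_of_le_of_ne h4 fun e => by rw [e] at h1; omega
    have h6 : 2 * N - 1 - z = (p - z % p) + p * (a - z / p - 1) := by
      have h7 : p * (z / p + 1) ≤ p * a := Nat.mul_le_mul_left p h5
      rw [Nat.mul_sub, Nat.mul_sub]
      rw [Nat.mul_add] at h7
      omega
    rw [h6, Nat.add_mul_mod_self_left]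

theorem card_runner_mirror (hp : 0 < p) (hNd : p ∣ 2 * N - 1) (t : Finset ℕ)
    (ht : t ⊆ range (2 * N)) (r' : ℕ) (hr' : r' < p) :
    (Abacus.runner p (Abacus.mirror N t) r').card + (Abacus.runner p t ((p - r') % p)).card =
      ((range (2 * N)).filter fun z => z % p = r').card := by
  have e1 : (Abacus.runner p t ((p - r') % p)).card =
      (((range (2 * N)).filter fun z => z % p = r').filter fun z => 2 * N - 1 - z ∈ t).card := by
    refine card_nbij' (fun z => 2 * N - 1 - z) (fun z => 2 * N - 1 - z) ?_ ?_ ?_ ?_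
    · intro z hz
      simp only [Abacus.runner, mem_coe, mem_filter, mem_range] at hz ⊢
      have hz2 := mem_range.1 (ht hz.1)
      refine ⟨⟨by omega, ?_⟩, by rw [show 2 * N - 1 - (2 * N - 1 - z) = z by omega]; exact hz.1⟩
      rw [mirror_mod hp hNd z hz2, hz.2]
      rcases Nat.eq_zero_or_pos r' with h0 | h0
      · subst h0; simp
      · rw [Nat.mod_eq_of_lt (show p - r' < p by omega), show p - (p - r') = r' by omega,
          Nat.mod_eq_of_lt hr']
    · intro z hz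
      simp only [Abacus.runner, mem_coe, mem_filter, mem_range] at hz ⊢
      exact ⟨hz.2, by rw [mirror_mod hp hNd z hz.1.1, hz.1.2]⟩
    · intro z hz
      simp only [Abacus.runner, mem_coe, mem_filter] at hz
      have hz2 := mem_range.1 (ht hz.1)
      show 2 * N - 1 - (2 * N - 1 - z) = z
      omega
    · intro z hz
      simp only [mem_coe, mem_filter, mem_range] at hz
      show 2 * N - 1 - (2 * N - 1 - z) = z
      omega
  have e2 : Abacus.runner p (Abacus.mirror N t) r' =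
      ((range (2 * N)).filter fun z => z % p = r').filter fun z => 2 * N - 1 - z ∉ t := by
    ext z
    simp only [Abacus.runner, mem_filter, mem_mirror, mem_range]
    tauto
  rw [e1, e2, add_comm, card_filter_add_card_filter_not]

theorem keyOf_conjBeta [Fact p.Prime] (hN : Fintype.card X ≤ N) (hNd : p ∣ 2 * N - 1) {K : ℤ → ℕ}
    {β₀ : {β : Fin N → ℤ // IsBeta X β}} (hkβ₀ : keyOf p β₀.1 = K)
    (hfix₀ : Abacus.mirror N (toSet β₀.1) = toSet β₀.1) {β : Fin N → ℤ} (hβ : IsBeta X β)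
    (hk : keyOf p β = K) : keyOf p (conjBeta β) = K := by
  have hp : 0 < p := (Fact.out : p.Prime).pos
  rw [← hkβ₀]
  refine keyOf_eq_of_natKey fun r' hr' => ?_
  have h1 := card_runner_mirror hp hNd _ (toSet_subset_range hN hβ) r' hr'
  have h2' := card_runner_mirror hp hNd _ (toSet_subset_range hN β₀.2) r' hr'
  have hlt : (p - r') % p < p := Nat.mod_lt _ hp
  have ha := hasKey_of_keyOf hβ hk _ hlt
  have hb' := hasKey_of_keyOf β₀.2 hkβ₀ _ hlt
  have hc := hasKey_toSet (p := p) (isBeta_conjBeta hN hβ).nonneg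
    (isBeta_conjBeta hN hβ).mono.injective r' hr'
  have hd := hasKey_toSet (p := p) β₀.2.nonneg β₀.2.mono.injective r' hr'
  rw [toSet_conjBeta hN hβ] at hc
  rw [hfix₀] at h2'
  omega

theorem conjBeta_mem_coreSet [Fact p.Prime] (hN : Fintype.card X ≤ N) (hNd : p ∣ 2 * N - 1)
    {K : ℤ → ℕ} {β₀ : {β : Fin N → ℤ // IsBeta X β}} (hkβ₀ : keyOf p β₀.1 = K)
    (hfix₀ : Abacus.mirror N (toSet β₀.1) = toSet β₀.1) (β : Fin N → ℤ)
    (hβ : β ∈ coreSet X p K N) : conjBeta β ∈ coreSet X p K N := by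
  have hp : 0 < p := (Fact.out : p.Prime).pos
  obtain ⟨hmem, hk, hc⟩ := mem_filter.1 hβ
  have hb' := mem_betaSet.1 hmem
  refine mem_filter.2 ⟨mem_betaSet.2 (isBeta_conjBeta hN hb'), keyOf_conjBeta hN hNd hkβ₀ hfix₀ hb' hk, fun i hi0 hpi => ?_⟩
  have hcb := isBeta_conjBeta hN hb'
  obtain ⟨z, hz⟩ : ∃ z : ℕ, conjBeta β i = z :=
    ⟨(conjBeta β i).toNat, (Int.toNat_of_nonneg (hcb.nonneg i)).symm⟩
  have hzm : z ∈ Abacus.mirror N (toSet β) := by
    rw [← toSet_conjBeta hN hb']; exact (mem_toSet hcb.nonneg).2 ⟨i, hz⟩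
  rw [hz] at hi0 hpi
  have hz0 : z % p = 0 := by exact_mod_cast hi0
  have hpz : p ≤ z := by exact_mod_cast hpi
  obtain ⟨hz2, hzn⟩ := mem_mirror.1 hzm
  have h5 : z - p ∈ Abacus.mirror N (toSet β) := by
    refine mem_mirror.2 ⟨by omega, fun hin => hzn ?_⟩
    obtain ⟨j, hj⟩ := (mem_toSet hb'.nonneg).1 hin
    have hmod0 : (2 * N - 1 - (z - p)) % p = 0 := by
      rw [mirror_mod hp hNd _ (by omega), ← Nat.mod_eq_sub_mod hpz, hz0]
      simp
    obtain ⟨l, hl⟩ := hc j (by rw [hj]; exact_mod_cast hmod0) (by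
      rw [hj]
      have hd : p ∣ 2 * N - 1 - (z - p) := Nat.dvd_of_mod_eq_zero hmod0
      exact_mod_cast Nat.le_of_dvd (by omega) hd)
    refine (mem_toSet hb'.nonneg).2 ⟨l, ?_⟩
    rw [hl, hj]
    have hpl : p ≤ 2 * N - 1 - (z - p) :=
      Nat.le_of_dvd (by omega) (Nat.dvd_of_mod_eq_zero hmod0)
    omega
  rw [← toSet_conjBeta hN hb'] at h5
  obtain ⟨j, hj⟩ := (mem_toSet hcb.nonneg).1 h5
  exact ⟨j, by rw [hj, hz]; omega⟩

set_option maxHeartbeats 1000000 in
/-- **Blocks of alternating groups.** -/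
theorem alt_blockRank_lt {n p : ℕ} [Fact p.Prime] {M : Ideal AlgInt} (hM : IsPModular p M)
    {b : Set (IrrCharacter (alternatingGroup (Fin n)))} (hb : IsPBlock M b)
    {D : Subgroup (alternatingGroup (Fin n))} (hD : IsDefectGroup p M b D) (hD1 : D ≠ ⊥) {s : ℕ}
    (hs : SectionalPRankLE p s D) : blockRank p b < p ^ s := by
  haveI := CfsgLib.Blocks.isMaximal_of_isPModular hM
  have hp : p.Prime := Fact.out
  have hn : 2 ≤ n := by
    by_contra hn
    haveI : Subsingleton (Fin n) := Fin.subsingleton_iff_le_one.2 (by omega)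
    exact hD1 (Subgroup.eq_bot_of_subsingleton D)
  haveI : Nontrivial (Fin n) := Fin.nontrivial_iff_two_le.2 hn
  have hidx : (alternatingGroup (Fin n)).index = 2 := alternatingGroup.index_eq_two
  obtain ⟨B, hB, hcov, hle⟩ := exists_cover_blockRank_le_restrict p hidx hb
  obtain ⟨hs1, hbound⟩ := rank_bound_of_alt_defect hM hb hD hs hB hcov
  have hs0 : 1 ≤ s := hs1 hD1
  obtain ⟨N, hN, hNp⟩ : ∃ N : ℕ, Fintype.card (Fin n) ≤ N ∧ (p ≠ 2 → 0 < N ∧ p ∣ 2 * N - 1) := by
    refine ⟨(p + 1) / 2 + p * n, ?_, fun h2 => ?_⟩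
    · rw [Fintype.card_fin]
      exact (Nat.le_mul_of_pos_left n hp.pos).trans (Nat.le_add_left _ _)
    · obtain ⟨k, hk⟩ := hp.odd_of_ne_two h2
      refine ⟨by omega, 2 * n + 1, ?_⟩
      rw [show (p + 1) / 2 = k + 1 by omega, Nat.mul_add p, mul_one, ← mul_assoc, mul_comm p 2,
        mul_assoc]
      omega
  obtain ⟨K, w, hK, hwsum, χ₁, hχ₁, g₁, hg1, hgc, hgne⟩ := exists_weight_data hN hM hB
  set Kn : ℕ → ℕ := fun r : ℕ => K (r : ℤ) with hKn
  -- the weight is positive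
  have hw0 : 0 < w := by
    by_contra hw
    obtain rfl : w = 0 := by omega
    obtain ⟨θ, hθ⟩ := CfsgLib.Blocks.nonempty_of_isPBlock hb
    obtain ⟨χ, hχ, hcon⟩ := hcov θ hθ
    obtain ⟨β, hkβ, rfl⟩ := hK χ hχ
    refine hD1 (defectGroup_eq_bot hidx hM hb hD hθ hcon fun y hy => ?_)
    rw [irrOf_eq_chiB, chiB_eq_zero_of_weight_zero β.2 ?_ hy, Int.cast_zero]
    rw [hwsum β.1 β.2 hkβ, mul_zero, add_zero]
    subst hkβ
    rfl
  obtain ⟨hws, hws'⟩ := hbound χ₁ hχ₁ g₁ w hg1 (by convert hgc) hgne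
  set R := restrictLin (alternatingGroup (Fin n))
  set SA : Set (IrrCharacter (Equiv.Perm (Fin n))) :=
    {χ | χ ∈ B ∧ ∀ g, g ∉ alternatingGroup (Fin n) → (χ : Equiv.Perm (Fin n) → ℂ) g = 0}
  -- the self-conjugate members
  have hfix : ∀ β : {β : Fin N → ℤ // IsBeta (Fin n) β}, irrOf β ∈ SA →
      Abacus.mirror N (toSet β.1) = toSet β.1 := by
    intro β hβ
    have h : irrOf (⟨conjBeta β.1, isBeta_conjBeta hN β.2⟩ : {γ : Fin N → ℤ // IsBeta (Fin n) γ}) =
        irrOf β := by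
      refine Subtype.ext (funext fun g => ?_)
      rw [irrOf_eq_chiB, irrOf_eq_chiB, ← sign_mul_chiB hN β.2 g]
      by_cases hg : g ∈ alternatingGroup (Fin n)
      · rw [sign_eq_one_of_mem hg]
        simp
      · have h0 := hβ.2 g hg
        rw [irrOf_eq_chiB] at h0
        rw [Int.cast_mul, h0, mul_zero]
    have h' : conjBeta β.1 = β.1 := congrArg Subtype.val ((irrOf_bijective hN).1 h)
    rw [← toSet_conjBeta hN β.2, h']
  have hsym : ∀ β : Fin N → ℤ, IsBeta (Fin n) β → keyOf p β = K →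
      Abacus.mirror N (toSet β) = toSet β → toSet β ∈ Abacus.symConfs p N Kn w := fun β hβ hk hm =>
    Abacus.mem_symConfs.2 ⟨toSet_subset_range hN hβ, hasKey_of_keyOf hβ hk, hm, hwsum β hβ hk⟩
  have hSA : SA.ncard ≤ (Abacus.symConfs p N Kn w).card := by
    have hex : ∀ χ : IrrCharacter (Equiv.Perm (Fin n)), ∃ β : {β : Fin N → ℤ // IsBeta (Fin n) β},
        irrOf β = χ := (irrOf_bijective hN).2
    choose inv hinv using hex
    rw [← Set.ncard_coe_finset]
    refine Set.ncard_le_ncard_of_injOn (fun χ => toSet (inv χ).1) (fun χ hχ => ?_)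
      (fun χ _ χ' _ e => ?_)
    · obtain ⟨β, hkβ, hβ⟩ := hK χ hχ.1
      have e : inv χ = β := (irrOf_bijective hN).1 ((hinv χ).trans hβ.symm)
      simp only [e, mem_coe]
      exact hsym β.1 β.2 hkβ (hfix β (hβ ▸ hχ))
    · rw [← hinv χ, ← hinv χ', Subtype.ext (toSet_injective (inv χ).2 (inv χ').2 e)]
  -- the restricted span
  have hle2 : Submodule.span ℂ
      ((fun χ : IrrCharacter (Equiv.Perm (Fin n)) => pRegularPart p (χ : Equiv.Perm (Fin n) → ℂ)) '' B)
      ≤ coreSpan (Fin n) p K N := by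
    rw [Submodule.span_le]
    rintro _ ⟨χ, hχ, rfl⟩
    obtain ⟨β, hk, rfl⟩ := hK χ hχ
    have e : pRegularPart p (irrOf β : Equiv.Perm (Fin n) → ℂ) = vec (Fin n) p β.1 := by
      rw [vec]
      congr 1
      exact funext fun g => irrOf_eq_chiB β g
    show pRegularPart p (irrOf β : Equiv.Perm (Fin n) → ℂ) ∈ coreSpan (Fin n) p K N
    rw [e]
    exact vec_mem_coreSpan hN K β.1 β.2 hk
  set W := (Submodule.span ℂ
    ((fun χ : IrrCharacter (Equiv.Perm (Fin n)) => pRegularPart p (χ : Equiv.Perm (Fin n) → ℂ)) '' B)).map R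
  haveI : FiniteDimensional ℂ (coreSpan (Fin n) p K N) :=
    FiniteDimensional.span_of_finite ℂ (Finset.finite_toSet _)
  have hW : Module.finrank ℂ W ≤ ((coreSet (Fin n) p K N).image (R ∘ vec (Fin n) p)).card :=
    (Submodule.finrank_mono (Submodule.map_mono hle2)).trans (dim_coreSpan_map_le K N R)
  have hC : (coreSet (Fin n) p K N).card ≤ (Abacus.confs p Kn w).card := card_coreSet_le hwsum
  have hW' : Module.finrank ℂ W ≤ (Abacus.confs p Kn w).card :=
    hW.trans (card_image_le.trans hC)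
  have hM' := card_confs_le hp.pos Kn hw0
  refine lt_of_le_of_lt hle ?_
  change Module.finrank ℂ W + SA.ncard < p ^ s
  by_cases h2 : p = 2
  · subst h2
    rcases Nat.even_or_odd w with hev | hodd
    · obtain ⟨v, hv⟩ := hev
      have hS := Abacus.card_symConfs_two_lt (N := N) Kn (show 2 ≤ w by omega)
      have h3 := Nat.pow_le_pow_right two_pos (hws (Or.inr ⟨v, hv⟩))
      have h4 : 2 ^ w = 2 * 2 ^ (w - 1) := by rw [← pow_succ', Nat.sub_add_cancel hw0]
      simp only [Nat.add_one_sub_one, one_mul] at hM'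
      omega
    · rw [Abacus.symConfs_two_eq_empty Kn hodd, card_empty] at hSA
      by_cases hw1 : w = 1
      · subst hw1
        have := Nat.one_lt_pow (a := 2) (n := s) (by omega) one_lt_two
        simp at hM'
        omega
      · obtain ⟨v, hv⟩ := hodd
        have h1 := Abacus.card_confs_two_lt Kn (show 3 ≤ w by omega)
        have h3 := Nat.pow_le_pow_right two_pos hws'
        omega
  have hp3 : 3 ≤ p := by have := hp.two_le; omega
  have hsw : w ≤ s := hws (Or.inl h2)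
  obtain ⟨hN0, hNd⟩ := hNp h2
  have hS := Abacus.card_symConfs_le hp h2 hNd hN0 Kn hw0
  have hpow : p ^ w ≤ p ^ s := Nat.pow_le_pow_right hp.pos hsw
  have hpw : p ^ w = p * p ^ (w - 1) := by rw [← pow_succ', Nat.sub_add_cancel hw0]
  have hq : 0 < p ^ (w - 1) := Nat.pow_pos hp.pos
  obtain ⟨r, hr⟩ : ∃ r, p = r + 1 := ⟨p - 1, by omega⟩
  rw [show p - 1 = r by omega] at hM'
  have hpq : p * p ^ (w - 1) = r * p ^ (w - 1) + p ^ (w - 1) := by
    conv_lhs => arg 1; rw [hr]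
    rw [add_mul, one_mul]
  have h2q : 2 * p ^ (w - 1) ≤ r * p ^ (w - 1) := Nat.mul_le_mul_right _ (by omega)
  by_cases hempty : SA = ∅
  · rw [hempty, Set.ncard_empty]
    omega
  obtain ⟨χ₀, hχ₀⟩ := Set.nonempty_iff_ne_empty.2 hempty
  obtain ⟨β₀, hkβ₀, hirr₀⟩ := hK χ₀ hχ₀.1
  have hfix₀ := hfix β₀ (hirr₀ ▸ hχ₀)
  have hres : ∀ β ∈ coreSet (Fin n) p K N,
      (R ∘ vec (Fin n) p) (conjBeta β) = (R ∘ vec (Fin n) p) β := by
    intro β hβ
    have hb' := mem_betaSet.1 (mem_filter.1 hβ).1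
    funext g
    show vec (Fin n) p (conjBeta β) (g : Equiv.Perm (Fin n)) = vec (Fin n) p β (g : Equiv.Perm (Fin n))
    rw [vec_apply, vec_apply, ← sign_mul_chiB hN hb' g, sign_eq_one_of_mem g.2]
    simp
  have h3 := two_mul_card_image_le _ _ conjBeta (conjBeta_mem_coreSet hN hNd hkβ₀ hfix₀) hres
  have hfixC : ((coreSet (Fin n) p K N).filter fun β => conjBeta β = β).card ≤
      (Abacus.symConfs p N Kn w).card := by
    refine card_le_card_of_injOn toSet (fun β hβ => ?_) fun a ha c hc e => ?_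
    · obtain ⟨hβC, he⟩ := mem_filter.1 hβ
      obtain ⟨hmem, hk, -⟩ := mem_filter.1 hβC
      have hb' := mem_betaSet.1 hmem
      exact hsym β hb' hk (by rw [← toSet_conjBeta hN hb', he])
    · exact toSet_injective (mem_betaSet.1 (mem_filter.1 (mem_filter.1 ha).1).1)
        (mem_betaSet.1 (mem_filter.1 (mem_filter.1 hc).1).1) e
  omega

end CfsgLib.SymBlocks
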