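import Cfsg.Agent.Unipotent.Cauchy
import Cfsg.Agent.Unipotent.Cosets

/-!
# Colourings fixed by a permutation, and Frobenius' alternating sums

`col g α` counts the colourings with prescribed fibres fixed by `g`; `chiB g β` is the alternating
sum giving the irreducible characters of the symmetric group in beta-number form.
-/

set_option autoImplicit false
set_option linter.style.haveILetI false
set_option linter.unusedSectionVars false

open scoped Classical

namespace CfsgLib.SymBlocks

open Finset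

universe u

variable {X : Type u} [Fintype X] {N : ℕ}

/-- Colourings with prescribed fibre sizes. -/
def Colouring (X : Type u) (α : Fin N → ℤ) : Type u :=
  {f : X → Fin N // ∀ i, (Nat.card {x // f x = i} : ℤ) = α i}

noncomputable instance (α : Fin N → ℤ) : Fintype (Colouring X α) := by
  unfold Colouring; infer_instance

theorem card_fibre_perm (σ : Equiv.Perm X) (f : X → Fin N) (i : Fin N) :
    Nat.card {x // f (σ x) = i} = Nat.card {x // f x = i} :=
  Nat.card_congr (σ.subtypeEquiv fun _ => Iff.rfl)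

noncomputable instance instMulActionColouring (α : Fin N → ℤ) :
    MulAction (Equiv.Perm X) (Colouring X α) where
  smul g f := ⟨fun x => f.1 (g⁻¹ x), fun i => by rw [card_fibre_perm]; exact f.2 i⟩
  one_smul f := Subtype.ext (funext fun x => by
    show f.1 ((1 : Equiv.Perm X)⁻¹ x) = f.1 x
    simp)
  mul_smul g h f := Subtype.ext (funext fun x => by
    show f.1 ((g * h)⁻¹ x) = f.1 (h⁻¹ (g⁻¹ x))
    simp [mul_inv_rev])

/-- Colourings with fibres `α` that are fixed by `g`. -/
noncomputable def col (g : Equiv.Perm X) (α : Fin N → ℤ) : ℤ :=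
  (Nat.card {f : X → Fin N // (∀ x, f (g x) = f x) ∧
    ∀ i, (Nat.card {x // f x = i} : ℤ) = α i} : ℤ)

theorem col_eq_card_fixedBy (g : Equiv.Perm X) (α : Fin N → ℤ) :
    col g α = (Nat.card (MulAction.fixedBy (Colouring X α) g) : ℤ) := by
  rw [col]
  congr 1
  refine Nat.card_congr
    { toFun := fun f => ⟨⟨f.1, f.2.2⟩, Subtype.ext (funext fun x => ?_)⟩
      invFun := fun f => ⟨f.1.1, fun x => ?_, f.1.2⟩
      left_inv := fun f => rfl
      right_inv := fun f => rfl }
  · show f.1 (g⁻¹ x) = f.1 x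
    have := f.2.1 (g⁻¹ x)
    simpa using this.symm
  · have h := congrArg Subtype.val f.2
    have h2 := congrFun h (g x)
    change f.1.1 (g⁻¹ (g x)) = f.1.1 (g x) at h2
    simpa using h2.symm

theorem sum_card_fibre (f : X → Fin N) : ∑ i, Nat.card {x // f x = i} = Fintype.card X := by
  rw [← Fintype.card_congr (Equiv.sigmaFiberEquiv f), Fintype.card_sigma]
  exact sum_congr rfl fun i _ => Nat.card_eq_fintype_card

theorem col_eq_zero_of_neg {g : Equiv.Perm X} {α : Fin N → ℤ} {i : Fin N} (h : α i < 0) :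
    col g α = 0 := by
  haveI : IsEmpty {f : X → Fin N // (∀ x, f (g x) = f x) ∧
      ∀ j, (Nat.card {x // f x = j} : ℤ) = α j} :=
    ⟨fun f => by have := f.2.2 i; omega⟩
  rw [col, Nat.card_of_isEmpty, Nat.cast_zero]

theorem col_eq_zero_of_sum {g : Equiv.Perm X} {α : Fin N → ℤ}
    (h : ∑ i, α i ≠ (Fintype.card X : ℤ)) : col g α = 0 := by
  haveI : IsEmpty {f : X → Fin N // (∀ x, f (g x) = f x) ∧
      ∀ j, (Nat.card {x // f x = j} : ℤ) = α j} :=
    ⟨fun f => h (by rw [← sum_card_fibre f.1]; push_cast; exact sum_congr rfl fun i _ => (f.2.2 i).symm)⟩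
  rw [col, Nat.card_of_isEmpty, Nat.cast_zero]

/-- Renaming the colours. -/
theorem col_comp (g : Equiv.Perm X) (α : Fin N → ℤ) (σ : Equiv.Perm (Fin N)) :
    col g (α ∘ σ) = col g α := by
  rw [col, col]
  congr 1
  refine Nat.card_congr ((Equiv.arrowCongr (Equiv.refl X) σ).subtypeEquiv fun f => ?_)
  have e : ∀ i, Nat.card {x // σ (f x) = σ i} = Nat.card {x // f x = i} := fun i =>
    Nat.card_congr (Equiv.subtypeEquivRight fun x => σ.apply_eq_iff_eq)
  simp only [Equiv.arrowCongr_apply, Equiv.refl_symm, Equiv.coe_refl, Function.comp_apply, id_eq,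
    σ.apply_eq_iff_eq]
  refine and_congr_right fun _ => ⟨fun h i => ?_, fun h i => ?_⟩
  · obtain ⟨j, rfl⟩ := σ.surjective i
    rw [e]; exact h j
  · rw [← e]; exact h (σ i)

/-- Frobenius' alternating sum at beta-numbers `β`. -/
noncomputable def chiB (g : Equiv.Perm X) (β : Fin N → ℤ) : ℤ :=
  ∑ w : Equiv.Perm (Fin N), (Equiv.Perm.sign w : ℤ) * col g (fun i => β i - ((w i : ℕ) : ℤ))

theorem chiB_comp (g : Equiv.Perm X) (β : Fin N → ℤ) (σ : Equiv.Perm (Fin N)) :
    chiB g (β ∘ σ) = (Equiv.Perm.sign σ : ℤ) * chiB g β := by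
  rw [chiB, chiB, mul_sum]
  refine Fintype.sum_equiv (Equiv.mulRight σ⁻¹) _ _ fun w => ?_
  rw [Equiv.coe_mulRight]
  have h1 : (fun i => (β ∘ σ) i - ((w i : ℕ) : ℤ)) =
      (fun i => β i - (((w * σ⁻¹) i : ℕ) : ℤ)) ∘ σ := by
    funext i; simp
  rw [h1, col_comp]
  have h2 : (Equiv.Perm.sign σ : ℤ) * (Equiv.Perm.sign (w * σ⁻¹) : ℤ) = Equiv.Perm.sign w := by
    rw [← Units.val_mul, map_mul, map_inv, mul_comm, inv_mul_cancel_right]
  rw [← mul_assoc, h2]

theorem chiB_eq_zero_of_eq (g : Equiv.Perm X) (β : Fin N → ℤ) {i j : Fin N} (hij : i ≠ j)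
    (h : β i = β j) : chiB g β = 0 := by
  have h1 := chiB_comp g β (Equiv.swap i j)
  have h2 : β ∘ Equiv.swap i j = β := by
    funext k
    rcases eq_or_ne k i with rfl | hki
    · simp [h]
    rcases eq_or_ne k j with rfl | hkj
    · simp [h]
    · simp [Equiv.swap_apply_of_ne_of_ne hki hkj]
  rw [h2, Equiv.Perm.sign_swap hij] at h1
  simp at h1
  omega

theorem chiB_eq_zero_of_neg (g : Equiv.Perm X) (β : Fin N → ℤ) {i : Fin N} (h : β i < 0) :
    chiB g β = 0 :=
  sum_eq_zero fun w _ => by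
    rw [col_eq_zero_of_neg (i := i) (by omega), mul_zero]

theorem chiB_eq_zero_of_sum (g : Equiv.Perm X) (β : Fin N → ℤ)
    (h : ∑ i, β i ≠ (Fintype.card X : ℤ) + ∑ i : Fin N, ((i : ℕ) : ℤ)) : chiB g β = 0 :=
  sum_eq_zero fun w _ => by
    rw [col_eq_zero_of_sum, mul_zero]
    rw [sum_sub_distrib, Equiv.sum_comp w (fun i : Fin N => ((i : ℕ) : ℤ))]
    omega

section MurnaghanNakayama

variable {T : Finset X} {g : Equiv.Perm X}

/-- Splitting off one orbit. -/
theorem col_orbit (hne : T.Nonempty) (hT : ∀ x, x ∉ T ↔ g x ∉ T)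
    (horb : ∀ x ∈ T, ∀ y ∈ T, g.SameCycle x y) (α : Fin N → ℤ) :
    col g α = ∑ i, col (g.subtypePerm (p := fun x => x ∉ T) (fun x => (hT x).symm))
      (α - Pi.single i (T.card : ℤ)) := by
  obtain ⟨t, ht⟩ := hne
  have hconst : ∀ f : X → Fin N, (∀ x, f (g x) = f x) → ∀ x ∈ T, f x = f t := by
    intro f hf x hx
    obtain ⟨k, rfl⟩ := horb t ht x hx
    have : ∀ (k : ℕ) (y : X), f ((g ^ k) y) = f y := by
      intro k
      induction k with
      | zero => simp
      | succ k ih => intro y; rw [pow_succ, Equiv.Perm.mul_apply, ih, hf]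
    obtain ⟨j, hj⟩ := Equiv.Perm.SameCycle.exists_nat_pow_eq (f := g) (x := t) (y := (g ^ k) t) ⟨k, rfl⟩
    rw [← hj, this]
  have hcard : ∀ (f : X → Fin N) (i j : Fin N), (∀ x ∈ T, f x = i) →
      (Nat.card {x // f x = j} : ℤ) =
        (Nat.card {y : {x // x ∉ T} // f y.1 = j} : ℤ) + if j = i then (T.card : ℤ) else 0 := by
    intro f i j hf
    rw [Nat.card_congr (Equiv.sumCompl fun y : {x // f x = j} => y.1 ∈ T).symm, Nat.card_sum]
    have e1 : Nat.card {y : {x // f x = j} // y.1 ∉ T} =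
        Nat.card {y : {x // x ∉ T} // f y.1 = j} :=
      Nat.card_congr
        { toFun := fun y => ⟨⟨y.1.1, y.2⟩, y.1.2⟩
          invFun := fun y => ⟨⟨y.1.1, y.2⟩, y.1.2⟩
          left_inv := fun _ => rfl
          right_inv := fun _ => rfl }
    have e2 : Nat.card {y : {x // f x = j} // y.1 ∈ T} = if j = i then T.card else 0 := by
      split_ifs with h
      · rw [← Nat.card_eq_finsetCard]
        exact Nat.card_congr
          { toFun := fun y => ⟨y.1.1, y.2⟩
            invFun := fun y => ⟨⟨y.1, h ▸ hf y.1 y.2⟩, y.2⟩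
            left_inv := fun _ => rfl
            right_inv := fun _ => rfl }
      · haveI : IsEmpty {y : {x // f x = j} // y.1 ∈ T} :=
          ⟨fun y => h (y.1.2.symm.trans (hf y.1.1 y.2))⟩
        exact Nat.card_of_isEmpty
    rw [e1, e2]
    push_cast
    ring
  simp only [col]
  rw [← Nat.cast_sum, ← Nat.card_sigma]
  congr 1
  refine Nat.card_congr
    { toFun := fun f => ⟨f.1 t, fun y => f.1 y.1, fun y => f.2.1 y.1, fun j => ?_⟩
      invFun := fun q => ⟨fun x => if h : x ∈ T then q.1 else q.2.1 ⟨x, h⟩,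
        fun x => ?_, fun j => ?_⟩
      left_inv := fun f => Subtype.ext (funext fun x => ?_)
      right_inv := fun q => ?_ }
  · have := f.2.2 j
    rw [hcard f.1 (f.1 t) j (hconst f.1 f.2.1)] at this
    simp only [Pi.sub_apply, Pi.single_apply]
    omega
  · by_cases h : x ∈ T
    · have hg : g x ∈ T := not_not.1 fun hg => (hT x).2 hg h
      simp [h, hg]
    · simp only [h, (hT x).1 h, dite_false]
      exact q.2.2.1 ⟨x, h⟩
  · rw [hcard _ q.1 j (fun x hx => by simp [hx])]
    have e : Nat.card {y : {x // x ∉ T} // (if h : y.1 ∈ T then q.1 else q.2.1 ⟨y.1, h⟩) = j} =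
        Nat.card {y : {x // x ∉ T} // q.2.1 y = j} :=
      Nat.card_congr (Equiv.subtypeEquivRight fun y => by simp [y.2])
    rw [e, q.2.2.2 j]
    simp only [Pi.sub_apply, Pi.single_apply]
    omega
  · by_cases h : x ∈ T
    · simp [h, hconst f.1 f.2.1 x h]
    · simp [h]
  · obtain ⟨i, f, hf⟩ := q
    refine Sigma.ext (by simp [ht]) ?_
    refine (Subtype.heq_iff_coe_eq fun f' => ?_).2 (funext fun y => by simp [y.2])
    simp [ht]

/-- The Murnaghan–Nakayama rule in beta-number form. -/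
theorem chiB_orbit (hne : T.Nonempty) (hT : ∀ x, x ∉ T ↔ g x ∉ T)
    (horb : ∀ x ∈ T, ∀ y ∈ T, g.SameCycle x y) (β : Fin N → ℤ) :
    chiB g β = ∑ i, chiB (g.subtypePerm (p := fun x => x ∉ T) (fun x => (hT x).symm))
      (β - Pi.single i (T.card : ℤ)) := by
  simp only [chiB]
  rw [sum_comm]
  refine sum_congr rfl fun w _ => ?_
  rw [col_orbit hne hT horb, mul_sum]
  refine sum_congr rfl fun i _ => ?_
  congr 2
  funext j
  simp only [Pi.sub_apply]
  ring

end MurnaghanNakayama

section Margins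

open CfsgLib.Unipotent

/-- Pairs of colourings up to permutations of the points. -/
theorem card_orbits_pairs {r c : Fin N → ℕ} (hr : ∑ i, r i = Fintype.card X)
    (hc : ∑ i, c i = Fintype.card X) :
    Nat.card (MulAction.orbitRel.Quotient (Equiv.Perm X)
      (Colouring X (fun i => (r i : ℤ)) × Colouring X (fun i => (c i : ℤ)))) =
      Nat.card (Margins r c) := by
  let cnt : (X → Fin N) → (X → Fin N) → Fin N → Fin N → ℕ := fun f h a b =>
    Nat.card {x // f x = a ∧ h x = b}
  have hrow : ∀ (f h : X → Fin N) (a : Fin N), ∑ b, cnt f h a b = Nat.card {x // f x = a} := by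
    intro f h a
    rw [Nat.card_congr (Equiv.sigmaFiberEquiv fun x : {x // f x = a} => h x.1).symm, Nat.card_sigma]
    exact sum_congr rfl fun b _ => Nat.card_congr
      { toFun := fun x => ⟨⟨x.1, x.2.1⟩, x.2.2⟩
        invFun := fun x => ⟨x.1.1, x.1.2, x.2⟩
        left_inv := fun _ => rfl
        right_inv := fun _ => rfl }
  have hcol : ∀ (f h : X → Fin N) (b : Fin N), ∑ a, cnt f h a b = Nat.card {x // h x = b} := by
    intro f h b
    rw [← hrow h f b]
    exact sum_congr rfl fun a _ => Nat.card_congr (Equiv.subtypeEquivRight fun x => and_comm)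
  let m : Colouring X (fun i => (r i : ℤ)) × Colouring X (fun i => (c i : ℤ)) → Margins r c :=
    fun q => ⟨cnt q.1.1 q.2.1,
      fun a => by rw [hrow]; exact Nat.cast_injective (R := ℤ) (q.1.2 a),
      fun b => by rw [hcol]; exact Nat.cast_injective (R := ℤ) (q.2.2 b)⟩
  have hinv : ∀ q q', MulAction.orbitRel (Equiv.Perm X) _ q q' → m q = m q' := by
    rintro q q' ⟨g, rfl⟩
    refine Subtype.ext (funext fun a => funext fun b => ?_)
    exact Nat.card_congr ((g⁻¹).subtypeEquiv fun x => Iff.rfl)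
  refine Nat.card_congr (Equiv.ofBijective (Quotient.lift m hinv) ⟨?_, ?_⟩)
  · rintro ⟨q⟩ ⟨q'⟩ h
    refine Quotient.sound ?_
    have h' : ∀ ab : Fin N × Fin N, Nat.card {x // (q.1.1 x, q.2.1 x) = ab} =
        Nat.card {x // (q'.1.1 x, q'.2.1 x) = ab} := by
      intro ab
      have := congrFun (congrFun (congrArg Subtype.val h) ab.1) ab.2
      simpa [m, cnt, Prod.ext_iff] using this
    obtain ⟨e, he⟩ := exists_perm_comp h'
    refine ⟨e⁻¹, Prod.ext (Subtype.ext (funext fun x => ?_)) (Subtype.ext (funext fun x => ?_))⟩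
    · show q'.1.1 ((e⁻¹)⁻¹ x) = q.1.1 x
      rw [inv_inv]; exact congrArg Prod.fst (he x)
    · show q'.2.1 ((e⁻¹)⁻¹ x) = q.2.1 x
      rw [inv_inv]; exact congrArg Prod.snd (he x)
  · rintro ⟨A, hA1, hA2⟩
    have hcardX : Fintype.card X = Fintype.card (Σ ab : Fin N × Fin N, Fin (A ab.1 ab.2)) := by
      rw [Fintype.card_sigma, Fintype.sum_prod_type, ← hr]
      exact sum_congr rfl fun a _ => by simp [hA1 a]
    let e := Fintype.equivOfCardEq hcardX
    let f : X → Fin N := fun x => (e x).1.1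
    let h : X → Fin N := fun x => (e x).1.2
    have hc2 : ∀ a b, cnt f h a b = A a b := by
      intro a b
      rw [← Nat.card_fin (A a b)]
      exact Nat.card_congr ((e.subtypeEquiv (q := fun y => y.1 = (a, b)) fun x => by
        simp [f, h, Prod.ext_iff]).trans (Equiv.sigmaSubtype (a, b)))
    refine ⟨⟦(⟨f, fun a => ?_⟩, ⟨h, fun b => ?_⟩)⟧, Subtype.ext (funext fun a => funext (hc2 a))⟩
    · rw [← hrow f h a]; simp [hc2, hA1 a]
    · rw [← hcol f h b]; simp [hc2, hA2 b]

end Margins

end CfsgLib.SymBlocks
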