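import Mathlib

/-!
# Counting abacus configurations

Finite sets of naturals with prescribed residue counts, whose runner `0` admits no move down.
-/

set_option autoImplicit false
set_option linter.style.haveILetI false

open scoped Classical

namespace CfsgLib.SymBlocks.Abacus

open Finset

variable {p : ℕ}

/-- The entries on runner `r`. -/
def runner (p : ℕ) (s : Finset ℕ) (r : ℕ) : Finset ℕ := s.filter fun x => x % p = r

/-- No entry of runner `r` can move down. -/
def RunnerCore (p : ℕ) (s : Finset ℕ) (r : ℕ) : Prop :=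
  ∀ x ∈ runner p s r, p ≤ x → x - p ∈ s

/-- The residue counts of `s` are `K`. -/
def HasKey (p : ℕ) (K : ℕ → ℕ) (s : Finset ℕ) : Prop := ∀ r < p, (runner p s r).card = K r

/-- The sum of the entries of a core with counts `K`. -/
def coreSum (p : ℕ) (K : ℕ → ℕ) : ℕ := ∑ r ∈ range p, ∑ k ∈ range (K r), (r + p * k)

theorem runner_eq_image (hp : 0 < p) {s : Finset ℕ} {r : ℕ} (hr : r < p) (h : RunnerCore p s r) :
    runner p s r = (range (runner p s r).card).image fun k => r + p * k := by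
  have hdown : ∀ k, r + p * k ∈ s → ∀ j ≤ k, r + p * j ∈ s := by
    intro k
    induction k with
    | zero => intro h0 j hj; rwa [Nat.le_zero.1 hj]
    | succ k ih =>
      intro hk j hj
      rcases Nat.lt_or_eq_of_le hj with h' | rfl
      · refine ih ?_ j (Nat.le_of_lt_succ h')
        have h1 := h _ (mem_filter.2 ⟨hk, by simp [Nat.mod_eq_of_lt hr]⟩) (by
          rw [Nat.mul_succ]; omega)
        rwa [Nat.mul_succ, ← add_assoc, Nat.add_sub_cancel] at h1
      · exact hk
  have hinj : Function.Injective fun k => r + p * k := fun a b e =>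
    Nat.eq_of_mul_eq_mul_left hp (Nat.add_left_cancel e)
  set c := (runner p s r).card with hc
  have hsub : runner p s r ⊆ (range c).image fun k => r + p * k := by
    intro x hx
    obtain ⟨hxs, hxr⟩ := mem_filter.1 hx
    refine mem_image.2 ⟨x / p, mem_range.2 ?_, by rw [← hxr]; exact Nat.mod_add_div x p⟩
    have hsub' : (range (x / p + 1)).image (fun k => r + p * k) ⊆ runner p s r := by
      intro y hy
      obtain ⟨j, hj, rfl⟩ := mem_image.1 hy
      refine mem_filter.2 ⟨hdown (x / p) ?_ j (Nat.le_of_lt_succ (mem_range.1 hj)),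
        by simp [Nat.mod_eq_of_lt hr]⟩
      rwa [← hxr, Nat.mod_add_div]
    have := card_le_card hsub'
    rw [card_image_of_injective _ hinj, card_range] at this
    omega
  exact eq_of_subset_of_card_le hsub (by rw [card_image_of_injective _ hinj, card_range])

theorem eq_biUnion_runner (hp : 0 < p) (s : Finset ℕ) :
    s = (range p).biUnion (runner p s) := by
  ext x
  simp [runner, Nat.mod_lt x hp]

theorem eq_of_core (hp : 0 < p) {K : ℕ → ℕ} {s t : Finset ℕ} (hs : HasKey p K s) (ht : HasKey p K t)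
    (hs' : ∀ r < p, RunnerCore p s r) (ht' : ∀ r < p, RunnerCore p t r) : s = t := by
  rw [eq_biUnion_runner hp s, eq_biUnion_runner hp t]
  refine Finset.biUnion_congr rfl fun r hr => ?_
  rw [runner_eq_image hp (mem_range.1 hr) (hs' r (mem_range.1 hr)),
    runner_eq_image hp (mem_range.1 hr) (ht' r (mem_range.1 hr)), hs r (mem_range.1 hr),
    ht r (mem_range.1 hr)]

theorem sum_eq_coreSum (hp : 0 < p) {K : ℕ → ℕ} {s : Finset ℕ} (hs : HasKey p K s)
    (hs' : ∀ r < p, RunnerCore p s r) : ∑ x ∈ s, x = coreSum p K := by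
  conv_lhs => rw [eq_biUnion_runner hp s]
  rw [sum_biUnion (fun a _ b _ hab => disjoint_left.2 fun x hxa hxb =>
    hab ((mem_filter.1 hxa).2.symm.trans (mem_filter.1 hxb).2))]
  refine sum_congr rfl fun r hr => ?_
  rw [runner_eq_image hp (mem_range.1 hr) (hs' r (mem_range.1 hr)), hs r (mem_range.1 hr),
    sum_image fun a _ b _ e => Nat.eq_of_mul_eq_mul_left hp (Nat.add_left_cancel e)]

theorem card_runner_move {s : Finset ℕ} {x h r : ℕ} (hx : x ∈ s) (hh : h ∉ s)
    (hmod : h % p = x % p) : (runner p (insert h (s.erase x)) r).card = (runner p s r).card := by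
  simp only [runner, filter_insert, filter_erase, hmod]
  by_cases hr : x % p = r
  · have h1 : x ∈ s.filter fun y => y % p = r := mem_filter.2 ⟨hx, hr⟩
    rw [if_pos hr, card_insert_of_notMem (fun c => hh (mem_filter.1 (mem_of_mem_erase c)).1),
      card_erase_of_mem h1]
    have := card_pos.2 ⟨x, h1⟩
    omega
  · rw [if_neg hr, erase_eq_of_notMem (a := x) fun c => hr (mem_filter.1 c).2]

theorem sum_move {s : Finset ℕ} {x h : ℕ} (hx : x ∈ s) (hh : h ∉ s) :
    ∑ y ∈ insert h (s.erase x), y + x = ∑ y ∈ s, y + h := by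
  rw [sum_insert fun c => hh (mem_of_mem_erase c), add_assoc, sum_erase_add _ _ hx, add_comm]

/-- A configuration that is not a core on runner `r` has a first vacancy and a first entry above it. -/
theorem exists_move (hp : 0 < p) {s : Finset ℕ} {r : ℕ} (hr : r < p) (h : ¬ RunnerCore p s r) :
    ∃ a k : ℕ, 0 < k ∧ r + p * a ∉ s ∧ r + p * (a + k) ∈ s ∧ (∀ j < a, r + p * j ∈ s) ∧
      ∀ j, a < j → j < a + k → r + p * j ∉ s := by
  simp only [RunnerCore, runner, mem_filter, not_forall] at h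
  obtain ⟨x, ⟨hxs, hxr⟩, hpx, hxp⟩ := h
  have hex : ∃ a, r + p * a ∉ s := by
    refine ⟨x / p - 1, ?_⟩
    convert hxp using 2
    have := Nat.mod_add_div x p
    have h1 : 1 ≤ x / p := (Nat.one_le_div_iff hp).2 hpx
    rw [Nat.mul_sub, mul_one]
    have h2 : p * 1 ≤ p * (x / p) := Nat.mul_le_mul_left p h1
    omega
  set a := Nat.find hex
  have ha : r + p * a ∉ s := Nat.find_spec hex
  have hax : a < x / p := by
    have h1 : 1 ≤ x / p := (Nat.one_le_div_iff hp).2 hpx
    refine lt_of_le_of_lt (Nat.find_min' hex (m := x / p - 1) ?_) (by omega)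
    convert hxp using 2
    have := Nat.mod_add_div x p
    rw [Nat.mul_sub, mul_one]
    have h2 : p * 1 ≤ p * (x / p) := Nat.mul_le_mul_left p h1
    omega
  have hex2 : ∃ k, 0 < k ∧ r + p * (a + k) ∈ s := by
    refine ⟨x / p - a, by omega, ?_⟩
    rw [Nat.add_sub_cancel' hax.le, ← hxr, Nat.mod_add_div]
    exact hxs
  refine ⟨a, Nat.find hex2, (Nat.find_spec hex2).1, ha, (Nat.find_spec hex2).2,
    fun j hj => not_not.1 (Nat.find_min hex hj), fun j h1 h2 hj => ?_⟩
  refine Nat.find_min hex2 (m := j - a) (by omega) ⟨by omega, ?_⟩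
  rwa [Nat.add_sub_cancel' h1.le]

/-- The sum exceeds that of the core by a multiple of `p`. -/
theorem exists_weight (hp : 0 < p) {K : ℕ → ℕ} {s : Finset ℕ} (hs : HasKey p K s) :
    ∃ w, ∑ x ∈ s, x = coreSum p K + p * w := by
  suffices H : ∀ d, ∀ s : Finset ℕ, HasKey p K s → ∑ x ∈ s, x = d →
      ∃ w, d = coreSum p K + p * w from H _ s hs rfl
  intro d
  induction d using Nat.strong_induction_on with
  | _ d ih => ?_
  intro s hs hd
  by_cases hc : ∀ r < p, RunnerCore p s r
  · exact ⟨0, by rw [← hd, sum_eq_coreSum hp hs hc]; simp⟩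
  push Not at hc
  obtain ⟨r, hr, hc⟩ := hc
  obtain ⟨a, k, hk, hh, hx, -, -⟩ := exists_move hp hr hc
  have hsum := sum_move hx hh
  have hpk : 0 < p * k := Nat.mul_pos hp hk
  rw [Nat.mul_add] at hsum
  rw [hd] at hsum
  obtain ⟨w, hw⟩ := ih (d - p * k) (by omega) (insert (r + p * a) (s.erase (r + p * (a + k))))
    (fun r' hr' => by rw [card_runner_move hx hh (by simp), hs r' hr'])
    (by rw [Nat.mul_add]; omega)
  exact ⟨w + k, by rw [Nat.mul_add]; omega⟩

/-- The configurations of weight `w` whose runner `0` is a core. -/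
noncomputable def confs (p : ℕ) (K : ℕ → ℕ) (w : ℕ) : Finset (Finset ℕ) :=
  ((range (coreSum p K + p * w + 1)).powerset).filter fun s =>
    HasKey p K s ∧ RunnerCore p s 0 ∧ ∑ x ∈ s, x = coreSum p K + p * w

theorem mem_confs {K : ℕ → ℕ} {w : ℕ} {s : Finset ℕ} :
    s ∈ confs p K w ↔ HasKey p K s ∧ RunnerCore p s 0 ∧ ∑ x ∈ s, x = coreSum p K + p * w := by
  refine ⟨fun h => (mem_filter.1 h).2, fun h => mem_filter.2 ⟨mem_powerset.2 fun x hx => ?_, h⟩⟩
  rw [mem_range]
  have := single_le_sum (f := fun y => y) (fun y _ => Nat.zero_le y) hx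
  omega

theorem exists_data (hp : 0 < p) {K : ℕ → ℕ} {w : ℕ} {s : Finset ℕ} (h : s ∈ confs p K w)
    (hc : ¬ ∀ r < p, RunnerCore p s r) :
    ∃ r a k, r ∈ Ico 1 p ∧ k ∈ Icc 1 w ∧ r + p * a ∉ s ∧ r + p * (a + k) ∈ s ∧
      (∀ j < a, r + p * j ∈ s) ∧ (∀ j, a < j → j < a + k → r + p * j ∉ s) ∧
      insert (r + p * a) (s.erase (r + p * (a + k))) ∈ confs p K (w - k) := by
  obtain ⟨hkey, h0, hsum⟩ := mem_confs.1 h
  push Not at hc
  obtain ⟨r, hr, hc⟩ := hc
  have hr0 : r ≠ 0 := fun e => hc (e ▸ h0)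
  obtain ⟨a, k, hk, hh, hx, hlow, hmid⟩ := exists_move hp hr hc
  set x := r + p * (a + k) with hxdef
  set h' := r + p * a with hhdef
  set s' := insert h' (s.erase x)
  have hkey' : HasKey p K s' := fun r' hr' => by
    rw [card_runner_move hx hh (by simp [hxdef, hhdef]), hkey r' hr']
  have hs := sum_move hx hh
  obtain ⟨w', hw'⟩ := exists_weight hp hkey'
  have hw : w' + k = w := by
    refine Nat.eq_of_mul_eq_mul_left hp ?_
    rw [Nat.mul_add]
    have e : x = h' + p * k := by rw [hxdef, hhdef, Nat.mul_add, add_assoc]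
    have hs2 : ∑ y ∈ s', y + x = ∑ y ∈ s, y + h' := hs
    omega
  have h0' : RunnerCore p s' 0 := by
    intro y hy hpy
    obtain ⟨hys, hy0⟩ := mem_filter.1 hy
    have hne : y ≠ h' := fun e => hr0 (by
      rw [e, hhdef, Nat.add_mul_mod_self_left, Nat.mod_eq_of_lt hr] at hy0; exact hy0)
    have hys' : y ∈ s := mem_of_mem_erase ((mem_insert.1 hys).resolve_left hne)
    refine mem_insert_of_mem (mem_erase.2 ⟨fun e => hr0 ?_, h0 y (mem_filter.2 ⟨hys', hy0⟩) hpy⟩)
    have hy1 : (y - p) % p = 0 := by rw [← Nat.mod_eq_sub_mod hpy, hy0]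
    rw [e, hxdef, Nat.add_mul_mod_self_left, Nat.mod_eq_of_lt hr] at hy1
    exact hy1
  refine ⟨r, a, k, mem_Ico.2 ⟨Nat.pos_of_ne_zero hr0, hr⟩, mem_Icc.2 ⟨hk, by omega⟩, hh, hx, hlow,
    hmid, mem_confs.2 ⟨hkey', h0', ?_⟩⟩
  rw [show w - k = w' by omega]
  exact hw'

theorem card_confs_zero (hp : 0 < p) (K : ℕ → ℕ) : (confs p K 0).card ≤ 1 := by
  have hall : ∀ s ∈ confs p K 0, ∀ r < p, RunnerCore p s r := by
    intro s hs
    by_contra hc
    obtain ⟨r, a, k, -, hk, -⟩ := exists_data hp hs hc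
    simp at hk
  exact card_le_one.2 fun s hs t ht =>
    eq_of_core hp (mem_confs.1 hs).1 (mem_confs.1 ht).1 (hall s hs) (hall t ht)

theorem card_confs_succ (hp : 0 < p) (K : ℕ → ℕ) (w : ℕ) :
    (confs p K (w + 1)).card ≤ (p - 1) * ∑ j ∈ range (w + 1), (confs p K j).card := by
  let tgt := (Ico 1 p).sigma fun _ => (range (w + 1)).sigma fun j => confs p K j
  let Good : Finset ℕ → (Σ _ : ℕ, Σ _ : ℕ, Finset ℕ) → Prop := fun s q => ∃ a k,
    0 < k ∧ q.2.1 + k = w + 1 ∧ q.1 + p * a ∉ s ∧ q.1 + p * (a + k) ∈ s ∧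
    (∀ j < a, q.1 + p * j ∈ s) ∧ (∀ j, a < j → j < a + k → q.1 + p * j ∉ s) ∧
    q.2.2 = insert (q.1 + p * a) (s.erase (q.1 + p * (a + k)))
  have hex : ∀ s : Finset ℕ, ∃ q, s ∈ confs p K (w + 1) → q ∈ tgt ∧ Good s q := by
    intro s
    by_cases hs : s ∈ confs p K (w + 1)
    · have hc : ¬ ∀ r < p, RunnerCore p s r := fun hc => by
        have := (mem_confs.1 hs).2.2
        rw [sum_eq_coreSum hp (mem_confs.1 hs).1 hc] at this
        have : 0 < p * (w + 1) := Nat.mul_pos hp (by omega)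
        omega
      obtain ⟨r, a, k, hr, hk, hh, hx, hlow, hmid, hmem⟩ := exists_data hp hs hc
      rw [mem_Icc] at hk
      refine ⟨⟨r, w + 1 - k, insert (r + p * a) (s.erase (r + p * (a + k)))⟩, fun _ => ⟨?_, ?_⟩⟩
      · simp only [tgt, mem_sigma, mem_range]
        exact ⟨hr, by omega, hmem⟩
      · exact ⟨a, k, hk.1, by simp only; omega, hh, hx, hlow, hmid, rfl⟩
    · exact ⟨⟨0, 0, ∅⟩, fun h => absurd h hs⟩
  choose f hf using hex
  have hcard : tgt.card = (p - 1) * ∑ j ∈ range (w + 1), (confs p K j).card := by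
    simp only [tgt, card_sigma, sum_const, Nat.card_Ico, smul_eq_mul]
  rw [← hcard]
  refine card_le_card_of_injOn f (fun s hs => (hf s hs).1) fun s hs t ht e => ?_
  obtain ⟨a, k, hk, hjk, hh, hx, hlow, hmid, hs'⟩ := (hf s hs).2
  obtain ⟨b, l, hl, hjl, hh', hx', hlow', hmid', ht'⟩ := (hf t ht).2
  rw [e] at hjk hh hx hlow hmid hs'
  have hkl : k = l := by omega
  subst hkl
  generalize (f t).1 = r at *
  have key : ∀ {u v : Finset ℕ} {c d : ℕ}, r + p * c ∉ u → (∀ j, c < j → j < c + k → r + p * j ∉ u) →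
      (∀ j < d, r + p * j ∈ v) →
      insert (r + p * c) (u.erase (r + p * (c + k))) = insert (r + p * d) (v.erase (r + p * (d + k))) →
      c < d → False := by
    intro u v c d hu humid hvlow heq hcd
    have hin : r + p * (c + 1) ∈ insert (r + p * d) (v.erase (r + p * (d + k))) := by
      rcases Nat.lt_or_eq_of_le hcd with h1 | h1
      · exact mem_insert_of_mem (mem_erase.2 ⟨fun e => by
          have := Nat.eq_of_mul_eq_mul_left hp (Nat.add_left_cancel e); omega, hvlow _ h1⟩)
      · rw [← h1]; exact mem_insert_self _ _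
    rw [← heq, mem_insert, mem_erase] at hin
    rcases hin with e | ⟨hne, hmem⟩
    · have := Nat.eq_of_mul_eq_mul_left hp (Nat.add_left_cancel e); omega
    · rcases Nat.lt_or_eq_of_le hk with h1 | h1
      · exact humid (c + 1) (by omega) (by omega) hmem
      · exact hne (by rw [← h1])
  have hab : a = b := by
    rcases lt_trichotomy a b with h | h | h
    · exact (key hh hmid hlow' (hs'.symm.trans ht') h).elim
    · exact h
    · exact (key hh' hmid' hlow (ht'.symm.trans hs') h).elim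
  subst hab
  have back : ∀ {u : Finset ℕ}, r + p * a ∉ u → r + p * (a + k) ∈ u →
      u = insert (r + p * (a + k)) ((insert (r + p * a) (u.erase (r + p * (a + k)))).erase (r + p * a)) := by
    intro u h1 h2
    rw [erase_insert fun c => h1 (mem_of_mem_erase c), insert_erase h2]
  rw [back hh hx, back hh' hx', ← hs', ← ht']

theorem sum_card_confs_le (hp : 0 < p) (K : ℕ → ℕ) :
    ∀ w, ∑ j ∈ range (w + 1), (confs p K j).card ≤ p ^ w
  | 0 => by simpa using card_confs_zero hp K
  | w + 1 => by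
    rw [sum_range_succ]
    have h1 := sum_card_confs_le hp K w
    have h2 := (card_confs_succ hp K w).trans (Nat.mul_le_mul_left (p - 1) h1)
    calc ∑ j ∈ range (w + 1), (confs p K j).card + (confs p K (w + 1)).card
        ≤ p ^ w + (p - 1) * p ^ w := Nat.add_le_add h1 h2
      _ = ((p - 1) + 1) * p ^ w := by ring
      _ = p ^ (w + 1) := by rw [Nat.sub_add_cancel hp, pow_succ']

/-- The bound used for the block rank. -/
theorem card_confs_lt (hp : 1 < p) (K : ℕ → ℕ) {w s : ℕ} (hw : w ≤ s) (hs : 0 < s) :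
    (confs p K w).card < p ^ s := by
  have hp0 : 0 < p := Nat.lt_of_lt_of_le one_pos hp.le
  rcases w with _ | w
  · exact lt_of_le_of_lt (card_confs_zero hp0 K) (Nat.one_lt_pow hs.ne' hp)
  · refine lt_of_lt_of_le ?_ (Nat.pow_le_pow_right hp0 hw)
    refine lt_of_le_of_lt ((card_confs_succ hp0 K w).trans
      (Nat.mul_le_mul_left _ (sum_card_confs_le hp0 K w))) ?_
    rw [pow_succ']
    exact Nat.mul_lt_mul_of_pos_right (by omega) (Nat.pow_pos hp0)

end CfsgLib.SymBlocks.Abacus
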