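import Cfsg.Prelude.Def_CaseTheorems
import Cfsg.Agent.Blocks.HeightZero.InducedDefect
import Cfsg.Agent.Blocks.DefectDegree
import Cfsg.Agent.LocalP.Basic
import Cfsg.Agent.S0955
import Mathlib.GroupTheory.Perm.Centralizer

/-!
# Defect groups of blocks of symmetric groups

* `orbitwiseGroup`: the permutations commuting with `D` which agree on every `D`-orbit with some
  element of `D`; a `p`-group normalised by the normalizer of `D`;
* `defectClass_fix`: a defect class element fixes every point moved by the defect group;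
* `rank_bound_of_perm_defect`: an element of order `p` where a character of the block does not
  vanish has at most `s` cycles of length `p`, `s` bounding the sectional rank of the defect group.
-/

set_option autoImplicit false
set_option linter.style.haveILetI false

open Cfsg

namespace CfsgLib.SymBlocks

open Equiv

variable {α : Type*}

/-- Permutations commuting with `D` which agree on each orbit of `D` with an element of `D`. -/
def orbitwiseGroup (D : Subgroup (Perm α)) : Subgroup (Perm α) where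
  carrier := {z | (∀ d ∈ D, z * d = d * z) ∧
    ∀ a, ∃ d ∈ D, ∀ e ∈ D, z (e a) = d (e a)}
  one_mem' := ⟨fun d _ => by rw [one_mul, mul_one], fun _ => ⟨1, D.one_mem, fun _ _ => rfl⟩⟩
  mul_mem' := by
    rintro z w ⟨hzc, hz⟩ ⟨hwc, hw⟩
    refine ⟨fun d hd => by rw [mul_assoc, hwc d hd, ← mul_assoc, hzc d hd, mul_assoc], fun a => ?_⟩
    obtain ⟨d, hd, hdz⟩ := hz a
    obtain ⟨d', hd', hdw⟩ := hw a
    refine ⟨d * d', D.mul_mem hd hd', fun e he => ?_⟩
    rw [Perm.mul_apply, Perm.mul_apply, hdw e he, ← Perm.mul_apply d' e, hdz _ (D.mul_mem hd' he)]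
  inv_mem' := by
    rintro z ⟨hzc, hz⟩
    refine ⟨fun d hd => (Commute.inv_left (hzc d hd : Commute z d)).eq, fun a => ?_⟩
    obtain ⟨d, hd, hdz⟩ := hz a
    refine ⟨d⁻¹, D.inv_mem hd, fun e he => ?_⟩
    rw [Perm.inv_def, Equiv.symm_apply_eq, ← Perm.mul_apply d⁻¹ e,
      hdz _ (D.mul_mem (D.inv_mem hd) he), Perm.mul_apply]
    exact (Equiv.apply_symm_apply d (e a)).symm

theorem orbitwiseGroup_le_centralizer (D : Subgroup (Perm α)) :
    orbitwiseGroup D ≤ Subgroup.centralizer (D : Set (Perm α)) :=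
  fun _ hz => Subgroup.mem_centralizer_iff.2 fun d hd => (hz.1 d hd).symm

/-- The group is a `p`-group. -/
theorem isPGroup_orbitwiseGroup [Finite α] {p : ℕ} [Fact p.Prime] {D : Subgroup (Perm α)}
    (hD : IsPGroup p D) : IsPGroup p (orbitwiseGroup D) := by
  obtain ⟨k, hk⟩ := IsPGroup.iff_card.1 hD
  intro z
  refine ⟨k, Subtype.ext (Equiv.ext fun a => ?_)⟩
  obtain ⟨d, hd, hdz⟩ := z.2.2 a
  have hpow : ∀ m : ℕ, ((z : Perm α) ^ m) a = (d ^ m) a := fun m => by
    induction m with
    | zero => rfl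
    | succ m ih =>
      rw [pow_succ', Perm.mul_apply, ih, hdz _ (D.pow_mem hd m), pow_succ', Perm.mul_apply]
  rw [Subgroup.coe_pow, hpow]
  have := congrArg Subtype.val (pow_card_eq_one' (x := (⟨d, hd⟩ : D)))
  rw [Subgroup.coe_pow, hk, Subgroup.coe_one] at this
  rw [this]
  rfl

/-- The normalizer of `D` normalises the group. -/
theorem conj_mem_orbitwiseGroup {D : Subgroup (Perm α)} {g : Perm α}
    (hg : g ∈ Subgroup.normalizer (D : Set (Perm α))) {z : Perm α} (hz : z ∈ orbitwiseGroup D) :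
    g * z * g⁻¹ ∈ orbitwiseGroup D := by
  have hback : ∀ d ∈ D, g⁻¹ * d * g ∈ D := fun d hd =>
    (Subgroup.mem_normalizer_iff''.1 hg d).1 hd
  refine ⟨fun d hd => ?_, fun a => ?_⟩
  · have h := hz.1 _ (hback d hd)
    calc g * z * g⁻¹ * d = g * (z * (g⁻¹ * d * g)) * g⁻¹ := by group
      _ = g * (g⁻¹ * d * g * z) * g⁻¹ := by rw [h]
      _ = d * (g * z * g⁻¹) := by group
  · obtain ⟨d, hd, hdz⟩ := hz.2 (g⁻¹ a)
    refine ⟨g * d * g⁻¹, (Subgroup.mem_normalizer_iff.1 hg d).1 hd, fun e he => ?_⟩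
    have hea : g⁻¹ (e a) = (g⁻¹ * e * g) (g⁻¹ a) := by
      rw [Perm.mul_apply, Perm.mul_apply]
      exact congrArg _ (congrArg _ (Equiv.apply_symm_apply g a).symm)
    rw [Perm.mul_apply, Perm.mul_apply, Perm.mul_apply, Perm.mul_apply, hea,
      hdz _ (hback e he)]

/-- `O_p(N(D)) = D` puts the group inside `D`. -/
theorem orbitwiseGroup_le [Finite α] {p : ℕ} [Fact p.Prime] {D : Subgroup (Perm α)}
    (hD : IsPGroup p D)
    (hcore : (Cfsg.pCore p (Subgroup.normalizer (D : Set (Perm α)))).map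
      (Subgroup.normalizer (D : Set (Perm α))).subtype = D) :
    orbitwiseGroup D ≤ D := by
  set N := Subgroup.normalizer (D : Set (Perm α)) with hN
  have hle : orbitwiseGroup D ≤ N := fun z hz => by
    rw [hN, Subgroup.mem_normalizer_iff]
    intro d
    constructor
    · intro hd
      rwa [hz.1 d hd, mul_inv_cancel_right]
    · intro hd
      have h := hz.1 _ hd
      have heq : z * (z * d * z⁻¹) * z⁻¹ = z * d * z⁻¹ := by rw [h, mul_inv_cancel_right]
      have h2 : z * d * z⁻¹ = d := mul_left_cancel (mul_right_cancel heq)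
      rwa [h2] at hd
  intro z hz
  rw [← hcore]
  refine ⟨⟨z, hle hz⟩, CfsgLib.LocalP.le_pCore (N := (orbitwiseGroup D).subgroupOf N) ?_
    ((isPGroup_orbitwiseGroup hD).of_equiv (Subgroup.subgroupOfEquivOfLe hle).symm) hz, rfl⟩
  exact ⟨fun w hw g => by
    rw [Subgroup.mem_subgroupOf] at hw ⊢
    exact conj_mem_orbitwiseGroup g.2 hw⟩

/-- An element of order prime to `p` centralising `D` fixes every point moved by `D`, when
`O_p(N(D)) = D`. -/
theorem fix_of_mem_centralizer [Finite α] {p : ℕ} [Fact p.Prime] {D : Subgroup (Perm α)}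
    (hD : IsPGroup p D)
    (hcore : (Cfsg.pCore p (Subgroup.normalizer (D : Set (Perm α)))).map
      (Subgroup.normalizer (D : Set (Perm α))).subtype = D)
    {x : Perm α} (hx : ∀ d ∈ D, d * x = x * d) (hxr : ¬ p ∣ orderOf x)
    {a : α} (ha : ∃ d ∈ D, d a ≠ a) : x a = a := by
  classical
  let O : Set α := {b | ∃ d ∈ D, d a = b}
  have hOa : a ∈ O := ⟨1, D.one_mem, rfl⟩
  have hstab : ∀ e ∈ D, ∀ b, b ∈ O ↔ e b ∈ O := fun e he b => by
    constructor
    · rintro ⟨d, hd, rfl⟩
      exact ⟨e * d, D.mul_mem he hd, rfl⟩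
    · rintro ⟨d, hd, hdb⟩
      exact ⟨e⁻¹ * d, D.mul_mem (D.inv_mem he) hd, by
        rw [Perm.mul_apply, hdb]; exact Equiv.symm_apply_apply e b⟩
  -- the action on the orbit of `a`, and a non-trivial central element of its image
  let f : D →* Perm O :=
    { toFun := fun e => (e : Perm α).subtypePerm fun b => (hstab e e.2 b).symm
      map_one' := Equiv.ext fun b => Subtype.ext rfl
      map_mul' := fun e e' => Equiv.ext fun b => Subtype.ext rfl }
  obtain ⟨d₁, hd₁, hd₁a⟩ := ha
  haveI : Nontrivial f.range := by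
    refine ⟨f.rangeRestrict ⟨d₁, hd₁⟩, 1, fun h => hd₁a ?_⟩
    exact congrArg Subtype.val (DFunLike.congr_fun (congrArg Subtype.val h) ⟨a, hOa⟩)
  haveI : Nontrivial (Subgroup.center f.range) :=
    (hD.of_surjective f.rangeRestrict f.rangeRestrict_surjective).center_nontrivial
  obtain ⟨⟨⟨c, hc⟩, hcz⟩, hc1⟩ := exists_ne (1 : Subgroup.center f.range)
  obtain ⟨d, rfl⟩ := hc
  let z : Perm α := Perm.ofSubtype (f d)
  have hzO : ∀ b ∈ O, z b = (d : Perm α) b := fun b hb => by
    rw [show z b = f d ⟨b, hb⟩ from Perm.ofSubtype_apply_of_mem _ hb]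
    rfl
  have hzn : ∀ b, b ∉ O → z b = b := fun b hb => Perm.ofSubtype_apply_of_not_mem _ hb
  have hzmem : z ∈ orbitwiseGroup D := by
    refine ⟨fun e he => Equiv.ext fun b => ?_, fun b => ?_⟩
    · rw [Perm.mul_apply, Perm.mul_apply]
      by_cases hb : b ∈ O
      · rw [hzO b hb, hzO _ ((hstab e he b).1 hb)]
        have h := congrArg Subtype.val (Subgroup.mem_center_iff.1 hcz (f.rangeRestrict ⟨e, he⟩))
        exact (congrArg Subtype.val (DFunLike.congr_fun h ⟨b, hb⟩)).symm
      · rw [hzn b hb, hzn _ fun h => hb ((hstab e he b).2 h)]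
    · by_cases hb : b ∈ O
      · exact ⟨d, d.2, fun e he => hzO _ ((hstab e he b).1 hb)⟩
      · exact ⟨1, D.one_mem, fun e he => hzn _ fun h => hb ((hstab e he b).2 h)⟩
  obtain ⟨b, hbO, hbne⟩ : ∃ b ∈ O, z b ≠ b := by
    by_contra! hall
    exact hc1 (Subtype.ext (Subtype.ext (Equiv.ext fun b => Subtype.ext (by
      change (d : Perm α) b = b
      rw [← hzO b b.2]
      exact hall b b.2))))
  -- `x` maps the orbit to itself
  have hzx : z * x = x * z := hx z (orbitwiseGroup_le hD hcore hzmem)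
  have hxb : x b ∈ O := by
    by_contra hn
    apply hbne
    have h := DFunLike.congr_fun hzx b
    rw [Perm.mul_apply, Perm.mul_apply, hzn _ hn] at h
    exact (x.injective h).symm
  obtain ⟨e, he, rfl⟩ := hbO
  rw [← Perm.mul_apply x e, ← hx e he, Perm.mul_apply] at hxb
  obtain ⟨t, ht, hta⟩ := (hstab e he (x a)).2 hxb
  -- so it agrees at `a` with an element of `D`, which must fix `a`
  have hpow : ∀ m : ℕ, (x ^ m) a = (t ^ m) a := fun m => by
    induction m with
    | zero => rfl
    | succ m ih =>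
      rw [pow_succ', Perm.mul_apply, ih, ← Perm.mul_apply x, ← hx _ (D.pow_mem ht m),
        Perm.mul_apply, ← hta, ← Perm.mul_apply, ← pow_succ]
  have hfix : Function.IsFixedPt (t ^ orderOf x : Perm α) a := by
    rw [Function.IsFixedPt, ← hpow, pow_orderOf_eq_one, Perm.one_apply]
  obtain ⟨k, hk⟩ := IsPGroup.iff_orderOf.1 hD ⟨t, ht⟩
  rw [Subgroup.orderOf_mk] at hk
  have hco : Nat.Coprime (orderOf x) (orderOf t) :=
    hk ▸ Nat.Coprime.pow_right _ (((Fact.out : p.Prime).coprime_iff_not_dvd.2 hxr).symm)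
  obtain ⟨m, hm⟩ := exists_pow_eq_self_of_coprime hco
  rw [← hta]
  have h2 : Function.IsFixedPt ((t ^ orderOf x) ^ m : Perm α) a := hfix.perm_pow m
  rwa [hm] at h2

/-- An elementary abelian subgroup of `D` has order at most `p ^ s`. -/
theorem card_le_of_sectionalPRankLE {G : Type*} [Group G] {D : Subgroup G} {p s : ℕ}
    (hs : SectionalPRankLE p s D) {E : Subgroup G} (hE : E ≤ D)
    (hcomm : ∀ a ∈ E, ∀ b ∈ E, a * b = b * a) (hexp : ∀ a ∈ E, a ^ p = 1) :
    Nat.card E ≤ p ^ s := by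
  have h := hs (E.subgroupOf D) ⊥ ⊤ ?_ ?_
  · rwa [Subgroup.card_top, Nat.card_congr QuotientGroup.quotientBot.toEquiv,
      Nat.card_congr (Subgroup.subgroupOfEquivOfLe hE).toEquiv] at h
  · refine ⟨⟨fun a b => ?_⟩⟩
    obtain ⟨a, ha⟩ := a
    obtain ⟨b, hb⟩ := b
    obtain ⟨a, rfl⟩ := QuotientGroup.mk_surjective a
    obtain ⟨b, rfl⟩ := QuotientGroup.mk_surjective b
    refine Subtype.ext ?_
    show (a : (E.subgroupOf D) ⧸ (⊥ : Subgroup (E.subgroupOf D))) * b = b * a
    rw [← QuotientGroup.mk_mul, ← QuotientGroup.mk_mul,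
      show a * b = b * a from Subtype.ext (Subtype.ext (hcomm _ a.2 _ b.2))]
  · rintro a -
    obtain ⟨a, rfl⟩ := QuotientGroup.mk_surjective a
    rw [← QuotientGroup.mk_pow, show a ^ p = 1 from Subtype.ext (Subtype.ext (hexp _ a.2))]
    rfl

/-- The cycles of an element of order `p` with `w` cycles generate an elementary abelian group of
order `p ^ w`, fixing what the element fixes. -/
theorem exists_cycle_group [Fintype α] [DecidableEq α] {p : ℕ} [Fact p.Prime] {u : Perm α}
    (hu : u ^ p = 1) {w : ℕ} (hw : u.support.card = p * w) :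
    ∃ E : Subgroup (Perm α), Nat.card E = p ^ w ∧ (∀ a ∈ E, ∀ b ∈ E, a * b = b * a) ∧
      (∀ a ∈ E, a ^ p = 1) ∧ ∀ z ∈ E, ∀ i, u i = i → z i = i := by
  classical
  have hcyc : ∀ c : u.cycleFactorsFinset, orderOf (c : Perm α) = p := fun c => by
    rw [(Perm.mem_cycleFactorsFinset_iff.1 c.2).1.orderOf]
    refine Multiset.eq_of_mem_replicate (n := Multiset.card u.cycleType) ?_
    rw [← Perm.cycleType_of_pow_prime_eq_one hu, Perm.cycleType_def]
    exact Multiset.mem_map.2 ⟨_, c.2, rfl⟩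
  have hnum : u.cycleFactorsFinset.card = w := by
    have h1 : u.cycleType.sum = Multiset.card u.cycleType * p := by
      conv_lhs => rw [Perm.cycleType_of_pow_prime_eq_one hu, Multiset.sum_replicate, smul_eq_mul]
    rw [Perm.sum_cycleType, hw, Perm.cycleType_def, Multiset.card_map, mul_comm] at h1
    exact (Nat.eq_of_mul_eq_mul_right (Fact.out : p.Prime).pos h1).symm
  let θ := (Perm.OnCycleFactors.kerParam u).comp
    (MonoidHom.inr (Perm (Function.fixedPoints u))
      ((c : u.cycleFactorsFinset) → Subgroup.zpowers (c : Perm α)))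
  have hinj : Function.Injective θ := (Perm.OnCycleFactors.kerParam_injective u).comp
    (Function.RightInverse.injective (g := Prod.snd) fun _ => rfl)
  refine ⟨θ.range, ?_, ?_, ?_, ?_⟩
  · rw [← Nat.card_congr (MonoidHom.ofInjective hinj).toEquiv, Nat.card_pi]
    simp only [Nat.card_zpowers, hcyc, Finset.prod_const, Finset.card_univ, Fintype.card_coe, hnum]
  · rintro _ ⟨v, rfl⟩ _ ⟨v', rfl⟩
    rw [← map_mul, ← map_mul, show v * v' = v' * v from funext fun c => mul_comm' (v c) (v' c)]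
  · rintro _ ⟨v, rfl⟩
    rw [← map_pow, show v ^ p = 1 from funext fun c => Subtype.ext ?_, map_one]
    obtain ⟨m, hm⟩ := (v c).2
    rw [Pi.pow_apply, Subgroup.coe_pow, ← hm]
    show ((c : Perm α) ^ m) ^ p = 1
    rw [← zpow_natCast, ← zpow_mul, mul_comm, zpow_mul, zpow_natCast, ← hcyc c,
      pow_orderOf_eq_one, one_zpow]
  · rintro _ ⟨v, rfl⟩ i hi
    show Perm.OnCycleFactors.kerParam u (1, v) i = i
    rw [Perm.OnCycleFactors.kerParam_apply, dif_neg]
    · simp
    · rw [Perm.cycleOf_mem_cycleFactorsFinset_iff, Perm.mem_support]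
      exact not_not.2 hi

/-- **Defect groups of blocks of symmetric groups**: an element of order `p` at which a character
of the block does not vanish has at most `s` cycles of length `p`. -/
theorem rank_bound_of_perm_defect {n p : ℕ} [Fact p.Prime] {M : Ideal AlgInt}
    (hM : IsPModular p M) {B : Set (IrrCharacter (Equiv.Perm (Fin n)))} (hB : IsPBlock M B)
    {D : Subgroup (Equiv.Perm (Fin n))} (hD : IsDefectGroup p M B D) {s : ℕ}
    (hs : SectionalPRankLE p s D) :
    (D ≠ ⊥ → 1 ≤ s) ∧ ∀ χ ∈ B, ∀ (u : Equiv.Perm (Fin n)) (w : ℕ), u ^ p = 1 →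
      u.support.card = p * w → (χ : Equiv.Perm (Fin n) → ℂ) u ≠ 0 → w ≤ s := by
  classical
  have hp : p.Prime := Fact.out
  have := CfsgLib.Blocks.isMaximal_of_isPModular hM
  have hgrp : ∀ {D' : Subgroup (Equiv.Perm (Fin n))}, IsDefectGroup p M B D' → IsPGroup p D' := by
    rintro _ ⟨_, _, P, rfl⟩
    exact P.2.map _
  refine ⟨fun hne => ?_, fun χ hχ u w hup hw hu => ?_⟩
  · haveI : Nontrivial D := (Subgroup.nontrivial_iff_ne_bot D).2 hne
    obtain ⟨k, hk0, hk⟩ := (hgrp hD).nontrivial_iff_card.1 inferInstance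
    obtain ⟨g, hg⟩ := exists_prime_orderOf_dvd_card' p (hk ▸ dvd_pow_self p hk0.ne')
    have h := card_le_of_sectionalPRankLE hs (E := Subgroup.zpowers (g : Equiv.Perm (Fin n)))
      (Subgroup.zpowers_le.2 g.2)
      (fun a ⟨i, hi⟩ b ⟨j, hj⟩ => hi ▸ hj ▸ zpow_mul_comm _ i j)
      (fun a ⟨i, hi⟩ => by
        rw [← hi]
        show ((g : Equiv.Perm (Fin n)) ^ i) ^ p = 1
        rw [← zpow_natCast, ← zpow_mul, mul_comm, zpow_mul, zpow_natCast,
          show (g : Equiv.Perm (Fin n)) ^ p = 1 by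
            rw [← hg, ← Subgroup.orderOf_coe, pow_orderOf_eq_one], one_zpow])
    rw [Nat.card_zpowers, Subgroup.orderOf_coe, hg] at h
    by_contra hs0
    rw [show s = 0 by omega, pow_zero] at h
    exact absurd hp.one_lt (by omega)
  · have hB' : B = blockOf M (χ : Equiv.Perm (Fin n) → ℂ) := CfsgLib.Blocks.eq_blockOf_of_mem hB hχ
    -- a defect group containing `u`
    obtain ⟨D', hD', huD'⟩ : ∃ D', IsDefectGroup p M B D' ∧ u ∈ D' := by
      by_contra! hall
      refine hu (CfsgLib.Blocks.HeightZero.apply_eq_zero_of_pPart hM χ (g := u) (x := u)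
        ⟨1, mul_one u, Commute.one_right u, ?_, by rw [orderOf_one]; exact hp.not_dvd_one⟩
        fun D' hD' => hall D' (hB' ▸ hD'))
      rcases (Nat.dvd_prime hp).1 (orderOf_dvd_of_pow_eq_one hup) with h | h
      · exact ⟨0, by rw [h, pow_zero]⟩
      · exact ⟨1, by rw [h, pow_one]⟩
    have hcore := Cfsg.Agent.S0955.result p M hM B hB D' hD'
    have hpD' := hgrp hD'
    obtain ⟨x, hxcl, P, hP⟩ := id hD'
    have hxr : ¬ p ∣ orderOf x := CfsgLib.Blocks.not_dvd_orderOf_of_isDefectClass hM hB hxcl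
    have hcomm : ∀ d ∈ D', d * x = x * d := fun d hd => by
      rw [hP] at hd
      obtain ⟨c, -, rfl⟩ := hd
      exact Subgroup.mem_centralizer_singleton_iff.1 c.2
    obtain ⟨E, hEcard, hEc, hEexp, hEfix⟩ := exists_cycle_group hup hw
    -- the cycles commute with `x`
    have hEC : E ≤ Subgroup.centralizer ({x} : Set (Equiv.Perm (Fin n))) := fun z hz => by
      rw [Subgroup.mem_centralizer_singleton_iff]
      have hxfix : ∀ i, u i ≠ i → x i = i := fun i hi =>
        fix_of_mem_centralizer hpD' hcore hcomm hxr ⟨u, huD', hi⟩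
      refine Equiv.ext fun i => ?_
      rw [Equiv.Perm.mul_apply, Equiv.Perm.mul_apply]
      by_cases hi : u i = i
      · rw [hEfix z hz i hi]
        by_cases hxi : u (x i) = x i
        · exact hEfix z hz _ hxi
        · rw [x.injective (hxfix _ hxi)] at hxi
          exact absurd hi hxi
      · rw [hxfix i hi]
        by_cases hzi : u (z i) = z i
        · have := z.injective (hEfix z hz _ hzi)
          exact absurd (by rwa [this] at hzi) hi
        · exact (hxfix _ hzi).symm
    -- so a conjugate lies in `D'`, hence in `D`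
    have hpE : IsPGroup p E := IsPGroup.of_card hEcard
    obtain ⟨Q, hQ⟩ := (hpE.of_equiv (Subgroup.subgroupOfEquivOfLe hEC).symm).exists_le_sylow
    obtain ⟨c, hc⟩ := MulAction.exists_smul_eq (Subgroup.centralizer ({x} : Set (Equiv.Perm (Fin n)))) Q P
    obtain ⟨t, ht⟩ := CfsgLib.Blocks.HeightZero.defectGroup_conj_eq hM hB hD' hD
    set g : Equiv.Perm (Fin n) := t * (c : Equiv.Perm (Fin n)) with hg
    have hED : E.map (MulAut.conj g).toMonoidHom ≤ D := by
      rintro _ ⟨z, hz, rfl⟩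
      rw [← ht, hP]
      refine ⟨c * z * (c : Equiv.Perm (Fin n))⁻¹, ⟨c * ⟨z, hEC hz⟩ * c⁻¹, ?_, rfl⟩, ?_⟩
      · rw [← hc, Sylow.coe_subgroup_smul]
        exact ⟨⟨z, hEC hz⟩, hQ hz, rfl⟩
      · simp [hg, mul_assoc]
    have hcard : Nat.card (E.map (MulAut.conj g).toMonoidHom) = p ^ w := by
      rw [← hEcard, Nat.card_congr (E.equivMapOfInjective _ (MulAut.conj g).injective).symm.toEquiv]
    have h := card_le_of_sectionalPRankLE hs hED
      (by
        rintro _ ⟨a, ha, rfl⟩ _ ⟨b, hb, rfl⟩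
        rw [← map_mul, ← map_mul, hEc a ha b hb])
      (by
        rintro _ ⟨a, ha, rfl⟩
        rw [← map_pow, hEexp a ha, map_one])
    rw [hcard] at h
    exact (Nat.pow_le_pow_iff_right hp.one_lt).1 h

end CfsgLib.SymBlocks
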