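import Cfsg.Agent.SymBlocks.Irr
import Cfsg.Agent.Blocks.Basic.Local
import Cfsg.Agent.Blocks.KleinFour.Isometry.Divisible
import Mathlib.GroupTheory.Perm.Fin

/-!
# A key class of beta-number sets is a union of blocks
-/

set_option autoImplicit false
set_option linter.style.haveILetI false
set_option linter.unusedSectionVars false

open scoped Classical ComplexConjugate

namespace CfsgLib.SymBlocks

open Finset Cfsg CfsgLib.Chars CfsgLib.Chars.Exceptional

universe u

variable {X : Type u} [Fintype X] {N : ℕ}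

/-- The number of entries in each residue class. -/
def keyOf (p : ℕ) (β : Fin N → ℤ) : ℤ → ℕ := fun r => #{i : Fin N | β i % (p : ℤ) = r}

theorem keyOf_comp (p : ℕ) (β : Fin N → ℤ) (σ : Equiv.Perm (Fin N)) :
    keyOf p (β ∘ σ) = keyOf p β := by
  funext r
  refine Finset.card_equiv σ fun i => ?_
  simp

theorem keyOf_add_single {p m : ℕ} (hm : p ∣ m) (β : Fin N → ℤ) (i : Fin N) :
    keyOf p (β + Pi.single i (m : ℤ)) = keyOf p β := by
  funext r
  refine congrArg Finset.card (Finset.filter_congr fun j _ => ?_)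
  have : (p : ℤ) ∣ (m : ℤ) := Int.natCast_dvd_natCast.2 hm
  rcases eq_or_ne j i with rfl | h
  · obtain ⟨c, hc⟩ := this
    simp [hc]
  · simp [h]

/-- An antisymmetric function supported on beta numbers is determined by its values on beta-number
sets. -/
theorem eq_sum_betaSet (F : (Fin N → ℤ) → ℂ)
    (hperm : ∀ δ (σ : Equiv.Perm (Fin N)), F (δ ∘ σ) = ((Equiv.Perm.sign σ : ℤ) : ℂ) * F δ)
    (heq : ∀ (δ : Fin N → ℤ) (i j : Fin N), i ≠ j → δ i = δ j → F δ = 0)
    (hneg : ∀ (δ : Fin N → ℤ) (i : Fin N), δ i < 0 → F δ = 0)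
    (hsum : ∀ δ : Fin N → ℤ,
      ∑ i, δ i ≠ (Fintype.card X : ℤ) + ∑ i : Fin N, ((i : ℕ) : ℤ) → F δ = 0)
    (δ : Fin N → ℤ) :
    F δ = ∑ β ∈ betaSet X N, (∑ σ : Equiv.Perm (Fin N),
      if β = δ ∘ σ then ((Equiv.Perm.sign σ : ℤ) : ℂ) else 0) * F β := by
  have hzero : (∀ σ : Equiv.Perm (Fin N), ¬ IsBeta X (δ ∘ σ)) →
      ∑ β ∈ betaSet X N, (∑ σ : Equiv.Perm (Fin N),
        if β = δ ∘ σ then ((Equiv.Perm.sign σ : ℤ) : ℂ) else 0) * F β = 0 := fun h =>
    sum_eq_zero fun β hβ => by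
      rw [sum_eq_zero fun (σ : Equiv.Perm (Fin N)) _ => if_neg fun e : β = δ ∘ σ => h σ (e ▸ mem_betaSet.1 hβ), zero_mul]
  by_cases hn : ∃ i, δ i < 0
  · obtain ⟨i, hi⟩ := hn
    rw [hneg δ i hi, hzero fun σ h => by
      have := h.nonneg (σ.symm i)
      simp at this
      omega]
  push Not at hn
  by_cases hi : Function.Injective δ
  swap
  · simp only [Function.Injective, not_forall] at hi
    obtain ⟨i, j, hij, hne⟩ := hi
    rw [heq δ i j hne hij, hzero fun σ h => hne ?_]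
    have := h.mono.injective (a₁ := σ.symm i) (a₂ := σ.symm j) (by simpa using hij)
    simpa using this
  by_cases hs : ∑ i, δ i = (Fintype.card X : ℤ) + ∑ i : Fin N, ((i : ℕ) : ℤ)
  swap
  · rw [hsum δ hs, hzero fun σ h => hs ?_]
    rw [← h.sum_eq]
    exact (Equiv.sum_comp σ δ).symm
  set τ := Tuple.sort δ
  have hb : IsBeta X (δ ∘ τ) := by
    refine ⟨(Tuple.monotone_sort δ).strictMono_of_injective (hi.comp τ.injective),
      fun i => hn _, ?_⟩
    rw [← hs]
    exact Equiv.sum_comp τ δ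
  have huniq : ∀ σ : Equiv.Perm (Fin N), IsBeta X (δ ∘ σ) → σ = τ := fun σ h =>
    Equiv.ext fun i => hi (congrFun ((h.mono.range_inj hb.mono).1
      (by rw [Set.range_comp, Set.range_comp, σ.surjective.range_eq, τ.surjective.range_eq])) i)
  rw [sum_eq_single (δ ∘ τ), sum_eq_single τ]
  · rw [if_pos rfl, hperm, ← mul_assoc, ← Int.cast_mul, ← Units.val_mul, Int.units_mul_self]
    simp
  · exact fun (σ : Equiv.Perm (Fin N)) _ hσ => if_neg fun e : δ ∘ τ = δ ∘ σ => hσ (huniq σ (e ▸ hb))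
  · exact fun h => absurd (mem_univ _) h
  · intro β hβ hne
    rw [sum_eq_zero fun (σ : Equiv.Perm (Fin N)) _ => if_neg fun e : β = δ ∘ σ => hne (by
      rw [e, huniq σ (e ▸ mem_betaSet.1 hβ)]), zero_mul]
  · exact fun h => absurd (mem_betaSet.2 hb) h

theorem chiC_antisymm (δ : Fin N → ℤ) (σ : Equiv.Perm (Fin N)) :
    chiC X (δ ∘ σ) = (Equiv.Perm.sign σ : ℤ) • chiC X δ := by
  funext g
  simp [chiC, chiB_comp]

/-- Expansion of `chiB` in the irreducible ones. -/
theorem chiB_eq_sum_betaSet (g : Equiv.Perm X) (δ : Fin N → ℤ) :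
    (chiB g δ : ℂ) = ∑ β ∈ betaSet X N, (∑ σ : Equiv.Perm (Fin N),
      if β = δ ∘ σ then ((Equiv.Perm.sign σ : ℤ) : ℂ) else 0) * (chiB g β : ℂ) :=
  eq_sum_betaSet (X := X) (fun δ => (chiB g δ : ℂ))
    (fun δ σ => by rw [chiB_comp]; push_cast; rfl)
    (fun δ i j h e => by simp [chiB_eq_zero_of_eq g δ h e])
    (fun δ i h => by simp [chiB_eq_zero_of_neg g δ h])
    (fun δ h => by simp [chiB_eq_zero_of_sum g δ h]) δ

/-- The signed incidence of adding `m` at one place. -/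
noncomputable def shiftCoeff (m : ℕ) (γ β : Fin N → ℤ) : ℂ :=
  ∑ i : Fin N, ∑ σ : Equiv.Perm (Fin N),
    if β - Pi.single i (m : ℤ) = γ ∘ σ then ((Equiv.Perm.sign σ : ℤ) : ℂ) else 0

theorem keyOf_eq_of_shiftCoeff {p m : ℕ} (hm : p ∣ m) {γ β : Fin N → ℤ}
    (h : shiftCoeff m γ β ≠ 0) : keyOf p γ = keyOf p β := by
  obtain ⟨i, -, hi⟩ := exists_ne_zero_of_sum_ne_zero h
  obtain ⟨σ, -, hσ⟩ := exists_ne_zero_of_sum_ne_zero hi
  have e : β - Pi.single i (m : ℤ) = γ ∘ σ := by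
    by_contra c
    exact hσ (if_neg c)
  rw [← keyOf_comp p γ σ, ← e]
  have h2 := keyOf_add_single hm (β - Pi.single i (m : ℤ)) i
  rw [sub_add_cancel] at h2
  exact h2.symm

theorem sum_shiftCoeff_mul (x : Equiv.Perm X) (m : ℕ) (γ : Fin N → ℤ) :
    ∑ β ∈ betaSet X N, shiftCoeff m γ β * (chiB x β : ℂ) =
      ∑ j, (chiB x (γ + Pi.single j (m : ℤ)) : ℂ) := by
  simp only [chiB_eq_sum_betaSet x (_ + _), shiftCoeff]
  rw [sum_comm]
  refine sum_congr rfl fun β _ => ?_
  rw [sum_comm, ← sum_mul]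
  congr 1
  rw [sum_comm (γ := Fin N) (α := Equiv.Perm (Fin N))]
  refine sum_congr rfl fun σ _ => ?_
  refine Fintype.sum_equiv σ _ _ fun i => ?_
  have e : (β - Pi.single i (m : ℤ) = γ ∘ σ) ↔ β = (γ + Pi.single (σ i) (m : ℤ)) ∘ σ := by
    have e2 : (γ + Pi.single (σ i) (m : ℤ)) ∘ σ = γ ∘ σ + Pi.single i (m : ℤ) := by
      funext k
      simp [Pi.single_apply]
    rw [e2, sub_eq_iff_eq_add]
  simp only [e]

theorem classInner_chiC_shift {X' : Type u} [Fintype X'] (m : ℕ) (β γ : Fin N → ℤ)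
    (hγ : IsBeta X' γ) :
    ∑ i, classInner (chiC X' (β - Pi.single i (m : ℤ))) (chiC X' γ) = shiftCoeff m γ β := by
  refine sum_congr rfl fun i _ => ?_
  set δ := β - Pi.single i (m : ℤ)
  have h := eq_sum_betaSet (X := X') (fun δ => classInner (chiC X' δ) (chiC X' γ))
    (fun δ σ => by rw [chiC_antisymm, inner_zsmul_left])
    (fun δ i j h e => by
      rw [show chiC X' δ = 0 from funext fun g => by simp [chiC, chiB_eq_zero_of_eq g δ h e],
        CfsgLib.Chars.Exceptional.inner_zero_left])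
    (fun δ i h => by
      rw [show chiC X' δ = 0 from funext fun g => by simp [chiC, chiB_eq_zero_of_neg g δ h],
        CfsgLib.Chars.Exceptional.inner_zero_left])
    (fun δ h => by
      rw [show chiC X' δ = 0 from funext fun g => by simp [chiC, chiB_eq_zero_of_sum g δ h],
        CfsgLib.Chars.Exceptional.inner_zero_left]) δ
  rw [sum_eq_single γ] at h
  · rw [classInner_chiC hγ hγ, if_pos rfl, mul_one] at h
    rw [h]
    refine Fintype.sum_equiv (Equiv.inv (Equiv.Perm (Fin N))) _ _ fun σ => ?_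
    have e : γ = δ ∘ σ ↔ δ = γ ∘ (σ⁻¹ : Equiv.Perm (Fin N)) :=
      ⟨fun e => by funext k; simp [e], fun e => by funext k; simp [e]⟩
    simp [e]
  · intro β' hβ' hne
    rw [classInner_chiC (mem_betaSet.1 hβ') hγ, if_neg hne, mul_zero]
  · exact fun hn => absurd (mem_betaSet.2 hγ) hn

/-- Distinct non-negative entries in increasing order dominate their positions. -/
theorem natCast_le_of_strictMono {γ : Fin N → ℤ} (h : StrictMono γ) (h0 : ∀ i, 0 ≤ γ i) (i : Fin N) :
    ((i : ℕ) : ℤ) ≤ γ i := by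
  obtain ⟨k, hk⟩ := i
  induction k with
  | zero => exact h0 _
  | succ k ih =>
    have h1 := ih (Nat.lt_of_succ_lt hk)
    have h2 := h (show (⟨k, Nat.lt_of_succ_lt hk⟩ : Fin N) < ⟨k + 1, hk⟩ from Fin.mk_lt_mk.2 (Nat.lt_succ_self k))
    simp only at h1 ⊢
    push_cast
    omega

section Relations

variable (hN : Fintype.card X ≤ N) {p : ℕ}

/-- The extension of `y` by a cycle on `T`. -/
theorem exists_extend {m : ℕ} (hm : 2 ≤ m) {T : Finset X} (hT : T.card = m)
    (y' : Equiv.Perm {x // x ∉ T}) :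
    ∃ (y : Equiv.Perm X) (hy : ∀ x, x ∉ T ↔ y x ∉ T),
      y.subtypePerm (p := fun x => x ∉ T) (fun x => (hy x).symm) = y' ∧
      (∀ a ∈ T, ∀ b ∈ T, y.SameCycle a b) ∧ m ∣ orderOf y := by
  obtain ⟨m, rfl⟩ : ∃ k, m = k + 2 := ⟨m - 2, by omega⟩
  let e : {x // x ∈ T} ≃ Fin (m + 2) := (Finset.equivFinOfCardEq hT)
  let c : Equiv.Perm {x // x ∈ T} := e.symm.permCongr (finRotate (m + 2))
  let y := Equiv.Perm.subtypeCongr c y'
  have hin : ∀ a (h : a ∈ T), y a = c ⟨a, h⟩ := fun a h => Equiv.Perm.subtypeCongr.left_apply c y' h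
  have hout : ∀ a (h : a ∉ T), y a = y' ⟨a, h⟩ := fun a h => Equiv.Perm.subtypeCongr.right_apply c y' h
  have hy : ∀ x, x ∉ T ↔ y x ∉ T := by
    intro x
    by_cases h : x ∈ T
    · simp [h, hin x h]
    · simp [h, hout x h, (y' ⟨x, h⟩).2]
  have hpow : ∀ (k : ℕ) (a : X) (h : a ∈ T), (y ^ k) a = (c ^ k) ⟨a, h⟩ := by
    intro k a h
    show ((Equiv.Perm.subtypeCongrHom (fun x => x ∈ T) (c, y')) ^ k) a = _
    rw [← map_pow]
    exact Equiv.Perm.subtypeCongr.left_apply _ _ h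
  have hc : ∀ (k : ℕ) (a : {x // x ∈ T}), (c ^ k) a = e.symm ((finRotate (m + 2) ^ k) (e a)) := by
    intro k
    induction k with
    | zero => intro a; simp
    | succ k ih => intro a; simp [pow_succ, Equiv.Perm.mul_apply, ih, c, Equiv.permCongr_apply]
  refine ⟨y, hy, Equiv.ext fun a => Subtype.ext (hout a.1 a.2), fun a ha b hb => ?_, ?_⟩
  · have hcyc : (finRotate (m + 2)).SameCycle (e ⟨a, ha⟩) (e ⟨b, hb⟩) :=
      (isCycle_finRotate (n := m)).sameCycle (by simp) (by simp)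
    obtain ⟨k, hk⟩ := hcyc.exists_nat_pow_eq
    refine ⟨(k : ℤ), ?_⟩
    rw [zpow_natCast, hpow k a ha, hc, hk]
    simp
  · have ho : orderOf (finRotate (m + 2)) = m + 2 := by
      rw [(isCycle_finRotate (n := m)).orderOf, support_finRotate, card_univ, Fintype.card_fin]
    rw [← ho]
    refine orderOf_dvd_of_pow_eq_one (Equiv.ext fun i => ?_)
    have := hpow (orderOf y) _ (e.symm i).2
    rw [pow_orderOf_eq_one, Subtype.coe_eta, hc, Equiv.apply_symm_apply] at this
    have h2 := e.symm.injective (Subtype.ext (by simpa using this.symm))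
    simpa using h2

include hN in
/-- Brauer's relations on the `p`-regular elements. -/
theorem relation [Fact p.Prime] {m : ℕ} (hpm : p ∣ m) (hm : 0 < m)
    {x : Equiv.Perm X} (hx : IsPRegular p x) {γ : Fin N → ℤ} (hγ : ∀ i, 0 ≤ γ i)
    (hsum : ∑ i, γ i + (m : ℤ) = (Fintype.card X : ℤ) + ∑ i : Fin N, ((i : ℕ) : ℤ)) :
    ∑ i, chiB x (γ + Pi.single i (m : ℤ)) = 0 := by
  suffices h : ∀ γ : Fin N → ℤ, StrictMono γ → (∀ i, 0 ≤ γ i) →
      ∑ i, γ i + (m : ℤ) = (Fintype.card X : ℤ) + ∑ i : Fin N, ((i : ℕ) : ℤ) →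
      ∑ i, chiB x (γ + Pi.single i (m : ℤ)) = 0 by
    have hshift : ∀ (σ : Equiv.Perm (Fin N)), ∑ i, chiB x (γ ∘ σ + Pi.single i (m : ℤ)) =
        (Equiv.Perm.sign σ : ℤ) * ∑ i, chiB x (γ + Pi.single i (m : ℤ)) := by
      intro σ
      rw [mul_sum]
      refine Fintype.sum_equiv σ _ _ fun i => ?_
      rw [← chiB_comp]
      congr 1
      funext k
      simp [Pi.single_apply]
    set τ := Tuple.sort γ
    by_cases hinj : Function.Injective γ
    · have h1 := h (γ ∘ τ) ((Tuple.monotone_sort γ).strictMono_of_injective (hinj.comp τ.injective))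
        (fun i => hγ _) (by rw [← hsum]; congr 1; exact Equiv.sum_comp τ γ)
      rw [hshift] at h1
      simpa using h1
    · simp only [Function.Injective, not_forall] at hinj
      obtain ⟨a, b, hab, hne⟩ := hinj
      have h1 := hshift (Equiv.swap a b)
      have h2 : γ ∘ Equiv.swap a b = γ := by
        funext k
        rcases eq_or_ne k a with rfl | hka
        · simp [hab]
        rcases eq_or_ne k b with rfl | hkb
        · simp [hab]
        · simp [Equiv.swap_apply_of_ne_of_ne hka hkb]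
      rw [h2, Equiv.Perm.sign_swap hne] at h1
      simp at h1
      omega
  intro γ hmono hγ hsum
  have hmX : m ≤ Fintype.card X := by
    have := Finset.sum_le_sum (s := (univ : Finset (Fin N))) fun i _ => natCast_le_of_strictMono hmono hγ i
    omega
  obtain ⟨T, -, hT⟩ := exists_subset_card_eq (s := (univ : Finset X)) (n := m) (by simpa using hmX)
  have hcard : (Fintype.card {x // x ∉ T} : ℤ) = (Fintype.card X : ℤ) - m := by
    rw [Fintype.card_subtype_compl, Fintype.card_coe, hT, Nat.cast_sub hmX]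
  have hγ' : IsBeta {x // x ∉ T} γ := ⟨hmono, hγ, by rw [hcard]; linarith⟩
  have hm2 : 2 ≤ m := le_trans (Fact.out : p.Prime).two_le (Nat.le_of_dvd hm hpm)
  have hF : ∑ β ∈ betaSet X N, chiB x β •
      ∑ i, chiC {x // x ∉ T} (β - Pi.single i (m : ℤ)) = 0 := by
    funext y'
    obtain ⟨y, hy, hsub, horb, hord⟩ := exists_extend hm2 hT y'
    have h0 := sum_betaSet_mul hN (g := x) (h := y) fun hc => hx ?_
    · have e : ∀ β : Fin N → ℤ, (chiB x β • ∑ i, chiC {x // x ∉ T} (β - Pi.single i (m : ℤ))) y' =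
          ((chiB x β * chiB y β : ℤ) : ℂ) := by
        intro β
        rw [chiB_orbit (card_pos.1 (by omega)) hy horb β, hsub, hT]
        simp [chiC, Finset.sum_apply]
      rw [Finset.sum_apply, sum_congr rfl fun β _ => e β, ← Int.cast_sum, h0]
      simp
    · obtain ⟨c, hc⟩ := isConj_iff.1 hc
      rw [← SemiconjBy.orderOf_eq c (show SemiconjBy c x y by rw [SemiconjBy, ← hc]; group)] at hord
      exact hpm.trans hord
  have h1 : classInner (∑ β ∈ betaSet X N, chiB x β •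
      ∑ i, chiC {x // x ∉ T} (β - Pi.single i (m : ℤ))) (chiC {x // x ∉ T} γ) = 0 := by
    rw [hF, CfsgLib.Chars.Exceptional.inner_zero_left]
  rw [inner_sum_left] at h1
  simp only [inner_zsmul_left, inner_sum_left] at h1
  have h1' : ∑ β ∈ betaSet X N, (chiB x β : ℂ) * shiftCoeff m γ β = 0 := by
    rw [← h1]
    refine sum_congr rfl fun β _ => ?_
    rw [← classInner_chiC_shift (X' := {x // x ∉ T}) m β γ hγ']
    congr! 4
  have h2 := sum_shiftCoeff_mul (N := N) x m γ
  rw [sum_congr rfl fun β _ => mul_comm (shiftCoeff m γ β) (chiB x β : ℂ), h1'] at h2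
  have h3 : ((∑ j, chiB x (γ + Pi.single j (m : ℤ)) : ℤ) : ℂ) = 0 := by
    push_cast
    exact h2.symm
  exact_mod_cast h3

theorem sum_chiB_sub (y' : Equiv.Perm X) (m : ℕ) (β : Fin N → ℤ) :
    ∑ i, (chiB y' (β - Pi.single i (m : ℤ)) : ℂ) =
      ∑ γ ∈ betaSet X N, shiftCoeff m γ β * (chiB y' γ : ℂ) := by
  simp only [shiftCoeff, sum_mul]
  rw [sum_comm (s := betaSet X N)]
  refine sum_congr rfl fun i _ => ?_
  refine (chiB_eq_sum_betaSet y' _).trans ?_
  refine sum_congr rfl fun γ _ => ?_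
  rw [← sum_mul]
  congr 1
  refine Fintype.sum_equiv (Equiv.inv (Equiv.Perm (Fin N))) _ _ fun σ => ?_
  have e : γ = (β - Pi.single i (m : ℤ)) ∘ σ ↔
      β - Pi.single i (m : ℤ) = γ ∘ (σ⁻¹ : Equiv.Perm (Fin N)) :=
    ⟨fun e => by funext k; simp [e], fun e => by funext k; simp [e]⟩
  simp [e]

/-- Murnaghan–Nakayama in the basis of beta-number sets. -/
theorem chiB_orbit_expand {T : Finset X} {y : Equiv.Perm X} (hne : T.Nonempty)
    (hy : ∀ a, a ∉ T ↔ y a ∉ T) (horb : ∀ a ∈ T, ∀ b ∈ T, y.SameCycle a b) (β : Fin N → ℤ) :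
    (chiB y β : ℂ) = ∑ γ ∈ betaSet {a // a ∉ T} N, shiftCoeff T.card γ β *
      (chiB (y.subtypePerm (p := fun a => a ∉ T) (fun a => (hy a).symm)) γ : ℂ) := by
  rw [chiB_orbit hne hy horb β, Int.cast_sum]
  exact sum_chiB_sub _ _ β

include hN in
/-- Orthogonality of a regular and a singular element inside one key class. -/
theorem sum_key_mul [Fact p.Prime] {x y : Equiv.Perm X} (hx : IsPRegular p x)
    (hy : ¬ IsPRegular p y) (K : ℤ → ℕ) :
    ∑ β ∈ (betaSet X N).filter (fun β => keyOf p β = K), chiB x β * chiB y β = 0 := by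
  obtain ⟨m, hm, hpm⟩ : ∃ m ∈ y.cycleType, p ∣ m := by
    have h : p ∣ orderOf y := not_not.1 hy
    rw [← Equiv.Perm.lcm_cycleType] at h
    by_contra! hc
    have hdvd : y.cycleType.lcm ∣ y.cycleType.prod :=
      Multiset.lcm_dvd.2 fun a ha => Multiset.dvd_prod ha
    obtain ⟨a, ha, hpa⟩ := ((Fact.out : p.Prime).prime).exists_mem_multiset_dvd (h.trans hdvd)
    exact hc a ha hpa
  rw [Equiv.Perm.cycleType_def, Multiset.mem_map] at hm
  obtain ⟨c, hc, rfl⟩ := hm
  simp only [Function.comp_apply] at hpm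
  rw [Finset.mem_val, Equiv.Perm.mem_cycleFactorsFinset_iff] at hc
  obtain ⟨T, hT⟩ : ∃ T : Finset X, T = c.support := ⟨_, rfl⟩
  rw [← hT] at hpm
  have hy' : ∀ a, a ∉ T ↔ y a ∉ T := fun a => by
    rw [hT]
    exact not_congr (Equiv.Perm.mem_cycleFactorsFinset_support
      (Equiv.Perm.mem_cycleFactorsFinset_iff.2 hc) a).symm
  have horb : ∀ a ∈ T, ∀ b ∈ T, y.SameCycle a b := by
    intro a ha b hb
    have hce := Equiv.Perm.eq_cycleOf_of_mem_cycleFactorsFinset_iff y c
      (Equiv.Perm.mem_cycleFactorsFinset_iff.2 hc) a |>.2 (hT ▸ ha)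
    rw [hT, hce, Equiv.Perm.mem_support_cycleOf_iff] at hb
    exact hb.1
  have hne : T.Nonempty := card_pos.1 (hT ▸ lt_of_lt_of_le two_pos hc.1.two_le_card_support)
  obtain ⟨m, hm'⟩ : ∃ m, m = T.card := ⟨_, rfl⟩
  set y' := y.subtypePerm (p := fun a => a ∉ T) (fun a => (hy' a).symm)
  have hmX : m ≤ Fintype.card X := hm' ▸ card_le_univ T
  have hcard : (Fintype.card {a // a ∉ T} : ℤ) = (Fintype.card X : ℤ) - m := by
    rw [Fintype.card_subtype_compl, Fintype.card_coe, ← hm', Nat.cast_sub hmX]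
  have e : ∀ β : Fin N → ℤ, (chiB y β : ℂ) =
      ∑ γ ∈ betaSet {a // a ∉ T} N, shiftCoeff T.card γ β * (chiB y' γ : ℂ) :=
    fun β => chiB_orbit_expand hne hy' horb β
  suffices h : ((∑ β ∈ (betaSet X N).filter (fun β => keyOf p β = K),
      chiB x β * chiB y β : ℤ) : ℂ) = 0 by exact_mod_cast h
  push_cast
  rw [← hm'] at e hpm
  simp only [e, mul_sum]
  rw [sum_comm]
  refine sum_eq_zero fun γ hγ => ?_
  by_cases hk : keyOf p γ = K
  · have hfull : ∑ β ∈ (betaSet X N).filter (fun β => keyOf p β = K),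
        shiftCoeff m γ β * (chiB x β : ℂ) = ∑ β ∈ betaSet X N, shiftCoeff m γ β * (chiB x β : ℂ) := by
      refine sum_filter_of_ne fun β _ h => ?_
      rw [← keyOf_eq_of_shiftCoeff hpm (left_ne_zero_of_mul h), hk]
    have hrel := relation hN hpm (hm' ▸ hne.card_pos) hx (γ := γ) (mem_betaSet.1 hγ).nonneg
      (by rw [(mem_betaSet.1 hγ).sum_eq, hcard]; ring)
    rw [sum_congr rfl fun β _ => (show (chiB x β : ℂ) * (shiftCoeff m γ β * (chiB y' γ : ℂ)) =
      shiftCoeff m γ β * (chiB x β : ℂ) * (chiB y' γ : ℂ) by ring), ← sum_mul, hfull,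
      sum_shiftCoeff_mul, ← Int.cast_sum, hrel]
    simp
  · refine sum_eq_zero fun β hβ => ?_
    by_cases h : shiftCoeff m γ β = 0
    · simp [h]
    · exact absurd ((keyOf_eq_of_shiftCoeff hpm h).trans (mem_filter.1 hβ).2) hk

include hN in
/-- Every block lies in one key class. -/
theorem exists_key_of_block (p : ℕ) {M : Ideal AlgInt} (hM : IsPModular p M)
    {B : Set (IrrCharacter (Equiv.Perm X))} (hB : IsPBlock M B) :
    ∃ K : ℤ → ℕ, ∀ χ ∈ B, ∃ β : {β : Fin N → ℤ // IsBeta X β},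
      keyOf p β.1 = K ∧ irrOf β = χ := by
  haveI : Fact p.Prime := ⟨hM.1⟩
  haveI := CfsgLib.Blocks.isMaximal_of_isPModular hM
  obtain ⟨χ₀, rfl⟩ := hB
  obtain ⟨β₀, hβ₀⟩ := (irrOf_bijective hN).2 χ₀
  set K := keyOf p β₀.1
  set F := (betaSet X N).filter (fun β => keyOf p β = K)
  let A : Set (IrrCharacter (Equiv.Perm X)) :=
    {χ | ∃ β : {β : Fin N → ℤ // IsBeta X β}, keyOf p β.1 = K ∧ irrOf β = χ}
  refine ⟨K, fun χ hχ => ?_⟩
  refine CfsgLib.Blocks.blockOf_subset_of_local (A := A) (fun g => ?_) (χ := χ₀) ⟨β₀, rfl, hβ₀⟩ hχ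
  have hcoeff : blockCoeff A g = (Nat.card (Equiv.Perm X) : ℂ)⁻¹ *
      ∑ β ∈ F, (chiB g β : ℂ) * (chiB (1 : Equiv.Perm X) β : ℂ) := by
    haveI : Fintype {β : Fin N → ℤ // IsBeta X β} :=
      Fintype.ofFinset (betaSet X N) fun β => mem_betaSet
    rw [blockCoeff]
    congr 1
    have hA : A = (irrOf '' {β : {β : Fin N → ℤ // IsBeta X β} | keyOf p β.1 = K} : Set (IrrCharacter (Equiv.Perm X))) := by
      ext χ; simp [A]
    rw [hA, finsum_mem_image (irrOf_bijective hN).1.injOn, finsum_mem_eq_toFinset_sum]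
    refine sum_bij (fun β _ => β.1) (fun β hβ => ?_) (fun _ _ _ _ h => Subtype.ext h)
      (fun β hβ => ?_) fun β _ => ?_
    · simpa [F, mem_betaSet, β.2] using hβ
    · simp only [F, mem_filter, mem_betaSet] at hβ
      exact ⟨⟨β, hβ.1⟩, by simpa using hβ.2, rfl⟩
    · obtain ⟨ε, hε, e⟩ := irrOf_apply β
      rw [e, e, map_intCast]
      rcases hε with rfl | rfl <;> push_cast <;> ring
  rw [hcoeff]
  let f : Equiv.Perm X → ℂ := fun z => ∑ β ∈ F, (chiB g β : ℂ) * (chiB z β : ℂ)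
  by_cases hg : IsPRegular p g
  swap
  · have h0 := sum_key_mul hN (p := p) (x := 1) (y := g) (by simp [IsPRegular, (Fact.out : p.Prime).ne_one])
      hg K
    have : ∑ β ∈ F, (chiB g β : ℂ) * (chiB (1 : Equiv.Perm X) β : ℂ) = 0 := by
      have h1 : ((∑ β ∈ F, chiB (1 : Equiv.Perm X) β * chiB g β : ℤ) : ℂ) = 0 := by rw [h0]; simp
      push_cast at h1
      rw [← h1]
      exact sum_congr rfl fun β _ => mul_comm _ _
    rw [this, mul_zero]
    exact (CfsgLib.Blocks.localRing M).zero_mem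
  have hfeq : f = ∑ β ∈ F, chiB g β • chiC X β := by
    funext z
    simp [f, chiC, Finset.sum_apply]
  have hloc := CfsgLib.Blocks.KleinFour.memLocalRing_div_centralizer hM (f := f)
    (fun a b => sum_congr rfl fun β _ => by
      have := isClassFunction_chiC (X := X) β a b
      simp only [chiC] at this
      rw [this])
    (fun z hz => by
      have h0 := sum_key_mul hN (p := p) hg hz K
      have h1 : ((∑ β ∈ F, chiB g β * chiB z β : ℤ) : ℂ) = 0 := by rw [h0]; simp
      push_cast at h1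
      exact h1)
    (fun θ => by
      obtain ⟨k, hk⟩ := gen_inner_int (a := f) (b := (θ : Equiv.Perm X → ℂ))
        (hfeq ▸ gen_sum _ _ fun β _ => gen_zsmul _ (isGeneralizedCharacter_chiC β)) (gen_of_irr θ.2)
      rw [hk]
      exact CfsgLib.Blocks.memLocalRing_of_isIntegral (isIntegral_algebraMap))
    1
  have htop : Subgroup.centralizer ({(1 : Equiv.Perm X)} : Set (Equiv.Perm X)) = ⊤ :=
    eq_top_iff.2 fun a _ => Subgroup.mem_centralizer_singleton_iff.2 (by simp)
  rw [htop, Subgroup.card_top, div_eq_inv_mul] at hloc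
  exact hloc

end Relations

end CfsgLib.SymBlocks
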