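import Cfsg.Agent.SymBlocks.Col
import Cfsg.Agent.Chars.PermChar.Basic
import Cfsg.Agent.Chars.Exceptional.Inner
import Cfsg.Agent.Chars.Basic.Columns
import Mathlib.Algebra.Order.Rearrangement

/-!
# The irreducible characters of the symmetric group in beta-number form (Frobenius)
-/

set_option autoImplicit false
set_option linter.style.haveILetI false
set_option linter.unusedSectionVars false

open scoped Classical ComplexConjugate

namespace CfsgLib.SymBlocks

open Finset Cfsg CfsgLib.Chars CfsgLib.Chars.Exceptional CfsgLib.Unipotent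

universe u

variable {X : Type u} [Fintype X] {N : ℕ}

/-- `col` as a complex function. -/
noncomputable def colC (X : Type u) [Fintype X] (α : Fin N → ℤ) : Equiv.Perm X → ℂ :=
  fun g => (col g α : ℂ)

/-- `chiB` as a complex function. -/
noncomputable def chiC (X : Type u) [Fintype X] (β : Fin N → ℤ) : Equiv.Perm X → ℂ :=
  fun g => (chiB g β : ℂ)

theorem colC_eq_fixChar (α : Fin N → ℤ) :
    colC X α = CfsgLib.Chars.PermChar.fixChar (Equiv.Perm X) (Colouring X α) := by
  funext g
  rw [colC, col_eq_card_fixedBy, CfsgLib.Chars.PermChar.fixChar]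
  push_cast
  rfl

theorem isCharacter_colC (α : Fin N → ℤ) : IsCharacter (Equiv.Perm X) (colC X α) := by
  rw [colC_eq_fixChar]
  exact CfsgLib.Chars.PermChar.isCharacter_fixChar

theorem chiC_eq_sum (β : Fin N → ℤ) : chiC X β = ∑ w : Equiv.Perm (Fin N),
    (Equiv.Perm.sign w : ℤ) • colC X (fun i => β i - ((w i : ℕ) : ℤ)) := by
  funext g
  simp only [chiC, chiB, Finset.sum_apply, zsmul_eq_mul]
  push_cast
  rfl

theorem isGeneralizedCharacter_chiC (β : Fin N → ℤ) :
    IsGeneralizedCharacter (Equiv.Perm X) (chiC X β) := by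
  rw [chiC_eq_sum]
  exact gen_sum _ _ fun w _ => gen_zsmul _ (gen_of_char (isCharacter_colC _))

theorem isClassFunction_chiC (β : Fin N → ℤ) : IsClassFunction (Equiv.Perm X) (chiC X β) := by
  intro g h
  rw [chiC_eq_sum, Finset.sum_apply, Finset.sum_apply]
  refine sum_congr rfl fun w _ => ?_
  rw [Pi.smul_apply, Pi.smul_apply,
    isClassFunction_of_isCharacter (isCharacter_colC _) g h]

theorem chiB_eq_of_isConj (β : Fin N → ℤ) {g h : Equiv.Perm X} (hc : IsConj g h) :
    chiB g β = chiB h β := by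
  obtain ⟨c, rfl⟩ := isConj_iff.1 hc
  have := isClassFunction_chiC (X := X) β g c
  simp only [chiC] at this
  exact_mod_cast this.symm

theorem classInner_colC {r c : Fin N → ℕ} (hr : ∑ i, r i = Fintype.card X)
    (hc : ∑ i, c i = Fintype.card X) :
    classInner (colC X fun i => (r i : ℤ)) (colC X fun i => (c i : ℤ)) =
      (Nat.card (Margins r c) : ℂ) := by
  rw [← card_orbits_pairs hr hc]
  let A := Colouring X fun i => (r i : ℤ)
  let B := Colouring X fun i => (c i : ℤ)
  haveI := Fintype.ofFinite (MulAction.orbitRel.Quotient (Equiv.Perm X) (A × B))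
  haveI : ∀ g : Equiv.Perm X, Fintype (MulAction.fixedBy (A × B) g) := fun g => Fintype.ofFinite _
  have hb := MulAction.sum_card_fixedBy_eq_card_orbits_mul_card_group (Equiv.Perm X) (A × B)
  have hfix : ∀ g : Equiv.Perm X, colC X (fun i => (r i : ℤ)) g * conj (colC X (fun i => (c i : ℤ)) g) =
      (Fintype.card (MulAction.fixedBy (A × B) g) : ℂ) := by
    intro g
    simp only [colC, map_intCast, col_eq_card_fixedBy]
    rw [← Nat.card_eq_fintype_card, Nat.card_congr (show MulAction.fixedBy (A × B) g ≃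
      MulAction.fixedBy A g × MulAction.fixedBy B g from
      { toFun := fun q => (⟨q.1.1, congrArg Prod.fst q.2⟩, ⟨q.1.2, congrArg Prod.snd q.2⟩)
        invFun := fun q => ⟨(q.1.1, q.2.1), Prod.ext q.1.2 q.2.2⟩
        left_inv := fun _ => rfl
        right_inv := fun _ => rfl }), Nat.card_prod]
    push_cast
    rfl
  rw [classInner, sum_congr rfl fun g _ => hfix g, ← Nat.cast_sum, hb,
    ← Nat.card_eq_fintype_card, ← Nat.card_eq_fintype_card]
  push_cast
  rw [mul_comm (Nat.card (MulAction.orbitRel.Quotient (Equiv.Perm X) (A × B)) : ℂ), ← mul_assoc,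
    inv_mul_cancel₀ (Nat.cast_ne_zero.2 Nat.card_pos.ne'), one_mul]

/-- The beta-number sets of `Perm X`. -/
structure IsBeta (X : Type u) [Fintype X] (β : Fin N → ℤ) : Prop where
  mono : StrictMono β
  nonneg : ∀ i, 0 ≤ β i
  sum_eq : ∑ i, β i = (Fintype.card X : ℤ) + ∑ i : Fin N, ((i : ℕ) : ℤ)

theorem sum_toNat_sub {β : Fin N → ℤ} (hs : ∑ i, β i = (Fintype.card X : ℤ) + ∑ i : Fin N, ((i : ℕ) : ℤ))
    (h0 : ∀ i, 0 ≤ β i) {w : Equiv.Perm (Fin N)} (hw : ∀ i, (w i).val ≤ (β i).toNat) :
    ∑ i, ((β i).toNat - (w i).val) = Fintype.card X := by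
  have h : ((∑ i, ((β i).toNat - (w i).val) : ℕ) : ℤ) = (Fintype.card X : ℤ) := by
    rw [Nat.cast_sum, sum_congr rfl fun i _ => Nat.cast_sub (hw i), sum_sub_distrib,
      Equiv.sum_comp w (fun i : Fin N => ((i : ℕ) : ℤ))]
    simp only [Int.toNat_of_nonneg (h0 _)]
    rw [hs]; ring
  exact_mod_cast h

theorem classInner_chiC {β β' : Fin N → ℤ} (h : IsBeta X β) (h' : IsBeta X β') :
    classInner (chiC X β) (chiC X β') = if β = β' then 1 else 0 := by
  have hl : StrictMono fun i => (β i).toNat := fun i j hij => by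
    have h1 := h.mono hij
    have := h.nonneg i
    show (β i).toNat < (β j).toNat
    omega
  have hm : StrictMono fun i => (β' i).toNat := fun i j hij => by
    have h1 := h'.mono hij
    have := h'.nonneg i
    show (β' i).toNat < (β' j).toNat
    omega
  have hid := congrArg (fun z : ℤ => (z : ℂ)) (sum_sum_margins _ _ hl hm)
  have heq : ((fun i => (β i).toNat) = fun i => (β' i).toNat) ↔ β = β' :=
    ⟨fun e => funext fun i => by
      have := congrFun e i
      have := h.nonneg i
      have := h'.nonneg i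
      omega, fun e => e ▸ rfl⟩
  simp only [heq] at hid
  rw [chiC_eq_sum, chiC_eq_sum, inner_sum_left]
  simp only [inner_sum_right, inner_zsmul_left, inner_zsmul_right]
  rw [show (if β = β' then (1 : ℂ) else 0) = ((if β = β' then 1 else 0 : ℤ) : ℂ) by
    split_ifs <;> simp, ← hid]
  push_cast
  refine sum_congr rfl fun κ _ => sum_congr rfl fun τ _ => ?_
  have hzero : ∀ (γ : Fin N → ℤ) (σ : Equiv.Perm (Fin N)), ¬ (∀ i, (σ i).val ≤ (γ i).toNat) →
      (∀ i, 0 ≤ γ i) → colC X (fun i => γ i - ((σ i : ℕ) : ℤ)) = 0 := by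
    intro γ σ hσ h0
    push Not at hσ
    obtain ⟨i, hi⟩ := hσ
    funext g
    have := h0 i
    rw [colC, col_eq_zero_of_neg (i := i) (by omega)]
    simp
  by_cases h1 : ∀ i, (κ i).val ≤ (β i).toNat
  · by_cases h2 : ∀ i, (τ i).val ≤ (β' i).toNat
    · rw [if_pos ⟨h1, h2⟩,
        show (fun i => β i - ((κ i : ℕ) : ℤ)) = fun i => ((((β i).toNat - (κ i).val : ℕ)) : ℤ) from
          funext fun i => by have := h1 i; have := h.nonneg i; omega,
        show (fun i => β' i - ((τ i : ℕ) : ℤ)) = fun i => ((((β' i).toNat - (τ i).val : ℕ)) : ℤ) from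
          funext fun i => by have := h2 i; have := h'.nonneg i; omega,
        classInner_colC (sum_toNat_sub h.sum_eq h.nonneg h1) (sum_toNat_sub h'.sum_eq h'.nonneg h2)]
      ring
    · rw [if_neg (fun c => h2 c.2), hzero β' τ h2 h'.nonneg, CfsgLib.Chars.Exceptional.inner_zero_right]
      simp
  · rw [if_neg (fun c => h1 c.1), hzero β κ h1 h.nonneg, CfsgLib.Chars.Exceptional.inner_zero_left]
    simp

/-- `chiB` at beta numbers is irreducible up to sign. -/
theorem exists_sign {β : Fin N → ℤ} (h : IsBeta X β) :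
    ∃ ε : ℤ, (ε = 1 ∨ ε = -1) ∧ IsIrrCharacter (Equiv.Perm X) ((ε : ℂ) • chiC X β) :=
  gen_norm_one (isGeneralizedCharacter_chiC β) (by rw [classInner_chiC h h, if_pos rfl])

/-- The colouring sums of squares strictly increase off the diagonal. -/
theorem sum_sq_lt {β : Fin N → ℤ} (hβ : StrictMono β) {w : Equiv.Perm (Fin N)} (hw : w ≠ 1) :
    ∑ i, (β i - ((i : ℕ) : ℤ)) ^ 2 < ∑ i, (β i - ((w i : ℕ) : ℤ)) ^ 2 := by
  have hmv : Monovary β fun i : Fin N => ((i : ℕ) : ℤ) := fun i j hij => by
    have hij' : ((i : ℕ) : ℤ) < ((j : ℕ) : ℤ) := hij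
    have : (i : ℕ) < j := by exact_mod_cast hij'
    exact (hβ (Fin.lt_def.2 this)).le
  have hlt : ∑ i, β i * ((w i : ℕ) : ℤ) < ∑ i, β i * ((i : ℕ) : ℤ) := by
    refine (hmv.sum_mul_comp_perm_lt_sum_mul_iff (σ := w)).2 fun hmv' => hw ?_
    have hsm : StrictMono w := by
      intro i j hij
      rcases lt_trichotomy (w i) (w j) with hlt | heq | hgt
      · exact hlt
      · exact absurd (w.injective heq) hij.ne
      · have := hmv' (show ((w j : ℕ) : ℤ) < ((w i : ℕ) : ℤ) by exact_mod_cast (Fin.lt_def.1 hgt))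
        exact absurd (hβ hij) (not_lt.2 this)
    exact Equiv.ext (congrFun ((hsm.range_inj strictMono_id).1 (by simp [w.surjective.range_eq])))
  have e1 : ∀ f : Fin N → ℤ, ∑ i, (β i - f i) ^ 2 = ∑ i, β i ^ 2 - 2 * ∑ i, β i * f i + ∑ i, f i ^ 2 := by
    intro f
    rw [mul_sum, ← sum_sub_distrib, ← sum_add_distrib]
    exact sum_congr rfl fun i _ => by ring
  rw [e1, e1, Equiv.sum_comp w (fun i : Fin N => ((i : ℕ) : ℤ) ^ 2)]
  linarith

/-- Frobenius' triangularity: orthogonal to all alternating sums means orthogonal to all colouring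
characters. -/
theorem classInner_colC_eq_zero {θ : Equiv.Perm X → ℂ}
    (hθ : ∀ β : Fin N → ℤ, IsBeta X β → classInner θ (chiC X β) = 0) (α : Fin N → ℤ) :
    classInner θ (colC X α) = 0 := by
  suffices H : ∀ d : ℕ, ∀ α : Fin N → ℤ,
      ((Fintype.card X : ℤ) ^ 2 - ∑ i, α i ^ 2).toNat = d → classInner θ (colC X α) = 0 from
    H _ α rfl
  intro d
  induction d using Nat.strong_induction_on with
  | _ d ih => ?_
  intro α hd
  by_cases hneg : ∃ i, α i < 0
  · obtain ⟨i, hi⟩ := hneg
    rw [show colC X α = 0 from funext fun g => by rw [colC, col_eq_zero_of_neg hi]; simp,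
      CfsgLib.Chars.Exceptional.inner_zero_right]
  push Not at hneg
  by_cases hsum : ∑ i, α i = (Fintype.card X : ℤ)
  swap
  · rw [show colC X α = 0 from funext fun g => by rw [colC, col_eq_zero_of_sum hsum]; simp,
      CfsgLib.Chars.Exceptional.inner_zero_right]
  set σ := Tuple.sort α
  set α' := α ∘ σ with hα'
  have hmono : Monotone α' := Tuple.monotone_sort α
  have hcolC : colC X α' = colC X α := funext fun g => by rw [colC, colC, hα', col_comp]
  have hsum' : ∑ i, α' i = (Fintype.card X : ℤ) := (Equiv.sum_comp σ α).trans hsum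
  have hsq : ∑ i, α' i ^ 2 = ∑ i, α i ^ 2 := Equiv.sum_comp σ fun i => α i ^ 2
  let β : Fin N → ℤ := fun i => α' i + ((i : ℕ) : ℤ)
  have hβ : IsBeta X β := by
    refine ⟨hmono.add_strictMono fun i j h => by exact_mod_cast Fin.lt_def.1 h,
      fun i => add_nonneg (hneg _) (by positivity), ?_⟩
    simp only [β, sum_add_distrib, hsum']
  have h0 := hθ β hβ
  rw [chiC_eq_sum, inner_sum_right, sum_eq_single (1 : Equiv.Perm (Fin N))] at h0
  · rw [← hcolC]
    have e : (fun i => β i - (((1 : Equiv.Perm (Fin N)) i : ℕ) : ℤ)) = α' := by funext i; simp [β]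
    rw [inner_zsmul_right, e] at h0
    simpa using h0
  · intro w _ hw
    rw [inner_zsmul_right]
    by_cases hneg' : ∃ i, β i - ((w i : ℕ) : ℤ) < 0
    · obtain ⟨i, hi⟩ := hneg'
      rw [show colC X (fun i => β i - ((w i : ℕ) : ℤ)) = 0 from funext fun g => by
        rw [colC, col_eq_zero_of_neg hi]; simp, CfsgLib.Chars.Exceptional.inner_zero_right, mul_zero]
    push Not at hneg'
    have hb : ∑ i, (β i - ((w i : ℕ) : ℤ)) ^ 2 ≤ (Fintype.card X : ℤ) ^ 2 := by
      have hs : ∑ i, (β i - ((w i : ℕ) : ℤ)) = (Fintype.card X : ℤ) := by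
        rw [sum_sub_distrib, Equiv.sum_comp w (fun i : Fin N => ((i : ℕ) : ℤ)), hβ.sum_eq]; ring
      rw [← hs]
      exact sum_sq_le_sq_sum_of_nonneg fun i _ => hneg' i
    have hlt := sum_sq_lt hβ.mono hw
    have e : ∑ i, (β i - ((i : ℕ) : ℤ)) ^ 2 = ∑ i, α i ^ 2 := by
      rw [← hsq]; exact sum_congr rfl fun i _ => by simp [β]
    rw [ih _ (by omega) _ rfl, mul_zero]
  · exact fun h => absurd (mem_univ _) h

/-- Every irreducible character occurs. -/
theorem exists_beta (hN : Fintype.card X ≤ N) (χ : IrrCharacter (Equiv.Perm X)) :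
    ∃ β : Fin N → ℤ, IsBeta X β ∧ classInner (χ : Equiv.Perm X → ℂ) (chiC X β) ≠ 0 := by
  by_contra! h
  let r : Fin N → ℤ := fun i => if (i : ℕ) < Fintype.card X then 1 else 0
  have h0 := classInner_colC_eq_zero h r
  have hoff : ∀ g : Equiv.Perm X, g ≠ 1 → col g r = 0 := by
    intro g hg
    haveI : IsEmpty {f : X → Fin N // (∀ x, f (g x) = f x) ∧
        ∀ i, (Nat.card {x // f x = i} : ℤ) = r i} := by
      refine ⟨fun f => hg (Equiv.ext fun x => ?_)⟩
      by_contra hx
      have h2 := f.2.2 (f.1 x)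
      have h3 : 1 < Nat.card {y // f.1 y = f.1 x} := by
        rw [Nat.card_eq_fintype_card]
        exact Fintype.one_lt_card_iff.2 ⟨⟨g x, f.2.1 x⟩, ⟨x, rfl⟩, fun e => hx (congrArg Subtype.val e)⟩
      simp only [r] at h2
      split_ifs at h2 <;> omega
    rw [col, Nat.card_of_isEmpty, Nat.cast_zero]
  have hone : 0 < col (1 : Equiv.Perm X) r := by
    let f : X → Fin N := fun x => Fin.castLE hN (Fintype.equivFin X x)
    have hf : ∀ i, (Nat.card {x // f x = i} : ℤ) = r i := by
      intro i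
      simp only [r]
      split_ifs with hi
      · haveI : Unique {x // f x = i} :=
          ⟨⟨⟨(Fintype.equivFin X).symm ⟨i, hi⟩, by simp [f, Fin.ext_iff]⟩⟩, fun x => Subtype.ext (by
            show x.1 = (Fintype.equivFin X).symm ⟨i, hi⟩
            rw [Equiv.eq_symm_apply]
            exact Fin.ext (by simpa [f, Fin.ext_iff] using x.2))⟩
        simp
      · haveI : IsEmpty {x // f x = i} := ⟨fun x => hi (by
          have := x.2
          simp [f, Fin.ext_iff] at this
          omega)⟩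
        simp
    haveI : Nonempty {f : X → Fin N // (∀ x, f ((1 : Equiv.Perm X) x) = f x) ∧
        ∀ i, (Nat.card {x // f x = i} : ℤ) = r i} := ⟨⟨f, fun x => rfl, hf⟩⟩
    rw [col]
    exact Nat.cast_pos.2 Nat.card_pos
  rw [classInner, sum_eq_single (1 : Equiv.Perm X)
    (fun g _ hg => by simp [colC, hoff g hg]) (fun c => absurd (mem_univ _) c)] at h0
  obtain ⟨d, hd, e⟩ := irr_degree χ.2
  simp [colC, e, hd.ne', hone.ne'] at h0

/-- The finite set of beta-number sets. -/
noncomputable def betaSet (X : Type u) [Fintype X] (N : ℕ) : Finset (Fin N → ℤ) :=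
  (Fintype.piFinset fun _ : Fin N =>
    Finset.Icc (0 : ℤ) ((Fintype.card X : ℤ) + ∑ i : Fin N, ((i : ℕ) : ℤ))).filter (IsBeta X)

theorem mem_betaSet {β : Fin N → ℤ} : β ∈ betaSet X N ↔ IsBeta X β := by
  refine ⟨fun h => (mem_filter.1 h).2, fun h => mem_filter.2 ⟨Fintype.mem_piFinset.2 fun i => ?_, h⟩⟩
  rw [mem_Icc, ← h.sum_eq]
  exact ⟨h.nonneg i, single_le_sum (fun j _ => h.nonneg j) (mem_univ i)⟩

/-- The irreducible character attached to a beta-number set. -/
noncomputable def irrOf (β : {β : Fin N → ℤ // IsBeta X β}) : IrrCharacter (Equiv.Perm X) :=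
  ⟨_, (exists_sign β.2).choose_spec.2⟩

theorem irrOf_apply (β : {β : Fin N → ℤ // IsBeta X β}) :
    ∃ ε : ℤ, (ε = 1 ∨ ε = -1) ∧ ∀ g, (irrOf β : Equiv.Perm X → ℂ) g = ((ε * chiB g β.1 : ℤ) : ℂ) :=
  ⟨_, (exists_sign β.2).choose_spec.1, fun g => by
    simp [irrOf, chiC]⟩

theorem classInner_irrOf (β : {β : Fin N → ℤ // IsBeta X β}) {γ : Fin N → ℤ} (hγ : IsBeta X γ) :
    classInner (irrOf β : Equiv.Perm X → ℂ) (chiC X γ) ≠ 0 ↔ β.1 = γ := by
  have hε := (exists_sign β.2).choose_spec.1
  show classInner (((exists_sign β.2).choose : ℂ) • chiC X β.1) (chiC X γ) ≠ 0 ↔ _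
  rw [CfsgLib.Chars.Exceptional.inner_smul_left, classInner_chiC β.2 hγ]
  rcases hε with e | e <;> rw [e] <;> split_ifs with h <;> simp [h]

theorem irrOf_bijective (hN : Fintype.card X ≤ N) :
    Function.Bijective (irrOf (X := X) (N := N)) := by
  refine ⟨fun β β' h => ?_, fun χ => ?_⟩
  · have h1 := (classInner_irrOf β β.2).2 rfl
    rw [h] at h1
    exact Subtype.ext ((classInner_irrOf β' β.2).1 h1).symm
  · obtain ⟨β, hβ, hne⟩ := exists_beta hN χ
    refine ⟨⟨β, hβ⟩, ?_⟩
    by_contra hc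
    apply hne
    obtain ⟨ε, hε, hirr⟩ := exists_sign hβ
    have h0 := irr_inner_ne χ.2 hirr fun e => hc (Subtype.ext ?_)
    · rw [CfsgLib.Chars.Exceptional.inner_smul_right] at h0
      rcases hε with rfl | rfl <;> simpa using h0
    · rw [e]
      show ((exists_sign hβ).choose : ℂ) • chiC X β = (ε : ℂ) • chiC X β
      rcases (exists_sign hβ).choose_spec.1 with h1 | h1 <;> rcases hε with h2 | h2
      · rw [h1, h2]
      · exfalso
        have h3 := (exists_sign hβ).choose_spec.2
        subst h2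
        rw [h1] at h3
        exact irr_neg_not_irr h3 (by simpa using hirr)
      · exfalso
        have h3 := (exists_sign hβ).choose_spec.2
        subst h2
        rw [h1] at h3
        exact irr_neg_not_irr hirr (by simpa using h3)
      · rw [h1, h2]

/-- Column orthogonality over beta-number sets. -/
theorem sum_betaSet_mul (hN : Fintype.card X ≤ N) {g h : Equiv.Perm X} (hgh : ¬ IsConj g h) :
    ∑ β ∈ betaSet X N, chiB g β * chiB h β = 0 := by
  haveI := Fintype.ofFinite (IrrCharacter (Equiv.Perm X))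
  haveI : Fintype {β : Fin N → ℤ // IsBeta X β} :=
    Fintype.ofFinset (betaSet X N) fun β => mem_betaSet
  have h0 := sum_irr_mul_conj (G := Equiv.Perm X) g h
  rw [if_neg hgh] at h0
  have h1 := Fintype.sum_bijective irrOf (irrOf_bijective hN)
    (fun β => ((chiB g β.1 * chiB h β.1 : ℤ) : ℂ))
      (fun χ : IrrCharacter (Equiv.Perm X) => (χ : Equiv.Perm X → ℂ) g * conj ((χ : Equiv.Perm X → ℂ) h))
      (fun β => ?_)
  · have h2 : ∑ β ∈ betaSet X N, ((chiB g β * chiB h β : ℤ) : ℂ) = 0 := by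
      rw [Finset.sum_subtype (betaSet X N) (fun β => mem_betaSet)
        (fun β => ((chiB g β * chiB h β : ℤ) : ℂ))]
      refine h1.trans ?_
      convert h0 using 2
      ext
      simp
    rw [← Int.cast_sum] at h2
    exact_mod_cast h2
  · obtain ⟨ε, hε, e⟩ := irrOf_apply β
    rw [e, e, map_intCast, ← Int.cast_mul]
    rcases hε with rfl | rfl <;> simp

end CfsgLib.SymBlocks
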