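import Cfsg.Agent.SymBlocks.Rank
import Cfsg.Agent.SymBlocks.Defect

/-!
# The rank of a block of a symmetric group
-/

set_option autoImplicit false
set_option linter.style.haveILetI false
set_option linter.unusedSectionVars false

open scoped Classical

namespace CfsgLib.SymBlocks

open Finset Cfsg

universe u

variable {X : Type u} [Fintype X]

/-- A product of `w` disjoint `p`-cycles. -/
theorem exists_cycles {p w : ℕ} (hp : 2 ≤ p) (h : p * w ≤ Fintype.card X) :
    ∃ g : Equiv.Perm X, g ^ p = 1 ∧ g.support.card = p * w := by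
  obtain ⟨m, rfl⟩ : ∃ m, p = m + 2 := ⟨p - 2, by omega⟩
  let e : (Fin w × Fin (m + 2)) ⊕ Fin (Fintype.card X - (m + 2) * w) ≃ X :=
    Fintype.equivOfCardEq (by
      simp only [Fintype.card_sum, Fintype.card_prod, Fintype.card_fin, Nat.mul_comm w]
      omega)
  let r : Equiv.Perm ((Fin w × Fin (m + 2)) ⊕ Fin (Fintype.card X - (m + 2) * w)) :=
    Equiv.sumCongr (Equiv.prodCongrRight fun _ => finRotate (m + 2)) (Equiv.refl _)
  refine ⟨e.permCongr r, ?_, ?_⟩
  · have hr : ∀ (k : ℕ) (x : Fin w × Fin (m + 2)),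
        (r ^ k) (Sum.inl x) = Sum.inl (x.1, (finRotate (m + 2) ^ k) x.2) := by
      intro k
      induction k with
      | zero => intro x; simp
      | succ k ih => intro x; simp [pow_succ', Equiv.Perm.mul_apply, ih, r]
    have hr' : ∀ (k : ℕ) (x : Fin (Fintype.card X - (m + 2) * w)),
        (r ^ k) (Sum.inr x) = Sum.inr x := by
      intro k
      induction k with
      | zero => intro x; simp
      | succ k ih => intro x; simp [pow_succ', Equiv.Perm.mul_apply, ih, r]
    have hpow : ∀ k : ℕ, e.permCongr r ^ k = e.permCongr (r ^ k) := by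
      intro k
      induction k with
      | zero => ext x; simp
      | succ k ih => ext x; simp [pow_succ', ih, Equiv.permCongr_apply]
    have ho : finRotate (m + 2) ^ (m + 2) = 1 := by
      have := pow_orderOf_eq_one (finRotate (m + 2))
      rwa [(isCycle_finRotate (n := m)).orderOf, support_finRotate, card_univ, Fintype.card_fin] at this
    rw [hpow]
    refine Equiv.ext fun x => ?_
    obtain ⟨y, rfl⟩ := e.surjective x
    rcases y with y | y
    · simp [Equiv.permCongr_apply, hr, ho]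
    · simp [Equiv.permCongr_apply, hr']
  · have hs : (e.permCongr r).support =
        (univ : Finset (Fin w × Fin (m + 2))).map (Function.Embedding.inl.trans e.toEmbedding) := by
      ext x
      obtain ⟨y, rfl⟩ := e.surjective x
      rcases y with y | y
      · simp [Equiv.permCongr_apply, r, Prod.ext_iff]
      · simp [Equiv.permCongr_apply, r]
    rw [hs, card_map, card_univ, Fintype.card_prod, Fintype.card_fin, Fintype.card_fin, mul_comm]

/-- In a block whose rank bound `s` dominates the weights, the rank is below `p ^ s`. -/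
theorem blockRank_lt {p : ℕ} {M : Ideal AlgInt} (hM : IsPModular p M)
    {B : Set (IrrCharacter (Equiv.Perm X))} (hB : IsPBlock M B) {s : ℕ} (hs : 1 ≤ s)
    (hw : ∀ χ ∈ B, ∀ (u : Equiv.Perm X) (w : ℕ), u ^ p = 1 → u.support.card = p * w →
      (χ : Equiv.Perm X → ℂ) u ≠ 0 → w ≤ s) :
    blockRank p B < p ^ s := by
  haveI : Fact p.Prime := ⟨hM.1⟩
  haveI := CfsgLib.Blocks.isMaximal_of_isPModular hM
  have hp : 0 < p := hM.1.pos
  set N := Fintype.card X with hNdef
  obtain ⟨K, hK⟩ := exists_key_of_block (N := N) le_rfl p hM hB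
  obtain ⟨χ₀, hχ₀⟩ := CfsgLib.Blocks.nonempty_of_isPBlock hB
  obtain ⟨⟨β, hβ⟩, hKβ, hirr⟩ := hK χ₀ hχ₀
  change keyOf p β = K at hKβ
  -- the weight
  obtain ⟨σ, hσ⟩ := exists_resSorted (p := p) hβ.mono.injective
  set δ := β ∘ σ with hδ
  have h0δ : ∀ i, 0 ≤ δ i := fun i => hβ.nonneg _
  have hkδ : natKey p δ = natKey p β := funext fun r => congrFun (keyOf_comp p β σ) _
  have hsumδ : ∑ i, δ i = ∑ i, β i := Equiv.sum_comp σ β
  obtain ⟨w, hwsum⟩ := Abacus.exists_weight hp (hasKey_toSet (p := p) hβ.nonneg hβ.mono.injective)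
  have hsum : ∑ i, β i = (Abacus.coreSum p (natKey p β) : ℤ) + (p : ℤ) * w := by
    rw [← sum_toSet hβ.nonneg hβ.mono.injective, hwsum]
    push_cast
    ring
  obtain ⟨δ₀, hs₀, h0₀, hc₀, hk₀⟩ := exists_tupleCore hp hσ h0δ
  have hpw : p * w ≤ Fintype.card X := by
    have h1 := sum_of_tupleCore hp h0₀ hs₀.injective hc₀
    rw [hk₀, hkδ] at h1
    have hmono₀ : StrictMono (δ₀ ∘ Tuple.sort δ₀) :=
      (Tuple.monotone_sort δ₀).strictMono_of_injective (hs₀.injective.comp (Tuple.sort δ₀).injective)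
    have h2 := Finset.sum_le_sum (s := (univ : Finset (Fin N))) fun i _ =>
      natCast_le_of_strictMono hmono₀ (fun a => h0₀ _) i
    rw [show ∑ i, (δ₀ ∘ Tuple.sort δ₀) i = ∑ i, δ₀ i from Equiv.sum_comp _ δ₀, h1] at h2
    have h3 := hβ.sum_eq
    rw [hsum] at h3
    have h4 : ((p * w : ℕ) : ℤ) ≤ (Fintype.card X : ℤ) := by push_cast; linarith
    exact_mod_cast h4
  obtain ⟨g, hg, hgc⟩ := exists_cycles hM.1.two_le hpw
  have hne : (χ₀ : Equiv.Perm X → ℂ) g ≠ 0 := by
    have h1 := sign_mul_chiB_pos hs₀ h0₀ hc₀ w X g δ hσ h0δ hk₀.symm (by rw [hsumδ, hβ.sum_eq])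
      (by rw [hsumδ, hk₀, hkδ, hsum]) hg (by convert hgc)
    rw [hδ, chiB_comp] at h1
    obtain ⟨ε, hε, e⟩ := irrOf_apply (⟨β, hβ⟩ : {β : Fin N → ℤ // IsBeta X β})
    rw [← hirr, e, Int.cast_ne_zero]
    intro h0
    rcases mul_eq_zero.1 h0 with h | h
    · rcases hε with rfl | rfl <;> simp at h
    · rw [h, mul_zero, mul_zero] at h1; exact lt_irrefl _ h1
  have hws : w ≤ s := hw χ₀ hχ₀ g w hg hgc hne
  -- the span
  have hle : Submodule.span ℂ ((fun χ : IrrCharacter (Equiv.Perm X) => pRegularPart p (χ : Equiv.Perm X → ℂ)) '' B)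
      ≤ coreSpan X p K N := by
    rw [Submodule.span_le]
    rintro _ ⟨χ, hχ, rfl⟩
    obtain ⟨β', hk', rfl⟩ := hK χ hχ
    obtain ⟨ε, -, e⟩ := irrOf_apply β'
    have : pRegularPart p (irrOf β' : Equiv.Perm X → ℂ) = (ε : ℂ) • vec X p β'.1 := by
      funext z
      simp only [pRegularPart, Pi.smul_apply, vec_apply, e, smul_eq_mul]
      split_ifs <;> push_cast <;> ring
    show pRegularPart p (irrOf β' : Equiv.Perm X → ℂ) ∈ coreSpan X p K N
    rw [this]
    exact Submodule.smul_mem _ _ (vec_mem_coreSpan le_rfl K β'.1 β'.2 hk')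
  haveI : FiniteDimensional ℂ (coreSpan X p K N) :=
    FiniteDimensional.span_of_finite ℂ (Finset.finite_toSet _)
  refine lt_of_le_of_lt ((Submodule.finrank_mono hle).trans
    ((finrank_span_finset_le_card _).trans card_image_le)) ?_
  refine lt_of_le_of_lt (card_le_card_of_injOn toSet (t := Abacus.confs p (natKey p β) w) ?_ ?_)
    (Abacus.card_confs_lt hM.1.one_lt _ hws hs)
  · intro γ hγ
    obtain ⟨hmem, hk, hc⟩ := mem_filter.1 hγ
    have hb := mem_betaSet.1 hmem
    have hkn : natKey p γ = natKey p β := funext fun r => congrFun (hk.trans hKβ.symm) _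
    refine Abacus.mem_confs.2 ⟨hkn ▸ hasKey_toSet hb.nonneg hb.mono.injective, ?_, ?_⟩
    · intro x hx hpx
      obtain ⟨hxs, hx0⟩ := mem_filter.1 hx
      obtain ⟨i, hi⟩ := (mem_toSet hb.nonneg).1 hxs
      obtain ⟨j, hj⟩ := hc i (by rw [hi]; exact_mod_cast hx0) (by rw [hi]; exact_mod_cast hpx)
      exact (mem_toSet hb.nonneg).2 ⟨j, by rw [hj, hi, Nat.cast_sub hpx]⟩
    · have h1 := sum_toSet hb.nonneg hb.mono.injective
      rw [hb.sum_eq, ← hβ.sum_eq, hsum] at h1
      exact_mod_cast h1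
  · intro a ha b hb hab
    have ha' := mem_betaSet.1 (mem_filter.1 ha).1
    have hb' := mem_betaSet.1 (mem_filter.1 hb).1
    exact (ha'.mono.range_inj hb'.mono).1 (eq_of_toSet_eq ha'.nonneg hb'.nonneg hab)

end CfsgLib.SymBlocks
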