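import Cfsg.Agent.SymBlocks.Sort

/-!
# The rank of the restrictions to the regular elements
-/

set_option autoImplicit false
set_option linter.style.haveILetI false
set_option linter.unusedSectionVars false

open scoped Classical

namespace CfsgLib.SymBlocks

open Finset Cfsg

universe u

variable {X : Type u} [Fintype X] {N p : ℕ}

/-- The restriction of `chiB` to the regular elements. -/
noncomputable def vec (X : Type u) [Fintype X] (p : ℕ) (δ : Fin N → ℤ) : Equiv.Perm X → ℂ :=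
  pRegularPart p (chiC X δ)

theorem vec_apply (δ : Fin N → ℤ) (g : Equiv.Perm X) :
    vec X p δ g = if IsPRegular p g then (chiB g δ : ℂ) else 0 := by
  simp only [vec, pRegularPart, chiC]

theorem vec_eq_sum_betaSet (δ : Fin N → ℤ) :
    vec X p δ = ∑ β ∈ betaSet X N, (∑ σ : Equiv.Perm (Fin N),
      if β = δ ∘ σ then ((Equiv.Perm.sign σ : ℤ) : ℂ) else 0) • vec X p β := by
  funext g
  simp only [Finset.sum_apply, Pi.smul_apply, vec_apply, smul_eq_mul]
  split_ifs
  · exact chiB_eq_sum_betaSet g δ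
  · simp

/-- The sum of the entries on runner `0`. -/
def runSum (p : ℕ) (δ : Fin N → ℤ) : ℤ := ∑ i, if δ i % (p : ℤ) = 0 then δ i else 0

theorem runSum_comp (δ : Fin N → ℤ) (σ : Equiv.Perm (Fin N)) : runSum p (δ ∘ σ) = runSum p δ :=
  Equiv.sum_comp σ fun i => if δ i % (p : ℤ) = 0 then δ i else 0

/-- No entry on runner `0` can be lowered. -/
def ZeroCore (p : ℕ) (δ : Fin N → ℤ) : Prop :=
  ∀ i, δ i % (p : ℤ) = 0 → (p : ℤ) ≤ δ i → ∃ j, δ j = δ i - p

/-- The span of the members of the key class with runner `0` a core. -/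
noncomputable def coreSpan (X : Type u) [Fintype X] (p : ℕ) (K : ℤ → ℕ) (N : ℕ) :
    Submodule ℂ (Equiv.Perm X → ℂ) :=
  Submodule.span ℂ
    (((betaSet X N).filter fun β => keyOf p β = K ∧ ZeroCore p β).image (vec X p) : Finset _)

/-- Adding `p` on a set of places. -/
def raise (p : ℕ) (γ : Fin N → ℤ) (S : Finset (Fin N)) : Fin N → ℤ :=
  γ + fun i => if i ∈ S then (p : ℤ) else 0

theorem emod_raise (γ : Fin N → ℤ) (S : Finset (Fin N)) (a : Fin N) :
    raise p γ S a % (p : ℤ) = γ a % (p : ℤ) := by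
  simp only [raise, Pi.add_apply]
  split_ifs <;> simp

theorem keyOf_raise (γ : Fin N → ℤ) (S : Finset (Fin N)) : keyOf p (raise p γ S) = keyOf p γ := by
  funext r
  exact congrArg card (filter_congr fun a _ => by rw [emod_raise])

theorem sum_raise (γ : Fin N → ℤ) (S : Finset (Fin N)) :
    ∑ a, raise p γ S a = ∑ a, γ a + (p : ℤ) * S.card := by
  simp [raise, sum_add_distrib, sum_ite_mem, mul_comm]

theorem runSum_raise (γ : Fin N → ℤ) {S : Finset (Fin N)} (hS : ∀ i ∈ S, γ i % (p : ℤ) = 0) :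
    runSum p (raise p γ S) = runSum p γ + (p : ℤ) * S.card := by
  have h : ∀ a, (if raise p γ S a % (p : ℤ) = 0 then raise p γ S a else 0) =
      (if γ a % (p : ℤ) = 0 then γ a else 0) + if a ∈ S then (p : ℤ) else 0 := fun a => by
    rw [emod_raise]
    by_cases ha : a ∈ S
    · simp [hS a ha, ha, raise]
    · simp [ha, raise]
  simp only [runSum, h, sum_add_distrib, sum_ite_mem, univ_inter, sum_const, nsmul_eq_mul]
  ring

theorem runSum_add_single (δ : Fin N → ℤ) (i : Fin N) {m : ℤ} (hm : (p : ℤ) ∣ m) :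
    runSum p (δ + Pi.single i m) = runSum p δ + if δ i % (p : ℤ) = 0 then m else 0 := by
  have h : ∀ a, (if (δ + Pi.single i m : Fin N → ℤ) a % (p : ℤ) = 0 then (δ + Pi.single i m : Fin N → ℤ) a else 0) =
      (if δ a % (p : ℤ) = 0 then δ a else 0) +
        if a = i then (if δ i % (p : ℤ) = 0 then m else 0) else 0 := fun a => by
    rcases eq_or_ne a i with rfl | ha
    · obtain ⟨c, rfl⟩ := hm
      simp only [Pi.add_apply, Pi.single_eq_same, Int.add_mul_emod_self_left, if_true]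
      split_ifs <;> simp
    · simp [ha]
  simp only [runSum, h, sum_add_distrib, sum_ite_eq', mem_univ, if_true]

section Step

variable [Fact p.Prime] (hN : Fintype.card X ≤ N)

include hN in
theorem sum_vec_add_single {k : ℕ} (hk : 0 < k) {η : Fin N → ℤ} (h0 : ∀ i, 0 ≤ η i)
    (hsum : ∑ i, η i + ((k * p : ℕ) : ℤ) = (Fintype.card X : ℤ) + ∑ i : Fin N, ((i : ℕ) : ℤ)) :
    ∑ i, vec X p (η + Pi.single i ((k * p : ℕ) : ℤ)) = 0 := by
  funext g
  simp only [Finset.sum_apply, vec_apply, Pi.zero_apply]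
  split_ifs with hg
  · rw [← Int.cast_sum, relation hN (dvd_mul_left p k) (Nat.mul_pos hk (Fact.out : p.Prime).pos) hg h0 hsum]
    simp
  · simp

include hN in
/-- The Newton-identity step: the sum over raised `j`-subsets of runner `0` lies in the span. -/
theorem sum_raise_mem {K : ℤ → ℕ} {R : ℤ} (W : Submodule ℂ (Equiv.Perm X → ℂ))
    (hlow : ∀ δ : Fin N → ℤ, keyOf p δ = K → runSum p δ < R → vec X p δ ∈ W)
    {γ : Fin N → ℤ} (h0 : ∀ i, 0 ≤ γ i) (hK : keyOf p γ = K) {j : ℕ} (hj : 0 < j)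
    (hR : runSum p γ + (p : ℤ) * j = R)
    (hsum : ∑ i, γ i + (p : ℤ) * j = (Fintype.card X : ℤ) + ∑ i : Fin N, ((i : ℕ) : ℤ)) :
    ∑ T ∈ ((univ : Finset (Fin N)).filter fun i => γ i % (p : ℤ) = 0).powersetCard j,
      vec X p (raise p γ T) ∈ W := by
  set Rn := (univ : Finset (Fin N)).filter fun i => γ i % (p : ℤ) = 0 with hRn
  have hp : 0 < p := (Fact.out : p.Prime).pos
  let A : ℕ → ℕ → (Equiv.Perm X → ℂ) := fun d k =>
    ∑ S ∈ Rn.powersetCard d, ∑ i ∈ Rn \ S, vec X p (raise p γ S + Pi.single i ((k * p : ℕ) : ℤ))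
  let C : ℕ → ℕ → (Equiv.Perm X → ℂ) := fun d k =>
    ∑ S ∈ Rn.powersetCard d, ∑ i ∈ Rn, vec X p (raise p γ S + Pi.single i ((k * p : ℕ) : ℤ))
  have hC : ∀ d k, 0 < k → d + k = j → C d k ∈ W := by
    intro d k hk hdk
    refine W.sum_mem fun S hS => ?_
    obtain ⟨hSR, hSc⟩ := mem_powersetCard.1 hS
    have hSz : ∀ i ∈ S, γ i % (p : ℤ) = 0 := fun i hi => (mem_filter.1 (hSR hi)).2
    have htot := sum_vec_add_single (X := X) hN (p := p) hk (η := raise p γ S)
      (fun a => by have := h0 a; simp only [raise, Pi.add_apply]; split_ifs <;> omega)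
      (by rw [sum_raise, hSc, ← hsum, ← hdk]; push_cast; ring)
    rw [← sum_filter_add_sum_filter_not univ (fun i => γ i % (p : ℤ) = 0)] at htot
    rw [eq_neg_of_add_eq_zero_left htot]
    refine W.neg_mem (W.sum_mem fun i hi => hlow _ ?_ ?_)
    · rw [keyOf_add_single (dvd_mul_left p k), keyOf_raise, hK]
    · rw [runSum_add_single _ i (Int.natCast_dvd_natCast.2 (dvd_mul_left p k)), runSum_raise γ hSz,
        emod_raise, if_neg (mem_filter.1 hi).2, hSc, ← hR, ← hdk]
      have : (0 : ℤ) < (p : ℤ) * k := by positivity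
      push_cast
      rw [mul_add]
      omega
  have hsplit : ∀ d k, C (d + 1) k = A (d + 1) k + A d (k + 1) := by
    intro d k
    simp only [A, C]
    rw [sum_congr rfl fun S hS => (sum_sdiff (mem_powersetCard.1 hS).1).symm, sum_add_distrib]
    congr 1
    rw [sum_sigma' _ (fun S => S), sum_sigma' _ (fun S => Rn \ S)]
    refine sum_bij' (fun q _ => ⟨q.1.erase q.2, q.2⟩) (fun q _ => ⟨insert q.2 q.1, q.2⟩)
      ?_ ?_ ?_ ?_ ?_
    · rintro ⟨S, i⟩ hq
      simp only [mem_sigma, mem_powersetCard] at hq ⊢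
      refine ⟨⟨(erase_subset _ _).trans hq.1.1, ?_⟩, mem_sdiff.2 ⟨hq.1.1 hq.2, fun c => ?_⟩⟩
      · rw [card_erase_of_mem hq.2, hq.1.2]; omega
      · exact (mem_erase.1 c).1 rfl
    · rintro ⟨S, i⟩ hq
      simp only [mem_sigma, mem_powersetCard, mem_sdiff] at hq ⊢
      exact ⟨⟨insert_subset hq.2.1 hq.1.1, by rw [card_insert_of_notMem hq.2.2, hq.1.2]⟩,
        mem_insert_self _ _⟩
    · rintro ⟨S, i⟩ hq
      simp only [mem_sigma] at hq
      simp [insert_erase hq.2]
    · rintro ⟨S, i⟩ hq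
      simp only [mem_sigma, mem_sdiff] at hq
      simp [erase_insert hq.2.2]
    · rintro ⟨S, i⟩ hq
      simp only [mem_sigma] at hq
      congr 1
      funext a
      rcases eq_or_ne a i with rfl | ha
      · simp [raise, hq.2]; ring
      · simp [raise, ha]
  have hA : ∀ d k, 0 < k → d + k = j → A d k ∈ W := by
    intro d
    induction d with
    | zero =>
      intro k hk hdk
      have := hC 0 k hk hdk
      simpa [A, C] using this
    | succ d ih =>
      intro k hk hdk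
      have h1 := hC (d + 1) k hk hdk
      rw [hsplit] at h1
      exact (Submodule.add_mem_iff_left W (ih (k + 1) (by omega) (by omega))).1 h1
  have hA1 := hA (j - 1) 1 one_pos (by omega)
  have hcount : A (j - 1) 1 = (j : ℂ) • ∑ T ∈ Rn.powersetCard j, vec X p (raise p γ T) := by
    rw [Finset.smul_sum]
    have e : ∀ T ∈ Rn.powersetCard j, (j : ℂ) • vec X p (raise p γ T) = ∑ i ∈ T, vec X p (raise p γ T) :=
      fun T hT => by rw [sum_const, (mem_powersetCard.1 hT).2, Nat.cast_smul_eq_nsmul]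
    rw [sum_congr rfl e, sum_sigma' _ (fun T => T)]
    simp only [A]
    rw [sum_sigma' _ (fun S => Rn \ S)]
    refine sum_bij' (fun q _ => ⟨insert q.2 q.1, q.2⟩) (fun q _ => ⟨q.1.erase q.2, q.2⟩)
      ?_ ?_ ?_ ?_ ?_
    · rintro ⟨S, i⟩ hq
      simp only [mem_sigma, mem_powersetCard, mem_sdiff] at hq ⊢
      exact ⟨⟨insert_subset hq.2.1 hq.1.1, by rw [card_insert_of_notMem hq.2.2, hq.1.2]; omega⟩,
        mem_insert_self _ _⟩
    · rintro ⟨T, i⟩ hq
      simp only [mem_sigma, mem_powersetCard] at hq ⊢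
      exact ⟨⟨(erase_subset _ _).trans hq.1.1, by rw [card_erase_of_mem hq.2, hq.1.2]⟩,
        mem_sdiff.2 ⟨hq.1.1 hq.2, fun c => (mem_erase.1 c).1 rfl⟩⟩
    · rintro ⟨S, i⟩ hq
      simp only [mem_sigma, mem_sdiff] at hq
      simp [erase_insert hq.2.2]
    · rintro ⟨T, i⟩ hq
      simp only [mem_sigma] at hq
      simp [insert_erase hq.2]
    · rintro ⟨S, i⟩ hq
      simp only [mem_sigma, mem_sdiff] at hq
      congr 1
      funext a
      rcases eq_or_ne a i with rfl | ha
      · simp [raise, hq.2.2]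
      · simp [raise, ha]
  rw [hcount] at hA1
  exact (Submodule.smul_mem_iff _ (Nat.cast_ne_zero.2 hj.ne')).1 hA1

include hN in
/-- Every member of the key class lies in the span of the runner-`0` cores. -/
theorem vec_mem_coreSpan (K : ℤ → ℕ) :
    ∀ β : Fin N → ℤ, IsBeta X β → keyOf p β = K → vec X p β ∈ coreSpan X p K N := by
  have hp : (0 : ℤ) < (p : ℤ) := by exact_mod_cast (Fact.out : p.Prime).pos
  suffices H : ∀ (R : ℕ) (Φ : ℕ) (β : Fin N → ℤ), IsBeta X β → keyOf p β = K →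
      (runSum p β).toNat = R → (∑ i, β i ^ 2).toNat = Φ → vec X p β ∈ coreSpan X p K N from
    fun β hb hk => H _ _ β hb hk rfl rfl
  intro R
  induction R using Nat.strong_induction_on with
  | _ R ihR => ?_
  intro Φ
  induction Φ using Nat.strong_induction_on with
  | _ Φ ihΦ => ?_
  intro β hb hK hR hΦ
  have hrun0 : ∀ {δ : Fin N → ℤ}, IsBeta X δ → 0 ≤ runSum p δ := fun {δ} h =>
    sum_nonneg fun i _ => by split_ifs <;> simp [h.nonneg i]
  have hexp : ∀ δ : Fin N → ℤ, keyOf p δ = K →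
      (∀ β' : Fin N → ℤ, ∀ σ : Equiv.Perm (Fin N), IsBeta X β' → β' = δ ∘ σ → keyOf p β' = K →
        vec X p β' ∈ coreSpan X p K N) → vec X p δ ∈ coreSpan X p K N := by
    intro δ hδ h
    rw [vec_eq_sum_betaSet]
    refine Submodule.sum_mem _ fun β' hβ' => ?_
    by_cases hc : (∑ σ : Equiv.Perm (Fin N),
        if β' = δ ∘ σ then ((Equiv.Perm.sign σ : ℤ) : ℂ) else 0) = 0
    · rw [hc, zero_smul]; exact Submodule.zero_mem _
    · obtain ⟨σ, -, hσ⟩ := exists_ne_zero_of_sum_ne_zero hc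
      have e : β' = δ ∘ σ := by
        by_contra c
        exact hσ (if_neg c)
      exact Submodule.smul_mem _ _ (h β' σ (mem_betaSet.1 hβ') e (by rw [e, keyOf_comp, hδ]))
  by_cases hc : ZeroCore p β
  · exact Submodule.subset_span (mem_image.2 ⟨β, mem_filter.2 ⟨mem_betaSet.2 hb, hK, hc⟩, rfl⟩)
  simp only [ZeroCore, not_forall, not_exists] at hc
  obtain ⟨i0, hi0, hpi0, hne⟩ := hc
  set S := (univ : Finset (Fin N)).filter fun i => β i % (p : ℤ) = 0 ∧ β i0 ≤ β i with hS
  set γ : Fin N → ℤ := β - fun i => if i ∈ S then (p : ℤ) else 0 with hγ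
  have hraise : raise p γ S = β := by rw [hγ, raise, sub_add_cancel]
  have hmod : ∀ a, γ a % (p : ℤ) = β a % (p : ℤ) := fun a => by
    rw [← emod_raise γ S a, hraise]
  have h0 : ∀ a, 0 ≤ γ a := fun a => by
    simp only [hγ, Pi.sub_apply]
    split_ifs with ha
    · have := (mem_filter.1 ha).2.2
      omega
    · simpa using hb.nonneg a
  have hKγ : keyOf p γ = K := by rw [← keyOf_raise γ S, hraise, hK]
  have hj : 0 < S.card := card_pos.2 ⟨i0, mem_filter.2 ⟨mem_univ _, hi0, le_rfl⟩⟩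
  have hSz : ∀ i ∈ S, γ i % (p : ℤ) = 0 := fun i hi => by rw [hmod]; exact (mem_filter.1 hi).2.1
  have hRγ : runSum p γ + (p : ℤ) * S.card = runSum p β := by rw [← runSum_raise γ hSz, hraise]
  have hE := sum_raise_mem hN (coreSpan X p K N) (K := K) (R := runSum p β)
    (fun δ hδ hlt => hexp δ hδ fun β' σ hb' e hk' =>
      ihR (runSum p β').toNat (by rw [e, runSum_comp]; have := hrun0 hb'; rw [e, runSum_comp] at this; omega)
        _ β' hb' hk' rfl rfl)
    h0 hKγ hj hRγ (by rw [← sum_raise, hraise, hb.sum_eq])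
  set Rn := (univ : Finset (Fin N)).filter fun i => γ i % (p : ℤ) = 0 with hRn
  have hSmem : S ∈ Rn.powersetCard S.card :=
    mem_powersetCard.2 ⟨fun i hi => mem_filter.2 ⟨mem_univ _, hSz i hi⟩, rfl⟩
  rw [← add_sum_erase _ _ hSmem, hraise] at hE
  refine (Submodule.add_mem_iff_left _ (Submodule.sum_mem _ fun T hT => ?_)).1 hE
  obtain ⟨hTne, hT⟩ := mem_erase.1 hT
  obtain ⟨hTR, hTc⟩ := mem_powersetCard.1 hT
  have hTz : ∀ i ∈ T, γ i % (p : ℤ) = 0 := fun i hi => (mem_filter.1 (hTR hi)).2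
  -- the other subsets have a smaller sum of squares
  have hlt : ∑ i ∈ T, γ i < ∑ i ∈ S, γ i := by
    rw [← sum_sdiff_lt_sum_sdiff]
    have hcard : (T \ S).card = (S \ T).card := card_sdiff_comm hTc
    have hne' : (T \ S).Nonempty := by
      rw [sdiff_nonempty]
      exact fun c => hTne (eq_of_subset_of_card_le c hTc.ge)
    set t := β i0 - (p : ℤ)
    have hle : ∀ i ∈ S \ T, t ≤ γ i := fun i hi => by
      have hiS := (mem_sdiff.1 hi).1
      have := (mem_filter.1 hiS).2.2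
      simp only [hγ, Pi.sub_apply, hiS, if_true]
      omega
    have hlt : ∀ i ∈ T \ S, γ i < t := fun i hi => by
      obtain ⟨hiT, hiS⟩ := mem_sdiff.1 hi
      have h1 : β i % (p : ℤ) = 0 := by rw [← hmod]; exact hTz i hiT
      have h2 : β i < β i0 := not_le.1 fun c => hiS (mem_filter.2 ⟨mem_univ _, h1, c⟩)
      obtain ⟨a, ha⟩ := Int.dvd_of_emod_eq_zero h1
      obtain ⟨b, hb'⟩ := Int.dvd_of_emod_eq_zero hi0
      have hab : a < b := lt_of_mul_lt_mul_left (by rw [← ha, ← hb']; exact h2) hp.le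
      have h3 : (p : ℤ) * (a + 1) ≤ p * b := mul_le_mul_of_nonneg_left (by omega) hp.le
      rw [mul_add, mul_one] at h3
      have := hne i
      simp only [hγ, Pi.sub_apply, hiS, if_false, sub_zero]
      omega
    calc ∑ i ∈ T \ S, γ i < ∑ _i ∈ T \ S, t := sum_lt_sum_of_nonempty hne' hlt
      _ = ∑ _i ∈ S \ T, t := by simp [hcard]
      _ ≤ ∑ i ∈ S \ T, γ i := sum_le_sum hle
  have hsq : ∀ U : Finset (Fin N), ∑ i, raise p γ U i ^ 2 =
      ∑ i, γ i ^ 2 + 2 * (p : ℤ) * ∑ i ∈ U, γ i + (p : ℤ) ^ 2 * U.card := by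
    intro U
    have e : ∀ i, raise p γ U i ^ 2 =
        γ i ^ 2 + if i ∈ U then 2 * (p : ℤ) * γ i + (p : ℤ) ^ 2 else 0 := fun i => by
      simp only [raise, Pi.add_apply]
      split_ifs <;> ring
    simp only [e, sum_add_distrib, sum_ite_mem, univ_inter, sum_const, nsmul_eq_mul, ← mul_sum]
    ring
  have hk' : keyOf p (raise p γ T) = K := by rw [keyOf_raise, hKγ]
  refine hexp _ hk' fun β' σ hb' e hk'' => ?_
  refine ihΦ (∑ i, β' i ^ 2).toNat ?_ β' hb' hk'' ?_ rfl
  · have h1 : ∑ i, β' i ^ 2 = ∑ i, raise p γ T i ^ 2 := by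
      rw [e]; exact Equiv.sum_comp σ fun i => raise p γ T i ^ 2
    have h2 : ∑ i, β i ^ 2 = ∑ i, raise p γ S i ^ 2 := by rw [hraise]
    rw [h1, ← hΦ, h2]
    have h3 : ∑ i, raise p γ T i ^ 2 < ∑ i, raise p γ S i ^ 2 := by
      rw [hsq, hsq, hTc]
      have := mul_lt_mul_of_pos_left hlt (by omega : (0 : ℤ) < 2 * p)
      linarith
    have h4 : 0 ≤ ∑ i, raise p γ T i ^ 2 := sum_nonneg fun i _ => sq_nonneg _
    omega
  · rw [← hR, e, runSum_comp, runSum_raise γ hTz, hTc, hRγ]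

end Step

end CfsgLib.SymBlocks
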