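import Cfsg.Agent.SymBlocks.Family
import Cfsg.Agent.SymBlocks.Count

/-!
# Beta-number tuples as configurations, residue-sorted arrangements, and non-vanishing
-/

set_option autoImplicit false
set_option linter.style.haveILetI false
set_option linter.unusedSectionVars false

open scoped Classical

namespace CfsgLib.SymBlocks

open Finset

universe u

variable {N p : ℕ}

/-- The finite set of the entries. -/
noncomputable def toSet (δ : Fin N → ℤ) : Finset ℕ := univ.image fun i => (δ i).toNat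

theorem mem_toSet {δ : Fin N → ℤ} (h0 : ∀ i, 0 ≤ δ i) {x : ℕ} :
    x ∈ toSet δ ↔ ∃ i, δ i = (x : ℤ) := by
  simp only [toSet, mem_image, mem_univ, true_and]
  refine exists_congr fun i => ?_
  have := h0 i
  omega

theorem sum_toSet {δ : Fin N → ℤ} (h0 : ∀ i, 0 ≤ δ i) (hi : Function.Injective δ) :
    ((∑ x ∈ toSet δ, x : ℕ) : ℤ) = ∑ i, δ i := by
  rw [toSet, sum_image fun a _ b _ e => hi (by have := h0 a; have := h0 b; omega),
    Nat.cast_sum]
  exact sum_congr rfl fun i _ => Int.toNat_of_nonneg (h0 i)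

/-- The residue counts as a function on naturals. -/
def natKey (p : ℕ) (δ : Fin N → ℤ) : ℕ → ℕ := fun r => keyOf p δ (r : ℤ)

theorem hasKey_toSet {δ : Fin N → ℤ} (h0 : ∀ i, 0 ≤ δ i) (hi : Function.Injective δ) :
    Abacus.HasKey p (natKey p δ) (toSet δ) := by
  intro r _
  rw [Abacus.runner, toSet, filter_image,
    card_image_of_injective _ fun a b e => hi (by have := h0 a; have := h0 b; omega)]
  refine congrArg card (filter_congr fun i _ => ?_)
  have h1 : ((δ i).toNat : ℤ) = δ i := Int.toNat_of_nonneg (h0 i)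
  rw [← h1, Int.toNat_natCast]
  exact_mod_cast Iff.rfl

/-- No entry can be lowered by `p`. -/
def TupleCore (p : ℕ) (δ : Fin N → ℤ) : Prop := ∀ i, (p : ℤ) ≤ δ i → ∃ j, δ j = δ i - p

theorem runnerCore_toSet {δ : Fin N → ℤ} (h0 : ∀ i, 0 ≤ δ i) (h : TupleCore p δ) (r : ℕ) :
    Abacus.RunnerCore p (toSet δ) r := by
  intro x hx hpx
  obtain ⟨i, hi⟩ := (mem_toSet h0).1 (mem_filter.1 hx).1
  obtain ⟨j, hj⟩ := h i (by rw [hi]; exact_mod_cast hpx)
  exact (mem_toSet h0).2 ⟨j, by rw [hj, hi]; push_cast [Nat.cast_sub hpx]; ring⟩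

theorem eq_of_toSet_eq {δ δ' : Fin N → ℤ} (h0 : ∀ i, 0 ≤ δ i) (h0' : ∀ i, 0 ≤ δ' i)
    (h : toSet δ = toSet δ') : Set.range δ = Set.range δ' := by
  have key : ∀ {a b : Fin N → ℤ}, (∀ i, 0 ≤ a i) → (∀ i, 0 ≤ b i) → toSet a = toSet b →
      Set.range a ⊆ Set.range b := by
    rintro a b ha hb hab x ⟨i, rfl⟩
    have h1 : (a i).toNat ∈ toSet b := hab ▸ mem_image_of_mem _ (mem_univ i)
    obtain ⟨j, hj⟩ := (mem_toSet hb).1 h1
    exact ⟨j, by rw [hj, Int.toNat_of_nonneg (ha i)]⟩
  exact (key h0 h0' h).antisymm (key h0' h0 h.symm)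

/-- Increasing by residue, then by value. -/
def ResSorted (p : ℕ) (δ : Fin N → ℤ) : Prop :=
  StrictMono fun i => (toLex (δ i % (p : ℤ), δ i) : ℤ ×ₗ ℤ)

theorem ResSorted.injective {δ : Fin N → ℤ} (h : ResSorted p δ) : Function.Injective δ :=
  fun a b e => StrictMono.injective h (by simp only [e])

theorem exists_resSorted {δ : Fin N → ℤ} (hi : Function.Injective δ) :
    ∃ σ : Equiv.Perm (Fin N), ResSorted p (δ ∘ σ) := by
  let f : Fin N → ℤ ×ₗ ℤ := fun i => toLex (δ i % (p : ℤ), δ i)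
  refine ⟨Tuple.sort f, (Tuple.monotone_sort f).strictMono_of_injective fun a b e => ?_⟩
  have h2 := congrArg (fun q : ℤ ×ₗ ℤ => (ofLex q).2) e
  exact (Tuple.sort f).injective (hi (by simpa [f] using h2))

theorem ResSorted.eq_of_range {δ δ' : Fin N → ℤ} (h : ResSorted p δ) (h' : ResSorted p δ')
    (e : Set.range δ = Set.range δ') : δ = δ' := by
  have e2 : Set.range (fun i => (toLex (δ i % (p : ℤ), δ i) : ℤ ×ₗ ℤ)) =
      Set.range (fun i => (toLex (δ' i % (p : ℤ), δ' i) : ℤ ×ₗ ℤ)) := by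
    rw [show (fun i => (toLex (δ i % (p : ℤ), δ i) : ℤ ×ₗ ℤ)) =
        (fun z => (toLex (z % (p : ℤ), z) : ℤ ×ₗ ℤ)) ∘ δ from rfl,
      show (fun i => (toLex (δ' i % (p : ℤ), δ' i) : ℤ ×ₗ ℤ)) =
        (fun z => (toLex (z % (p : ℤ), z) : ℤ ×ₗ ℤ)) ∘ δ' from rfl,
      Set.range_comp, Set.range_comp, e]
  funext i
  exact congrArg (fun q : ℤ ×ₗ ℤ => (ofLex q).2) (congrFun ((h.range_inj h').1 e2) i)

theorem keyOf_sub_single (δ : Fin N → ℤ) (i : Fin N) :
    keyOf p (δ - Pi.single i (p : ℤ)) = keyOf p δ := by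
  have h := keyOf_add_single (dvd_refl p) (δ - Pi.single i (p : ℤ)) i
  rw [sub_add_cancel] at h
  exact h.symm

theorem emod_sub_single (δ : Fin N → ℤ) (i a : Fin N) :
    (δ - Pi.single i (p : ℤ) : Fin N → ℤ) a % (p : ℤ) = δ a % (p : ℤ) := by
  rcases eq_or_ne a i with rfl | h
  · simp
  · simp [h]

theorem ResSorted.sub_single {δ : Fin N → ℤ} (h : ResSorted p δ) (i : Fin N)
    (hne : ∀ j, δ j ≠ δ i - p) : ResSorted p (δ - Pi.single i (p : ℤ)) := by
  intro a b hab
  have h1 := h hab
  simp only [Prod.Lex.toLex_lt_toLex, emod_sub_single] at h1 ⊢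
  rcases h1 with h1 | ⟨h1, h2⟩
  · exact Or.inl h1
  refine Or.inr ⟨h1, ?_⟩
  obtain ⟨d, hd⟩ : (p : ℤ) ∣ δ b - δ a := Int.ModEq.dvd h1
  have hd0 : 1 ≤ d := by
    by_contra hd0
    have : (p : ℤ) * d ≤ 0 := mul_nonpos_of_nonneg_of_nonpos (by positivity) (by omega)
    omega
  rcases eq_or_ne b i with rfl | hb
  · have ha : a ≠ b := hab.ne
    simp only [Pi.sub_apply, Pi.single_eq_same, Pi.single_eq_of_ne ha, sub_zero]
    have := hne a
    have : (p : ℤ) * 1 ≤ p * d := mul_le_mul_of_nonneg_left hd0 (by positivity)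
    omega
  · simp only [Pi.sub_apply, Pi.single_eq_of_ne hb, sub_zero]
    rcases eq_or_ne a i with rfl | ha
    · simp only [Pi.single_eq_same]; omega
    · simp only [Pi.single_eq_of_ne ha, sub_zero]; exact h2

/-- The sum of a fully lowered tuple is determined by its key. -/
theorem sum_of_tupleCore (hp : 0 < p) {δ : Fin N → ℤ} (h0 : ∀ i, 0 ≤ δ i)
    (hi : Function.Injective δ) (h : TupleCore p δ) :
    ∑ i, δ i = (Abacus.coreSum p (natKey p δ) : ℤ) := by
  rw [← sum_toSet h0 hi, Abacus.sum_eq_coreSum hp (hasKey_toSet h0 hi)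
    fun r _ => runnerCore_toSet h0 h r]

theorem eq_of_tupleCore (hp : 0 < p) {δ δ' : Fin N → ℤ} (hs : ResSorted p δ) (hs' : ResSorted p δ')
    (h0 : ∀ i, 0 ≤ δ i) (h0' : ∀ i, 0 ≤ δ' i) (h : TupleCore p δ) (h' : TupleCore p δ')
    (hk : natKey p δ = natKey p δ') : δ = δ' :=
  hs.eq_of_range hs' (eq_of_toSet_eq h0 h0' (Abacus.eq_of_core hp (hasKey_toSet h0 hs.injective)
    (hk ▸ hasKey_toSet h0' hs'.injective) (fun r _ => runnerCore_toSet h0 h r)
    fun r _ => runnerCore_toSet h0' h' r))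

theorem exists_tupleCore (hp : 0 < p) {δ : Fin N → ℤ} (hs : ResSorted p δ) (h0 : ∀ i, 0 ≤ δ i) :
    ∃ δ₀ : Fin N → ℤ, ResSorted p δ₀ ∧ (∀ i, 0 ≤ δ₀ i) ∧ TupleCore p δ₀ ∧ natKey p δ₀ = natKey p δ := by
  suffices H : ∀ d : ℕ, ∀ δ : Fin N → ℤ, ResSorted p δ → (∀ i, 0 ≤ δ i) → (∑ i, δ i).toNat = d →
      ∃ δ₀ : Fin N → ℤ, ResSorted p δ₀ ∧ (∀ i, 0 ≤ δ₀ i) ∧ TupleCore p δ₀ ∧ natKey p δ₀ = natKey p δ from
    H _ δ hs h0 rfl
  intro d
  induction d using Nat.strong_induction_on with
  | _ d ih => ?_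
  intro δ hs h0 hd
  by_cases hc : TupleCore p δ
  · exact ⟨δ, hs, h0, hc, rfl⟩
  simp only [TupleCore, not_forall, not_exists] at hc
  obtain ⟨i, hpi, hne⟩ := hc
  have h0' : ∀ a, 0 ≤ (δ - Pi.single i (p : ℤ) : Fin N → ℤ) a := fun a => by
    rcases eq_or_ne a i with rfl | h
    · simp; omega
    · simp [h, h0 a]
  obtain ⟨δ₀, h1, h2, h3, h4⟩ := ih _ (by
    have e : ∑ a, (δ - Pi.single i (p : ℤ) : Fin N → ℤ) a = ∑ a, δ a - p := by
      simp [sum_sub_distrib]
    have := sum_nonneg (s := univ) fun a _ => h0' a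
    omega) _ (hs.sub_single i hne) h0' rfl
  exact ⟨δ₀, h1, h2, h3, h4.trans (funext fun r => congrFun (keyOf_sub_single δ i) _)⟩

section Values

variable {X : Type u} [Fintype X]

/-- The degrees are positive. -/
theorem chiB_one_pos {β : Fin N → ℤ} (h : IsBeta X β) : 0 < chiB (1 : Equiv.Perm X) β := by
  suffices H : ∀ n : ℕ, ∀ (X : Type u) [Fintype X], Fintype.card X = n → ∀ β : Fin N → ℤ,
      IsBeta X β → 0 < chiB (1 : Equiv.Perm X) β from H _ X rfl β h
  intro n
  induction n with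
  | zero =>
    intro X _ hn β h
    haveI : IsEmpty X := Fintype.card_eq_zero_iff.1 hn
    have hid : ∀ i : Fin N, β i = ((i : ℕ) : ℤ) := by
      have h1 : ∀ i ∈ (univ : Finset (Fin N)), ((i : ℕ) : ℤ) ≤ β i := fun i _ =>
        natCast_le_of_strictMono h.mono h.nonneg i
      have h2 := (sum_eq_sum_iff_of_le h1).1 (by rw [h.sum_eq, hn]; simp)
      exact fun i => (h2 i (mem_univ i)).symm
    rw [chiB, sum_eq_single (1 : Equiv.Perm (Fin N))]
    · haveI : Unique {f : X → Fin N // (∀ x, f ((1 : Equiv.Perm X) x) = f x) ∧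
          ∀ i, (Nat.card {x // f x = i} : ℤ) = β i - (((1 : Equiv.Perm (Fin N)) i : ℕ) : ℤ)} :=
        ⟨⟨⟨isEmptyElim, isEmptyElim, fun i => by simp [hid]⟩⟩,
          fun f => Subtype.ext (funext isEmptyElim)⟩
      rw [col, Nat.card_unique]
      simp
    · intro w _ hw
      obtain ⟨i, hi⟩ : ∃ i, i < w i := by
        by_contra! hc
        refine hw (Equiv.ext fun i => ?_)
        have h1 : ∀ i ∈ (univ : Finset (Fin N)), ((w i : ℕ) : ℤ) ≤ ((i : ℕ) : ℤ) := fun i _ => by
          exact_mod_cast Fin.le_def.1 (hc i)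
        have h2 := (sum_eq_sum_iff_of_le h1).1 (Equiv.sum_comp w fun i : Fin N => ((i : ℕ) : ℤ))
        exact Fin.ext (by exact_mod_cast h2 i (mem_univ i))
      rw [col_eq_zero_of_neg (i := i) (by rw [hid]; have := Fin.lt_def.1 hi; omega), mul_zero]
    · exact fun c => absurd (mem_univ _) c
  | succ n ih =>
    intro X _ hn β h
    obtain ⟨t⟩ : Nonempty X := Fintype.card_pos_iff.1 (by omega)
    rw [chiB_orbit (T := {t}) (singleton_nonempty t) (fun x => by simp)
      (fun a ha b hb => by rw [mem_singleton.1 ha, mem_singleton.1 hb]) β]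
    have hsub : ((1 : Equiv.Perm X).subtypePerm (p := fun x => x ∉ ({t} : Finset X))
        (fun x => by simp)) = 1 := Equiv.ext fun x => by simp
    rw [hsub, card_singleton]
    have hn' : Fintype.card {x // x ∉ ({t} : Finset X)} = n := by
      rw [Fintype.card_subtype_compl, Fintype.card_coe, card_singleton, hn]; omega
    have hterm : ∀ i, (∀ j, β j ≠ β i - 1) → 1 ≤ β i →
        0 < chiB (1 : Equiv.Perm {x // x ∉ ({t} : Finset X)}) (β - Pi.single i ((1 : ℕ) : ℤ)) := by
      intro i hne h1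
      refine ih _ hn' _ ⟨fun a b hab => ?_, fun a => ?_, ?_⟩
      · have h2 := h.mono hab
        have := hne a
        simp only [Pi.sub_apply, Pi.single_apply, Nat.cast_one]
        split_ifs <;> subst_vars <;> first | omega | exact absurd rfl hab.ne
      · rcases eq_or_ne a i with rfl | ha
        · simp; omega
        · simp [ha, h.nonneg a]
      · simp only [Pi.sub_apply, sum_sub_distrib, sum_pi_single', mem_univ, if_true, h.sum_eq,
          Nat.cast_one, hn, hn']
        push_cast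
        ring
    refine sum_pos' (fun i _ => ?_) ?_
    · by_cases hi : (∀ j, β j ≠ β i - 1) ∧ 1 ≤ β i
      · exact (hterm i hi.1 hi.2).le
      · rcases not_and_or.1 hi with h1 | h1
        · push Not at h1
          obtain ⟨j, hj⟩ := h1
          rw [chiB_eq_zero_of_eq _ _ (i := j) (j := i) (fun e => by subst e; omega)
            (by simp [show j ≠ i from fun e => by subst e; omega, hj])]
        · rw [chiB_eq_zero_of_neg _ _ (i := i) (by simp; omega)]
    · by_contra! hc
      have hall : ∀ i, β i ≠ 0 → ∃ j, β j = β i - 1 := fun i hi => by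
        by_contra! hne
        exact absurd (hc i (mem_univ i)) (not_le.2 (hterm i hne (by have := h.nonneg i; omega)))
      have hle : ∀ (k : ℕ) (hk : k < N), β ⟨k, hk⟩ ≤ (k : ℤ) := by
        intro k
        induction k using Nat.strong_induction_on with
        | _ k ihk => ?_
        intro hk
        by_cases h0 : β ⟨k, hk⟩ = 0
        · omega
        obtain ⟨j, hj⟩ := hall _ h0
        have hjk : j.1 < k := Fin.lt_def.1 (h.mono.lt_iff_lt.1 (show β j < β ⟨k, hk⟩ by omega))
        have := ihk j.1 hjk j.2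
        simp only [Fin.eta] at this
        omega
      have h1 := Finset.sum_le_sum (s := (univ : Finset (Fin N))) fun i _ => hle i.1 i.2
      rw [h.sum_eq, hn] at h1
      push_cast at h1
      omega

/-- Non-vanishing at products of `w` disjoint `p`-cycles, with a uniform sign. -/
theorem sign_mul_chiB_pos [Fact p.Prime] {δ₀ : Fin N → ℤ} (hs₀ : ResSorted p δ₀)
    (h0₀ : ∀ i, 0 ≤ δ₀ i) (hc₀ : TupleCore p δ₀) :
    ∀ (w : ℕ) (X : Type u) [Fintype X] (g : Equiv.Perm X) (δ : Fin N → ℤ),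
      ResSorted p δ → (∀ i, 0 ≤ δ i) → natKey p δ = natKey p δ₀ →
      ∑ i, δ i = (Fintype.card X : ℤ) + ∑ i : Fin N, ((i : ℕ) : ℤ) →
      ∑ i, δ i = (Abacus.coreSum p (natKey p δ₀) : ℤ) + (p : ℤ) * w →
      g ^ p = 1 → g.support.card = p * w →
      0 < (Equiv.Perm.sign (Tuple.sort δ₀) : ℤ) * chiB g δ := by
  have hp : 0 < p := (Fact.out : p.Prime).pos
  intro w
  induction w with
  | zero =>
    intro X _ g δ hs h0 hk hX hw _ hg
    have hcore : TupleCore p δ := by
      intro i hpi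
      by_contra! hne
      have h0' : ∀ a, 0 ≤ (δ - Pi.single i (p : ℤ) : Fin N → ℤ) a := fun a => by
        rcases eq_or_ne a i with rfl | ha
        · simp; omega
        · simp [ha, h0 a]
      obtain ⟨v, hv⟩ := Abacus.exists_weight hp
        (hasKey_toSet (p := p) h0' (hs.sub_single i hne).injective)
      have h1 := sum_toSet h0' (hs.sub_single i hne).injective
      rw [hv, show natKey p (δ - Pi.single i (p : ℤ)) = natKey p δ from
        funext fun r => congrFun (keyOf_sub_single δ i) _, hk] at h1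
      simp only [Pi.sub_apply, sum_sub_distrib, sum_pi_single', mem_univ, if_true, hw] at h1
      push_cast at h1
      have : (0 : ℤ) ≤ (p : ℤ) * v := by positivity
      omega
    obtain rfl := eq_of_tupleCore hp hs hs₀ h0 h0₀ hcore hc₀ hk
    obtain rfl : g = 1 := Equiv.Perm.support_eq_empty_iff.1 (card_eq_zero.1 (by omega))
    have hb : IsBeta X (δ ∘ Tuple.sort δ) :=
      ⟨(Tuple.monotone_sort δ).strictMono_of_injective (hs.injective.comp (Tuple.sort δ).injective),
        fun i => h0 _, by rw [← hX]; exact Equiv.sum_comp (Tuple.sort δ) δ⟩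
    have := chiB_one_pos hb
    rwa [chiB_comp] at this
  | succ w ih =>
    intro X _ g δ hs h0 hk hX hw hgp hg
    have hsupp : g.support.Nonempty := card_pos.1 (by rw [hg]; exact Nat.mul_pos hp w.succ_pos)
    obtain ⟨t, ht⟩ := hsupp
    obtain ⟨T, hT⟩ : ∃ T : Finset X, T = (g.cycleOf t).support := ⟨_, rfl⟩
    have hc : (g.cycleOf t).IsCycle := Equiv.Perm.isCycle_cycleOf g (Equiv.Perm.mem_support.1 ht)
    have hcp : (g.cycleOf t).support.card = p := by
      rw [← hc.orderOf]
      have hmem : g.cycleOf t ∈ g.cycleFactorsFinset :=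
        Equiv.Perm.cycleOf_mem_cycleFactorsFinset_iff.2 ht
      have h1 : (g.cycleOf t).support.card ∣ orderOf g := Equiv.Perm.dvd_of_mem_cycleType (by
        rw [Equiv.Perm.cycleType_def, Multiset.mem_map]; exact ⟨_, hmem, rfl⟩)
      rw [← hc.orderOf] at h1
      rcases (Fact.out : p.Prime).eq_one_or_self_of_dvd _
          (h1.trans (orderOf_dvd_of_pow_eq_one hgp)) with h | h
      · have := hc.two_le_card_support
        rw [← hc.orderOf] at this
        omega
      · exact h
    have hmemT : ∀ a, a ∈ T ↔ g.SameCycle t a := fun a => by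
      rw [hT, Equiv.Perm.mem_support_cycleOf_iff, and_iff_left ht]
    have hy : ∀ a, a ∉ T ↔ g a ∉ T := fun a => by
      rw [hmemT, hmemT, Equiv.Perm.sameCycle_apply_right]
    have horb : ∀ a ∈ T, ∀ b ∈ T, g.SameCycle a b := fun a ha b hb =>
      ((hmemT a).1 ha).symm.trans ((hmemT b).1 hb)
    have hTc : T.card = p := hT ▸ hcp
    rw [chiB_orbit (card_pos.1 (by omega)) hy horb δ, mul_sum, hTc]
    set g' := g.subtypePerm (p := fun a => a ∉ T) (fun a => (hy a).symm)
    have hgp' : g' ^ p = 1 := by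
      refine Equiv.ext fun a => Subtype.ext ?_
      have hcoe : ∀ k : ℕ, ((g' ^ k) a : X) = (g ^ k) a := by
        intro k
        induction k with
        | zero => simp
        | succ k ihk => rw [pow_succ', pow_succ', Equiv.Perm.mul_apply, Equiv.Perm.mul_apply, ← ihk]; rfl
      rw [hcoe, hgp]; simp
    have hg' : g'.support.card = p * w := by
      have h1 : g'.support.map (Function.Embedding.subtype _) = g.support \ T := by
        ext a
        simp only [mem_map, Equiv.Perm.mem_support, Function.Embedding.coe_subtype, mem_sdiff]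
        constructor
        · rintro ⟨⟨b, hb⟩, hb', rfl⟩
          exact ⟨fun c => hb' (Subtype.ext c), hb⟩
        · rintro ⟨h1, h2⟩
          exact ⟨⟨a, h2⟩, fun c => h1 (congrArg Subtype.val c), rfl⟩
      have hsub : T ⊆ g.support := hT ▸ Equiv.Perm.support_cycleOf_le g t
      rw [← card_map (Function.Embedding.subtype _) (s := g'.support), h1,
        card_sdiff_of_subset hsub, hTc, hg, Nat.mul_succ, Nat.add_sub_cancel]
    have hcardX : (Fintype.card {a // a ∉ T} : ℤ) = (Fintype.card X : ℤ) - p := by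
      rw [Fintype.card_subtype_compl, Fintype.card_coe, hTc, Nat.cast_sub (hTc ▸ card_le_univ T)]
    have hsumi : ∀ i, ∑ a, (δ - Pi.single i (p : ℤ) : Fin N → ℤ) a = ∑ a, δ a - p := fun i => by
      simp [sum_sub_distrib]
    have hterm : ∀ i, (p : ℤ) ≤ δ i → (∀ j, δ j ≠ δ i - p) →
        0 < (Equiv.Perm.sign (Tuple.sort δ₀) : ℤ) * chiB g' (δ - Pi.single i (p : ℤ)) := by
      intro i hpi hne
      refine ih _ g' _ (hs.sub_single i hne) (fun a => ?_) ?_ ?_ ?_ hgp' (by convert hg')
      · rcases eq_or_ne a i with rfl | ha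
        · simp; omega
        · simp [ha, h0 a]
      · rw [← hk]; exact funext fun r => congrFun (keyOf_sub_single δ i) _
      · rw [hsumi, hX, hcardX]; ring
      · rw [hsumi, hw]; push_cast; ring
    refine sum_pos' (fun i _ => ?_) ?_
    · by_cases hi : (p : ℤ) ≤ δ i ∧ ∀ j, δ j ≠ δ i - p
      · exact (hterm i hi.1 hi.2).le
      · rcases not_and_or.1 hi with h1 | h1
        · rw [chiB_eq_zero_of_neg _ _ (i := i) (by simp; omega), mul_zero]
        · push Not at h1
          obtain ⟨j, hj⟩ := h1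
          have hp' : (0 : ℤ) < p := by exact_mod_cast hp
          rw [chiB_eq_zero_of_eq _ _ (i := j) (j := i) (fun e => by subst e; omega)
            (by simp [show j ≠ i from fun e => by subst e; omega, hj]), mul_zero]
    · by_contra! hc'
      have hcore : TupleCore p δ := fun i hpi => by
        by_contra! hne
        exact absurd (hc' i (mem_univ i)) (not_le.2 (hterm i hpi hne))
      have h1 := sum_of_tupleCore hp h0 hs.injective hcore
      rw [hk, hw] at h1
      have : (0 : ℤ) < (p : ℤ) * ((w + 1 : ℕ) : ℤ) := by positivity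
      omega

end Values

end CfsgLib.SymBlocks
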